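import Cfsg.Agent.Lib.AltEightThree.Setup

set_option autoImplicit false

/-!
The involution exchanging the two three-cycles, and the frame.
-/

namespace Cfsg.Lib.AltEightThree

open Equiv

variable {G : Type*} [Group G]

theorem pow_mod_three {x : G} (hx : x ^ 3 = 1) (i : ℕ) : x ^ i = x ^ (i % 3) :=
  pow_eq_pow_mod i hx

theorem normalizer_c3_sq : ∀ τ : Perm (Fin 5),
    τ * c3 * τ⁻¹ = c3 ^ 0 ∨ τ * c3 * τ⁻¹ = c3 ^ 1 ∨ τ * c3 * τ⁻¹ = c3 ^ 2 →
      τ * c3 * τ⁻¹ = c3 ∨ τ * c3 * τ⁻¹ = c3⁻¹ := by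
  decide +kernel

theorem card_normalizer_c3 :
    Fintype.card {τ : Perm (Fin 5) // τ * c3 * τ⁻¹ = c3 ∨ τ * c3 * τ⁻¹ = c3⁻¹} = 12 := by
  decide +kernel

theorem c3_pow_conj_d01_sign (k : ℕ) : Perm.sign (c3 ^ k * d01 * (c3 ^ k)⁻¹) = 1 := by
  simp [sign_c3, sign_d01]

theorem c3_order : c3 ^ 3 = 1 := by decide +kernel

theorem t34_c3 : t34 * c3 = c3 * t34 := by decide +kernel

theorem t34_sq : t34 * t34 = 1 := by decide +kernel

/-- The frame from the hypotheses of the characterisation. -/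
theorem exists_frame [Finite G] (D : Subgroup G) (y z : G)
    (hgen : Subgroup.closure {y, z} = D) (hcomm : IsMulCommutative D) (hcard : Nat.card D = 9)
    (hexp : ∀ a ∈ D, a ^ 3 = 1) (hC : Subgroup.centralizer (D : Set G) = D)
    (eN : Subgroup.normalizer (D : Set G) ⧸ D.subgroupOf (Subgroup.normalizer (D : Set G)) ≃*
      DihedralGroup 4)
    (hycard : Nat.card (Subgroup.centralizer ({y} : Set G)) = 18)
    (eL : Subgroup.normalizer (Subgroup.zpowers z : Set G) ≃*
      (((Perm.sign).comp (MonoidHom.fst (Perm (Fin 3)) (Perm (Fin 5)))) *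
        ((Perm.sign).comp (MonoidHom.snd (Perm (Fin 3)) (Perm (Fin 5))))).ker) :
    Nonempty (Frame G) := by
  have hyD : y ∈ D := hgen ▸ Subgroup.subset_closure (by simp)
  have hzD : z ∈ D := hgen ▸ Subgroup.subset_closure (by simp)
  have hcD : ∀ a ∈ D, ∀ b ∈ D, a * b = b * a := fun a ha b hb =>
    congrArg Subtype.val (hcomm.is_comm.comm ⟨a, ha⟩ ⟨b, hb⟩)
  have hz3 : z ^ 3 = 1 := hexp z hzD
  have hsingle : ∀ a ∈ D, D ≠ Subgroup.zpowers a := by
    intro a ha h
    have h1 : Nat.card (Subgroup.zpowers a) ≤ 3 := by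
      rw [Nat.card_zpowers]; exact orderOf_le_of_pow_eq_one (by norm_num) (hexp a ha)
    rw [← h, hcard] at h1
    omega
  have hz1 : z ≠ 1 := by
    rintro rfl
    refine hsingle y hyD (le_antisymm ?_ ((Subgroup.zpowers_le).mpr hyD))
    conv_lhs => rw [← hgen]
    rw [Subgroup.closure_le]
    rintro x (rfl | rfl)
    · exact Subgroup.mem_zpowers x
    · exact one_mem _
  obtain ⟨S0, hS0⟩ := exists_pre z hz3 hz1 eL
  obtain ⟨d, hdD, hdz⟩ : ∃ d ∈ D, d ∉ Subgroup.zpowers z := by
    by_contra h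
    push Not at h
    exact hsingle z hzD (le_antisymm h ((Subgroup.zpowers_le).mpr hzD))
  obtain ⟨i0, τ0, hτ0, hd⟩ := S0.cent d (by rw [hS0]; exact hcD d hdD z hzD)
  rw [hS0] at hd
  have hu0D : S0.F τ0 ∈ D := by
    have : S0.F τ0 = (z ^ i0)⁻¹ * d := by rw [hd, inv_mul_cancel_left]
    rw [this]; exact mul_mem (inv_mem (pow_mem hzD _)) hdD
  have hτ0ne : τ0 ≠ 1 := by
    rintro rfl
    exact hdz (by rw [hd, map_one, mul_one]; exact pow_mem (Subgroup.mem_zpowers z) _)
  have hτ03 : τ0 ^ 3 = 1 := S0.F_inj (by rw [map_pow, map_one]; exact hexp _ hu0D)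
  obtain ⟨π, hπ⟩ := c3_conj τ0 hτ03 hτ0ne
  obtain ⟨S, hSz, hu⟩ : ∃ S : Pre G, S.z = z ∧ S.F c3 ∈ D :=
    ⟨S0.relabel π, hS0, by simp [Pre.relabel, MulAut.conj_apply, hπ, hu0D]⟩
  clear hu0D hd hτ03 hπ
  subst hSz
  set u : G := S.F c3 with hu_def
  have hzu : u * S.z = S.z * u := S.even_comm c3 sign_c3
  have hu3 : u ^ 3 = 1 := by rw [hu_def, ← map_pow, c3_order, map_one]
  have hDmem : ∀ x ∈ D, ∃ i j : ℕ, i < 3 ∧ j < 3 ∧ x = S.z ^ i * u ^ j := by
    intro x hx
    obtain ⟨i, τ, hτ, rfl⟩ := S.cent x (hcD x hx _ hzD)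
    have hFD : S.F τ ∈ D := by
      have := mul_mem (inv_mem (pow_mem hzD i)) hx
      simpa using this
    have hcom : τ * c3 = c3 * τ := S.F_inj (by
      rw [map_mul, map_mul]; exact hcD _ hFD _ hu)
    rcases c3_cent τ hτ hcom with rfl | rfl | rfl
    · exact ⟨i % 3, 0, by omega, by omega, by rw [map_pow, ← pow_mod_three S.z3]⟩
    · exact ⟨i % 3, 1, by omega, by omega, by rw [map_pow, ← pow_mod_three S.z3]⟩
    · exact ⟨i % 3, 2, by omega, by omega, by rw [map_pow, ← pow_mod_three S.z3]⟩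
  -- `b` inverts `z` and fixes `u`
  set b : G := S.F t34 with hb_def
  have hbb : b * b = 1 := by rw [hb_def, ← map_mul, t34_sq, map_one]
  have hbz : b * S.z * b⁻¹ = S.z⁻¹ := S.odd_inv _ sign_t34
  have hbu : b * u * b⁻¹ = u := by
    rw [mul_inv_eq_iff_eq_mul, hb_def, hu_def, ← map_mul, t34_c3, map_mul]
  have hbpow : ∀ i j : ℕ, b * (S.z ^ i * u ^ j) * b⁻¹ = (S.z ^ i)⁻¹ * u ^ j := by
    intro i j
    have h1 : MulAut.conj b (S.z ^ i * u ^ j) = (MulAut.conj b S.z) ^ i * (MulAut.conj b u) ^ j := by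
      rw [map_mul, map_pow, map_pow]
    simpa only [MulAut.conj_apply, hbz, hbu, inv_pow] using h1
  have hbN : b ∈ Subgroup.normalizer (D : Set G) := by
    refine mem_normalizer_of_forall fun x hx => ?_
    obtain ⟨i, j, _, _, rfl⟩ := hDmem x hx
    rw [hbpow]
    exact mul_mem (inv_mem (pow_mem hzD _)) (pow_mem hu _)
  -- some element of the normaliser of `D` moves `z` out of its cyclic group, then to the line of `u`
  let ND := Subgroup.normalizer (D : Set G)
  have hND : Nat.card ND = 72 := by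
    have h1 := Subgroup.card_eq_card_quotient_mul_card_subgroup (D.subgroupOf ND)
    rw [Nat.card_congr eN.toEquiv, DihedralGroup.nat_card,
      Nat.card_congr (Subgroup.subgroupOfEquivOfLe Subgroup.le_normalizer).toEquiv, hcard] at h1
    exact h1
  let NZ := Subgroup.normalizer (Subgroup.zpowers S.z : Set G)
  let A := {τ : Perm (Fin 5) // τ * c3 * τ⁻¹ = c3 ∨ τ * c3 * τ⁻¹ = c3⁻¹}
  have hSmem : ∀ (i : ℕ) (τ : A), S.z ^ i * S.F τ.1 ∈ ND ⊓ NZ := by
    intro i τ
    have hzmem : S.z ^ i ∈ ND ⊓ NZ :=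
      ⟨Subgroup.le_normalizer (pow_mem hzD i),
        mem_normalizer_of_cent ((Commute.refl S.z).pow_left i)⟩
    refine mul_mem hzmem ⟨?_, ?_⟩
    · have keyz : S.F τ.1 * S.z * (S.F τ.1)⁻¹ ∈ D := by
        rcases Int.units_eq_one_or (Perm.sign τ.1) with h | h
        · rw [S.even_comm _ h, mul_inv_cancel_right]; exact hzD
        · rw [S.odd_inv _ h]; exact inv_mem hzD
      have keyu : S.F τ.1 * u * (S.F τ.1)⁻¹ ∈ D := by
        rw [hu_def, ← map_inv, ← map_mul, ← map_mul]
        rcases τ.2 with h | h <;> rw [h]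
        · exact hu
        · rw [map_inv]; exact inv_mem hu
      refine mem_normalizer_of_forall fun x hx => ?_
      obtain ⟨i, j, _, _, rfl⟩ := hDmem x hx
      change MulAut.conj (S.F τ.1) _ ∈ D
      rw [map_mul, map_pow, map_pow]
      exact mul_mem (pow_mem keyz _) (pow_mem keyu _)
    · refine mem_normalizer_of_forall fun x hx => ?_
      have hz' : MulAut.conj (S.F τ.1) S.z ∈ Subgroup.zpowers S.z := by
        rcases Int.units_eq_one_or (Perm.sign τ.1) with h | h
        · rw [MulAut.conj_apply, S.even_comm _ h, mul_inv_cancel_right]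
          exact Subgroup.mem_zpowers _
        · rw [MulAut.conj_apply, S.odd_inv _ h]; exact inv_mem (Subgroup.mem_zpowers _)
      obtain ⟨k, rfl⟩ := hx
      change MulAut.conj (S.F τ.1) (S.z ^ k) ∈ _
      rw [map_zpow]
      exact zpow_mem hz' k
  have h36 : 36 ≤ Nat.card (ND ⊓ NZ : Subgroup G) := by
    let f : Fin 3 × A → (ND ⊓ NZ : Subgroup G) := fun p => ⟨_, hSmem p.1.1 p.2⟩
    have hf : Function.Injective f := by
      rintro ⟨i, τ⟩ ⟨i', τ'⟩ h
      have h' : S.z ^ i.1 * S.F τ.1 = S.z ^ i'.1 * S.F τ'.1 := congrArg Subtype.val h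
      have h2 : S.z ^ (i.1 + (3 - i'.1)) = S.F (τ'.1 * τ.1⁻¹) := by
        have hinv : S.z ^ (3 - i'.1) = (S.z ^ i'.1)⁻¹ := by
          rw [eq_inv_iff_mul_eq_one, ← pow_add, Nat.sub_add_cancel (by omega), S.z3]
        have h4 : S.z ^ (i.1 + (3 - i'.1)) = (S.z ^ i'.1)⁻¹ * S.z ^ i.1 := by
          rw [Nat.add_comm i.1, pow_add, hinv]
        rw [h4, map_mul, map_inv, eq_mul_inv_iff_mul_eq, mul_assoc, h', inv_mul_cancel_left]
      obtain ⟨h5, h6⟩ := S.z_pow_F_eq h2
      have h7 : τ' = τ := Subtype.ext (by simpa using eq_of_mul_inv_eq_one h6)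
      have h8 : i = i' := Fin.ext (by omega)
      rw [h7, h8]
    have := Nat.card_le_card_of_injective f hf
    rw [Nat.card_eq_fintype_card, Fintype.card_prod, Fintype.card_fin, card_normalizer_c3] at this
    exact this
  have hcard_z : (18 : ℕ) < Nat.card (Subgroup.centralizer ({S.z} : Set G)) := by
    have := S.sixty_le_card_cent; omega
  have hNne : ∃ g ∈ ND, g * S.z * g⁻¹ ∉ Subgroup.zpowers S.z := by
    by_contra hcon
    push Not at hcon
    have hle : ND ≤ NZ := by
      intro g hg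
      refine mem_normalizer_of_forall fun x hx => ?_
      obtain ⟨k, rfl⟩ := hx
      change MulAut.conj g (S.z ^ k) ∈ _
      rw [map_zpow]
      exact zpow_mem (hcon g hg) k
    -- every element of `ND` then has one of thirty-six forms
    let f : ND → Fin 3 × A := fun g => Classical.choose (show ∃ p : Fin 3 × A,
        (g : G) = S.z ^ p.1.1 * S.F p.2.1 from by
      have hg := hle g.2
      have hgz : (g : G) * S.z * (g : G)⁻¹ ∈ Subgroup.zpowers S.z :=
        conj_mem_normalizer hg (Subgroup.mem_zpowers _)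
      have step : ∀ (h : G) (i : ℕ) (τ : Perm (Fin 5)), h ∈ ND → h = S.z ^ i * S.F τ →
          ∃ p : Fin 3 × A, h = S.z ^ p.1.1 * S.F p.2.1 := by
        intro h i τ hh he
        have hF : S.F τ ∈ ND := by
          have := mul_mem (inv_mem (Subgroup.le_normalizer (pow_mem hzD i) :
            S.z ^ i ∈ ND)) hh
          rwa [he, inv_mul_cancel_left] at this
        have hFu : S.F τ * u * (S.F τ)⁻¹ ∈ D := conj_mem_normalizer hF hu
        obtain ⟨a, c, ha, hc, hac⟩ := hDmem _ hFu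
        have h2 : S.z ^ a = S.F (τ * c3 * τ⁻¹ * (c3 ^ c)⁻¹) := by
          simp only [map_mul, map_inv, map_pow, ← hu_def, hac, mul_inv_cancel_right]
        obtain ⟨_, h6⟩ := S.z_pow_F_eq h2
        have h7 : τ * c3 * τ⁻¹ = c3 ^ c := eq_of_mul_inv_eq_one h6
        have h8 : τ * c3 * τ⁻¹ = c3 ∨ τ * c3 * τ⁻¹ = c3⁻¹ := by
          apply normalizer_c3_sq
          rcases (by omega : c = 0 ∨ c = 1 ∨ c = 2) with rfl | rfl | rfl
          · exact Or.inl h7
          · exact Or.inr (Or.inl h7)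
          · exact Or.inr (Or.inr h7)
        exact ⟨(⟨i % 3, by omega⟩, ⟨τ, h8⟩), by rw [he, pow_mod_three S.z3 i]⟩
      rcases zpowers_three S.z3 hgz with h | h | h
      · exact absurd (conj_eq_one_iff.mp h) S.z_ne
      · obtain ⟨i, τ, _, hiτ⟩ := S.cent g (mul_inv_eq_iff_eq_mul.mp h)
        exact step g i τ g.2 hiτ
      · have hgb : ((g : G) * b) * S.z = S.z * ((g : G) * b) := by
          refine mul_inv_eq_iff_eq_mul.mp ?_
          calc (g : G) * b * S.z * ((g : G) * b)⁻¹ = g * (b * S.z * b⁻¹) * (g : G)⁻¹ := by group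
            _ = ((g : G) * S.z * (g : G)⁻¹)⁻¹ := by rw [hbz]; group
            _ = S.z := by rw [h, inv_eq_iff_mul_eq_one, ← pow_succ, S.z3]
        obtain ⟨i, τ, _, hiτ⟩ := S.cent _ hgb
        refine step g i (τ * t34) g.2 ?_
        rw [map_mul, ← mul_assoc, ← hiτ, mul_assoc, ← hb_def, hbb, mul_one])
    have hf : Function.Injective f := by
      intro g g' h
      have e1 : (g : G) = S.z ^ (f g).1.1 * S.F (f g).2.1 := Classical.choose_spec (_ : ∃ p : Fin 3 × A,
        (g : G) = S.z ^ p.1.1 * S.F p.2.1)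
      have e2 : (g' : G) = S.z ^ (f g').1.1 * S.F (f g').2.1 := Classical.choose_spec (_ : ∃ p : Fin 3 × A,
        (g' : G) = S.z ^ p.1.1 * S.F p.2.1)
      exact Subtype.ext (by rw [e1, e2, h])
    have := Nat.card_le_card_of_injective f hf
    rw [hND, Nat.card_eq_fintype_card, Fintype.card_prod, Fintype.card_fin, card_normalizer_c3] at this
    omega
  obtain ⟨g, hgN, hgz⟩ := hNne
  obtain ⟨i, j, hi, hj, hij⟩ := hDmem _ (conj_mem_normalizer hgN hzD)
  have hj0 : j ≠ 0 := by
    rintro rfl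
    exact hgz (by rw [hij, pow_zero, mul_one]; exact pow_mem (Subgroup.mem_zpowers _) _)
  have hi0 : i = 0 := by
    by_contra hi0
    -- three lines in an orbit of size two
    let NDz := (ND ⊓ NZ).subgroupOf ND
    have hidx : NDz.index = 2 := by
      have h1 := Subgroup.card_mul_index NDz
      rw [Nat.card_congr (Subgroup.subgroupOfEquivOfLe (inf_le_left : ND ⊓ NZ ≤ ND)).toEquiv, hND] at h1
      have h2 : NDz.index ≠ 1 := by
        rw [Ne, Subgroup.index_eq_one]
        intro htop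
        have : (⟨g, hgN⟩ : ND) ∈ NDz := htop ▸ Subgroup.mem_top _
        exact hgz (conj_mem_normalizer this.2 (Subgroup.mem_zpowers _))
      have h3 : NDz.index ≠ 0 := Subgroup.index_ne_zero_of_finite
      nlinarith [Nat.two_le_iff NDz.index |>.mpr ⟨h3, h2⟩]
    have hgnot : (⟨g, hgN⟩ : ND) ∉ NDz := fun h =>
      hgz (conj_mem_normalizer h.2 (Subgroup.mem_zpowers _))
    have hbgnot : (⟨b * g, mul_mem hbN hgN⟩ : ND) ∉ NDz := by
      intro h
      have h1 : b * g * S.z * (b * g)⁻¹ ∈ Subgroup.zpowers S.z :=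
        conj_mem_normalizer h.2 (Subgroup.mem_zpowers S.z)
      have h2 : b * g * S.z * (b * g)⁻¹ = (S.z ^ i)⁻¹ * u ^ j := by
        rw [← hbpow, ← hij]; group
      rw [h2] at h1
      have h3 : u ^ j ∈ Subgroup.zpowers S.z := by
        have := mul_mem (pow_mem (Subgroup.mem_zpowers S.z) i) h1
        rwa [mul_inv_cancel_left] at this
      exact hgz (hij ▸ mul_mem (pow_mem (Subgroup.mem_zpowers _) _) h3)
    have hmem := (Subgroup.mul_mem_iff_of_index_two hidx
      (a := (⟨g, hgN⟩ : ND)⁻¹) (b := ⟨b * g, mul_mem hbN hgN⟩)).mpr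
      ⟨fun h => absurd (inv_mem_iff.mp h) hgnot, fun h => absurd h hbgnot⟩
    -- so `b` normalises the line of `g z g⁻¹`
    have h1 := conj_mem_normalizer hmem.2 (Subgroup.mem_zpowers S.z)
    have h2 : MulAut.conj g (g⁻¹ * (b * g) * S.z * (g⁻¹ * (b * g))⁻¹) ∈
        (Subgroup.zpowers S.z).map (MulAut.conj g).toMonoidHom := ⟨_, h1, rfl⟩
    rw [MonoidHom.map_zpowers, MulAut.conj_apply] at h2
    have h3 : g * (g⁻¹ * (b * g) * S.z * (g⁻¹ * (b * g))⁻¹) * g⁻¹ = b * (g * S.z * g⁻¹) * b⁻¹ := by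
      group
    rw [h3, hij, hbpow] at h2
    have hx3 : (S.z ^ i * u ^ j) ^ 3 = 1 := hexp _ (mul_mem (pow_mem hzD _) (pow_mem hu _))
    have h4 : ((MulAut.conj g).toMonoidHom S.z) = S.z ^ i * u ^ j := hij
    rw [h4] at h2
    have hcz : Commute (S.z ^ i) (u ^ j) := ((show Commute S.z u from hzu.symm).pow_left _).pow_right _
    -- compare exponents
    have key : ∀ (a c : ℕ), S.z ^ a * u ^ c = 1 → a % 3 = 0 ∧ c % 3 = 0 := by
      intro a c h
      have h' : S.z ^ a = S.F (c3 ^ c)⁻¹ := by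
        rw [map_inv, map_pow, ← hu_def]; exact eq_inv_of_mul_eq_one_left h
      obtain ⟨ha, hc⟩ := S.z_pow_F_eq h'
      refine ⟨ha, ?_⟩
      have hc' : c3 ^ c = 1 := inv_eq_one.mp hc
      have hc'' : c3 ^ (c % 3) = 1 := by rw [← pow_eq_pow_mod c c3_order, hc']
      rcases (by omega : c % 3 = 0 ∨ c % 3 = 1 ∨ c % 3 = 2) with h | h | h
      · exact h
      · rw [h] at hc''; exact absurd hc'' (by decide +kernel)
      · rw [h] at hc''; exact absurd hc'' (by decide +kernel)
    rcases zpowers_three hx3 h2 with h | h | h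
    · have : S.z ^ (2 * i) * u ^ j = 1 := by
        have hinv : (S.z ^ i)⁻¹ = S.z ^ (2 * i) := by
          rw [inv_eq_iff_mul_eq_one, ← pow_add, show i + 2 * i = 3 * i by omega, pow_mul, S.z3, one_pow]
        rwa [hinv] at h
      have := key _ _ this
      omega
    · have : S.z ^ (2 * i) = S.z ^ 0 * 1 := by
        rw [pow_zero, one_mul]
        have h' := mul_right_cancel h
        calc S.z ^ (2 * i) = S.z ^ i * S.z ^ i := by rw [two_mul, pow_add]
          _ = S.z ^ i * (S.z ^ i)⁻¹ := by rw [h']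
          _ = 1 := mul_inv_cancel _
      rw [pow_zero, one_mul] at this
      have := key _ 0 (by rw [this, pow_zero, one_mul])
      omega
    · have hinv : (S.z ^ i)⁻¹ = S.z ^ (2 * i) := by
          rw [inv_eq_iff_mul_eq_one, ← pow_add, show i + 2 * i = 3 * i by omega, pow_mul, S.z3, one_pow]
      rw [hinv, hcz.mul_pow, ← pow_mul, ← pow_mul, show i * 2 = 2 * i by omega] at h
      have h' := mul_left_cancel h
      have : S.z ^ 0 * u ^ j = 1 := by
        rw [pow_zero, one_mul]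
        calc u ^ j = (u ^ j)⁻¹ * u ^ (j * 2) := by rw [pow_mul, pow_two, inv_mul_cancel_left]
          _ = 1 := by rw [← h', inv_mul_cancel]
      have := key _ _ this
      omega
  subst hi0
  rw [pow_zero, one_mul] at hij
  -- the centralisers
  have hcard_u : 18 < Nat.card (Subgroup.centralizer ({u} : Set G)) := by
    rcases (by omega : j = 1 ∨ j = 2) with rfl | rfl
    · rw [pow_one] at hij; rw [← hij, card_cent_conj]; exact hcard_z
    · have hu2 : u ^ 2 = u⁻¹ := by rw [eq_inv_iff_mul_eq_one, ← pow_succ, hu3]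
      rw [← card_cent_inv, ← hu2, ← hij, card_cent_conj]; exact hcard_z
  have hcy : Nat.card (Subgroup.centralizer ({S.z * u} : Set G)) = 18 := by
    obtain ⟨a, c, ha, hc, rfl⟩ := hDmem y hyD
    have hz2 : S.z ^ 2 = S.z⁻¹ := by rw [eq_inv_iff_mul_eq_one, ← pow_succ, S.z3]
    have hu2 : u ^ 2 = u⁻¹ := by rw [eq_inv_iff_mul_eq_one, ← pow_succ, hu3]
    have hcomzu : Commute S.z u := hzu.symm
    have hb1 : b * (S.z * u) * b⁻¹ = S.z⁻¹ * u := by simpa using hbpow 1 1
    rcases (by omega : a = 0 ∨ a = 1 ∨ a = 2) with rfl | rfl | rfl <;>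
      rcases (by omega : c = 0 ∨ c = 1 ∨ c = 2) with rfl | rfl | rfl
    · exfalso
      rw [pow_zero, pow_zero, one_mul] at hgen
      refine hsingle S.z hzD (le_antisymm ?_ ((Subgroup.zpowers_le).mpr hzD))
      conv_lhs => rw [← hgen]
      rw [Subgroup.closure_le]
      rintro x (rfl | rfl)
      · exact one_mem _
      · exact Subgroup.mem_zpowers _
    · exfalso; rw [pow_zero, one_mul, pow_one] at hycard; omega
    · exfalso; rw [pow_zero, one_mul, hu2, card_cent_inv] at hycard; omega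
    · exfalso; rw [pow_zero, mul_one, pow_one] at hycard; omega
    · simpa using hycard
    · rw [pow_one, hu2] at hycard
      have : (S.z⁻¹ * u)⁻¹ = S.z * u⁻¹ := by rw [mul_inv_rev, inv_inv]; exact (hcomzu.inv_right).eq.symm
      rw [← this, card_cent_inv, ← hb1, card_cent_conj] at hycard
      exact hycard
    · exfalso; rw [pow_zero, mul_one, hz2, card_cent_inv] at hycard; omega
    · rw [pow_one, hz2, ← hb1, card_cent_conj] at hycard
      exact hycard
    · rw [hz2, hu2] at hycard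
      have : (S.z * u)⁻¹ = S.z⁻¹ * u⁻¹ := by rw [mul_inv_rev]; exact (hcomzu.inv_inv).eq.symm
      rw [← this, card_cent_inv] at hycard
      exact hycard
  -- the involution in the centraliser of `z u`
  set Cy := Subgroup.centralizer ({S.z * u} : Set G) with hCy
  obtain ⟨s', hs'⟩ := exists_prime_orderOf_dvd_card' (G := Cy) 2 (by rw [hcy]; norm_num)
  have hDle : D ≤ Cy := fun x hx => mem_cent_singleton.mpr (hcD x hx _ (mul_mem hzD hu))
  have hDn : (D.subgroupOf Cy).Normal := by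
    apply Subgroup.normal_of_index_eq_two
    have h1 := Subgroup.card_mul_index (D.subgroupOf Cy)
    rw [Nat.card_congr (Subgroup.subgroupOfEquivOfLe hDle).toEquiv, hcard, hcy] at h1
    omega
  set s : G := (s' : G) with hs_def
  have hss : s * s = 1 := by
    have h2 : s' ^ 2 = 1 := by rw [← hs']; exact pow_orderOf_eq_one s'
    rw [hs_def, ← Subgroup.coe_mul, ← pow_two, h2]; rfl
  have hsinv : s⁻¹ = s := inv_eq_of_mul_eq_one_right hss
  have hsne : s ∉ D := by
    intro h
    have h3 := hexp s h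
    have h1 : s = 1 := by
      calc s = s ^ 3 := by rw [pow_succ, pow_two, hss, one_mul]
        _ = 1 := h3
    have : s' = 1 := Subtype.ext h1
    rw [this, orderOf_one] at hs'
    norm_num at hs'
  have hsD : ∀ x ∈ D, s * x * s ∈ D := by
    intro x hx
    have h' : s * x * s⁻¹ ∈ D := hDn.conj_mem ⟨x, hDle hx⟩ hx s'
    rwa [hsinv] at h'
  have hsy : s * (S.z * u) = (S.z * u) * s := mem_cent_singleton.mp s'.2
  have hsyy : (s * S.z * s) * (s * u * s) = S.z * u := by
    calc (s * S.z * s) * (s * u * s) = s * (S.z * u) * s := by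
          simp only [mul_assoc]; rw [← mul_assoc s s, hss, one_mul]
      _ = S.z * u := by rw [hsy, mul_assoc, hss, mul_one]
  have hconj_card : ∀ x, Nat.card (Subgroup.centralizer ({s * x * s} : Set G)) =
      Nat.card (Subgroup.centralizer ({x} : Set G)) := by
    intro x
    calc _ = Nat.card (Subgroup.centralizer ({s * x * s⁻¹} : Set G)) := by rw [hsinv]
      _ = _ := card_cent_conj s x
  have hz2 : S.z ^ 2 = S.z⁻¹ := by rw [eq_inv_iff_mul_eq_one, ← pow_succ, S.z3]
  have hu2 : u ^ 2 = u⁻¹ := by rw [eq_inv_iff_mul_eq_one, ← pow_succ, hu3]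
  have hcomzu : Commute S.z u := hzu.symm
  have hb1 : b * (S.z * u) * b⁻¹ = S.z⁻¹ * u := by simpa using hbpow 1 1
  have hsz : s * S.z * s = u := by
    obtain ⟨a, c, ha, hc, hac⟩ := hDmem _ (hsD _ hzD)
    have hcd := hconj_card S.z
    rw [hac] at hcd
    rcases (by omega : a = 0 ∨ a = 1 ∨ a = 2) with rfl | rfl | rfl <;>
      rcases (by omega : c = 0 ∨ c = 1 ∨ c = 2) with rfl | rfl | rfl
    · exfalso
      apply S.z_ne
      rw [pow_zero, pow_zero, one_mul] at hac
      calc S.z = s * (s * S.z * s) * s := by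
            simp only [← mul_assoc]; rw [hss, one_mul, mul_assoc, hss, mul_one]
        _ = 1 := by rw [hac, mul_one, hss]
    · rw [hac, pow_zero, one_mul, pow_one]
    · exfalso
      rw [pow_zero, one_mul, hu2] at hac
      -- then `s u s = z⁻¹`, so `z u` is inverted
      have hsus : s * u * s = S.z⁻¹ := by
        calc s * u * s = (s * u⁻¹ * s)⁻¹ := by simp only [mul_inv_rev, inv_inv, hsinv, mul_assoc]
          _ = (s * (s * S.z * s) * s)⁻¹ := by rw [hac]
          _ = S.z⁻¹ := by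
            simp only [← mul_assoc]; rw [hss, one_mul, mul_assoc, hss, mul_one]
      rw [hac, hsus] at hsyy
      have h2 : S.z ^ 2 * u ^ 2 = 1 → False := fun h => by
        have h' : S.z ^ 2 = S.F (c3 ^ 2)⁻¹ := by
          rw [map_inv, map_pow, ← hu_def]; exact eq_inv_of_mul_eq_one_left h
        have := (S.z_pow_F_eq h').1
        norm_num at this
      apply h2
      have : (S.z * u) * (S.z * u) = 1 := by
        calc (S.z * u) * (S.z * u) = (u⁻¹ * S.z⁻¹) * (S.z * u) := by rw [hsyy]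
          _ = 1 := by group
      rwa [pow_two, pow_two, ← hcomzu.symm.mul_mul_mul_comm]
    · exfalso
      rw [pow_zero, mul_one, pow_one] at hac
      rw [hac] at hsyy
      have hsus := mul_left_cancel hsyy
      apply hsne
      rw [← hC, Subgroup.mem_centralizer_iff]
      intro x hx
      obtain ⟨k, l, _, _, rfl⟩ := hDmem x hx
      have e1 : Commute s S.z := show s * S.z = S.z * s by
        calc s * S.z = s * S.z * (s * s) := by rw [hss, mul_one]
          _ = S.z * s := by rw [← mul_assoc, hac]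
      have e2 : Commute s u := show s * u = u * s by
        calc s * u = s * u * (s * s) := by rw [hss, mul_one]
          _ = u * s := by rw [← mul_assoc, hsus]
      exact ((e1.pow_right k).mul_right (e2.pow_right l)).eq.symm
    · exfalso; rw [pow_one, pow_one, hcy] at hcd; omega
    · exfalso
      have h' : (S.z⁻¹ * u)⁻¹ = S.z * u⁻¹ := by
        rw [mul_inv_rev, inv_inv]; exact (hcomzu.inv_right).eq.symm
      rw [pow_one, hu2, ← h', card_cent_inv, ← hb1, card_cent_conj, hcy] at hcd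
      omega
    · exfalso
      rw [pow_zero, mul_one, hz2] at hac
      rw [hac] at hsyy
      have hsus : s * u * s = S.z ^ 2 * u := by
        calc s * u * s = S.z * (S.z⁻¹ * (s * u * s)) := by rw [mul_inv_cancel_left]
          _ = S.z * (S.z * u) := by rw [hsyy]
          _ = S.z ^ 2 * u := by rw [← mul_assoc, pow_two]
      have hcd2 := hconj_card u
      rw [hsus, hz2, ← hb1, card_cent_conj, hcy] at hcd2
      omega
    · exfalso; rw [hz2, pow_one, ← hb1, card_cent_conj, hcy] at hcd; omega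
    · exfalso
      have h' : (S.z * u)⁻¹ = S.z⁻¹ * u⁻¹ := by rw [mul_inv_rev]; exact (hcomzu.inv_inv).eq.symm
      rw [hz2, hu2, ← h', card_cent_inv, hcy] at hcd
      omega
  have hsu : s * u * s = S.z := by
    rw [← hsz]; simp only [← mul_assoc]; rw [hss, one_mul, mul_assoc, hss, mul_one]
  -- the conjugate of `b` by `s`
  have hsb_cz : (s * b * s) * S.z = S.z * (s * b * s) := by
    have hbu' : b * u = u * b := mul_inv_eq_iff_eq_mul.mp hbu
    calc (s * b * s) * S.z = (s * b * s) * (s * u * s) := by rw [hsu]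
      _ = s * (b * u) * s := by simp only [mul_assoc]; rw [← mul_assoc s s, hss, one_mul]
      _ = s * (u * b) * s := by rw [hbu']
      _ = (s * u * s) * (s * b * s) := by simp only [mul_assoc]; rw [← mul_assoc s s, hss, one_mul]
      _ = S.z * (s * b * s) := by rw [hsu]
  obtain ⟨i1, τ1, hτ1, h1⟩ := S.cent _ hsb_cz
  have hinv_u : (s * b * s) * u * (s * b * s)⁻¹ = u⁻¹ := by
    calc (s * b * s) * u * (s * b * s)⁻¹ = s * (b * (s * u * s) * b⁻¹) * s := by
          simp only [mul_inv_rev, hsinv, mul_assoc]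
      _ = s * S.z⁻¹ * s := by rw [hsu, hbz]
      _ = (s * S.z * s)⁻¹ := by simp only [mul_inv_rev, hsinv, mul_assoc]
      _ = u⁻¹ := by rw [hsz]
  have hzF : Commute (S.z ^ i1) (S.F τ1) := (S.comm_z_pow_F hτ1 i1).symm
  have hsq : (S.z ^ i1 * S.F τ1) * (S.z ^ i1 * S.F τ1) = 1 := by
    rw [← h1]
    calc s * b * s * (s * b * s) = s * (b * b) * s := by
          simp only [mul_assoc]; rw [← mul_assoc s s, hss, one_mul]
      _ = 1 := by rw [hbb, mul_one, hss]
  rw [hzF.symm.mul_mul_mul_comm, ← pow_add, ← map_mul] at hsq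
  obtain ⟨hi1, hτsq⟩ : (i1 + i1) % 3 = 0 ∧ (τ1 * τ1)⁻¹ = 1 := S.z_pow_F_eq (by
    rw [map_inv]; exact eq_inv_of_mul_eq_one_left hsq)
  have hzi1 : S.z ^ i1 = 1 := by
    rw [pow_mod_three S.z3, show i1 % 3 = 0 by omega, pow_zero]
  rw [hzi1, one_mul] at h1
  have hτc : τ1 * c3 * τ1⁻¹ = c3⁻¹ := S.F_inj (by
    rw [map_mul, map_mul, map_inv, map_inv, ← hu_def, ← h1]; exact hinv_u)
  obtain ⟨k, hk⟩ : ∃ k : ℕ, τ1 = c3 ^ k * d01 * (c3 ^ k)⁻¹ := by
    rcases c3_inv_invol τ1 hτ1 (inv_eq_one.mp hτsq) hτc with h | h | h <;> exact ⟨_, h⟩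
  -- conjugate by a power of `z`
  let c : G := (S.z ^ k)⁻¹
  let F' : Perm (Fin 5) →* G := (MulAut.conj c).toMonoidHom.comp S.F
  have hF' : ∀ τ, Perm.sign τ = 1 → F' τ = S.F τ := by
    intro τ hτ
    change c * S.F τ * c⁻¹ = S.F τ
    rw [mul_inv_eq_iff_eq_mul]
    exact ((show Commute (S.F τ) (S.z ^ k) from S.comm_z_pow_F hτ k).inv_right).eq.symm
  have hcz : c * S.z = S.z * c := ((Commute.refl S.z).pow_left k).inv_left.eq
  refine ⟨⟨S.z, F', s, (MulAut.conj c).injective.comp S.F_inj, S.z3, S.z_ne, ?_, ?_, ?_, ?_, hss,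
    ?_, ?_, ?_⟩⟩
  · intro τ h
    apply S.F_ne_z τ
    apply (MulAut.conj c).injective
    rw [MulAut.conj_apply, MulAut.conj_apply, hcz, mul_inv_cancel_right]
    exact h
  · intro τ hτ; rw [hF' τ hτ]; exact S.even_comm τ hτ
  · intro τ hτ
    change c * S.F τ * c⁻¹ * S.z * (c * S.F τ * c⁻¹)⁻¹ = S.z⁻¹
    have hcz' : c⁻¹ * S.z * c = S.z := by rw [mul_assoc, ← hcz, inv_mul_cancel_left]
    calc c * S.F τ * c⁻¹ * S.z * (c * S.F τ * c⁻¹)⁻¹
        = c * (S.F τ * (c⁻¹ * S.z * c) * (S.F τ)⁻¹) * c⁻¹ := by group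
      _ = c * S.z⁻¹ * c⁻¹ := by rw [hcz', S.odd_inv τ hτ]
      _ = (c * S.z * c⁻¹)⁻¹ := by group
      _ = S.z⁻¹ := by rw [hcz, mul_inv_cancel_right]
  · intro x hx
    obtain ⟨i, τ, hτ, rfl⟩ := S.cent x hx
    exact ⟨i, τ, hτ, by rw [hF' τ hτ]⟩
  · rw [hF' _ sign_c3]; exact hsz
  · rw [hF' _ sign_d01]
    change s * (c * b * c⁻¹) * s = S.F d01
    have e1 : s * c * s = (u ^ k)⁻¹ := by
      have : MulAut.conj s (S.z ^ k) = (MulAut.conj s S.z) ^ k := map_pow _ _ _
      simp only [MulAut.conj_apply, hsinv, hsz] at this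
      calc s * c * s = (s * S.z ^ k * s)⁻¹ := by simp only [c, mul_inv_rev, hsinv, mul_assoc]
        _ = (u ^ k)⁻¹ := by rw [this]
    have e2 : s * c⁻¹ * s = u ^ k := by
      calc s * c⁻¹ * s = (s * c * s)⁻¹ := by simp only [mul_inv_rev, hsinv, mul_assoc]
        _ = u ^ k := by rw [e1, inv_inv]
    calc s * (c * b * c⁻¹) * s = (s * c * s) * (s * b * s) * (s * c⁻¹ * s) := by
          simp only [mul_assoc]
          rw [← mul_assoc s s, hss, one_mul, ← mul_assoc s s, hss, one_mul]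
      _ = S.F d01 := by
          rw [e1, e2, h1, hk]
          simp only [map_mul, map_inv, map_pow, ← hu_def]
          group
  · rw [hF' _ sign_c3]; exact hcy

end Cfsg.Lib.AltEightThree
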