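import Cfsg.Agent.Lib.AltEightThree.CentW
import Cfsg.Agent.S3331
import Cfsg.Agent.Lib.Linear.PSLSmall

set_option autoImplicit false
set_option linter.style.haveILetI false

/-!
The centraliser of the fixed point free involution, up to its odd core.
-/

namespace Cfsg.Lib.AltEightThree

open Cfsg.Lib.AltEightNine (A8 w8 z8 v8)

attribute [local instance 2000] List.decidableBAll List.decidableBEx

universe u

theorem z_facts : z8 * z8 = 1 ∧ z8 ≠ 1 ∧ (y6 * z8) ^ 3 = z8 ∧ y6 ≠ z8 := by decide +kernel

theorem l6_forms : ∀ a ∈ l6, a ∈ [1, y6, y6 * y6] ∨ a * z8 ∈ [1, y6, y6 * y6] := by decide +kernel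

/-- A permutation of order three of seven points fixes one. -/
theorem seven_fixed {X : Type*} [Group X] [Finite X] (hX : Nat.card X = 3) {A : Type*} [Finite A]
    [MulAction X A] (hA : Nat.card A = 8) {a : A} (h : ∀ b : A, (∀ x : X, x • b = b) → b = a) : False := by
  haveI : Fact (Nat.Prime 3) := ⟨Nat.prime_three⟩
  have hp : IsPGroup 3 X := IsPGroup.of_card (n := 1) (by rw [hX, pow_one])
  have h1 := hp.card_modEq_card_fixedPoints A
  rw [hA] at h1
  have h2 : Nat.card (MulAction.fixedPoints X A) ≤ 1 := by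
    rw [Finite.card_le_one_iff_subsingleton]
    exact ⟨fun p q => Subtype.ext ((h p.1 p.2).trans (h q.1 q.2).symm)⟩
  unfold Nat.ModEq at h1
  omega

namespace Loc

variable {G : Type u} [Group G] [Finite G] (S : Loc G)

theorem cover_z : S.Cover z8 := by
  classical
  haveI : Fact (Nat.Prime 2) := ⟨Nat.prime_two⟩
  haveI : Fact (Nat.Prime 3) := ⟨Nat.prime_three⟩
  set T := Subgroup.centralizer ({S.ψ z8} : Set G) with hT
  have hs1 : S.ψ z8 ≠ 1 := fun h => z_facts.2.1 (S.inj (h.trans (map_one _).symm))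
  have hss : S.ψ z8 * S.ψ z8 = 1 := by rw [← map_mul, z_facts.1, map_one]
  let sT : T := ⟨S.ψ z8, mem_cent_singleton.mpr rfl⟩
  have hso : orderOf sT = 2 :=
    orderOf_eq_prime (Subtype.ext (by simp [sT, pow_two, hss]))
      (fun h => hs1 (congrArg Subtype.val h))
  have hsc : ∀ t : T, Commute sT t := fun t => Subtype.ext (mem_cent_singleton.mp t.2).symm
  haveI hN : (Subgroup.zpowers sT).Normal := ⟨fun n hn t => by
    obtain ⟨k, rfl⟩ := hn
    have h := ((hsc t).zpow_left k).eq
    refine ⟨k, ?_⟩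
    change sT ^ k = t * sT ^ k * t⁻¹
    rw [← h, mul_inv_cancel_right]⟩
  -- the standard Sylow subgroup
  have hQle : P64.map S.ψ ≤ T := by
    rintro _ ⟨a, ha, rfl⟩
    exact mem_cent_singleton.mpr ((S.comm_iff a z8).2 (mem_P64.1 ha).1)
  have hQc : Nat.card ((P64.map S.ψ).subgroupOf T) = 64 := by
    rw [Nat.card_congr (Subgroup.subgroupOfEquivOfLe hQle).toEquiv,
      Subgroup.card_map_of_injective S.inj, card_P64]
  have hQ2 : IsPGroup 2 ((P64.map S.ψ).subgroupOf T) :=
    IsPGroup.of_card (n := 6) (by rw [hQc]; norm_num)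
  obtain ⟨P, hP⟩ := hQ2.exists_le_sylow
  have hPmap : (P : Subgroup T).map T.subtype ≤ P64.map S.ψ := by
    refine S.sylow_z (P.isPGroup'.map _) (Subgroup.map_subtype_le _) ?_
    intro y hy
    exact ⟨⟨y, hQle hy⟩, hP hy, rfl⟩
  have hPM : ∀ y ∈ (P : Subgroup T), (y : G) ∈ S.ψ.range := fun y hy => by
    obtain ⟨a, -, ha⟩ := hPmap (Subgroup.mem_map_of_mem T.subtype hy)
    exact ⟨a, ha⟩
  have hPc : Nat.card (P : Subgroup T) = 64 := by
    refine le_antisymm ?_ (hQc ▸ Subgroup.card_le_of_le hP)
    rw [← Subgroup.card_map_of_injective (K := (P : Subgroup T)) T.subtype_injective]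
    refine (Subgroup.card_le_of_le hPmap).trans_eq ?_
    rw [Subgroup.card_map_of_injective S.inj, card_P64]
  -- the quotient by the involution
  set π := QuotientGroup.mk' (Subgroup.zpowers sT)
  have hπ : Function.Surjective π := QuotientGroup.mk'_surjective _
  have hker : ∀ t : T, π t = 1 → (t : G) = 1 ∨ (t : G) = S.ψ z8 := by
    intro t ht
    obtain ⟨k, hk⟩ := (QuotientGroup.eq_one_iff t).1 ht
    have hk' : S.ψ z8 ^ k = (t : G) := by simpa [sT] using congrArg Subtype.val hk
    rcases Int.even_or_odd k with ⟨j, rfl⟩ | ⟨j, rfl⟩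
    · left; rw [← hk', zpow_add, ← ((Commute.refl _).mul_zpow j), hss, one_zpow]
    · right
      rw [← hk', zpow_add_one, two_mul, zpow_add, ← ((Commute.refl _).mul_zpow j), hss, one_zpow,
        one_mul]
  let yT : T := ⟨S.ψ y6, mem_cent_singleton.mpr ((S.comm_iff y6 z8).2 y6_facts.2.2.1)⟩
  set X := Subgroup.zpowers (π yT)
  have hyo : orderOf (π yT) = 3 := by
    refine orderOf_eq_prime ?_ fun h => ?_
    · rw [← map_pow, show yT ^ 3 = 1 from Subtype.ext (by simp [yT, ← map_pow, y6_facts.1]), map_one]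
    · rcases hker yT h with e | e
      · exact y6_facts.2.1 (S.inj (e.trans (map_one _).symm))
      · exact z_facts.2.2.2 (S.inj e)
  have hX : Nat.card X = 3 := by rw [Nat.card_zpowers, hyo]
  have hCX : Subgroup.centralizer (X : Set (T ⧸ Subgroup.zpowers sT)) = X := by
    refine le_antisymm (fun q hq => ?_) ?_
    · obtain ⟨t, rfl⟩ := hπ q
      have hc := Subgroup.mem_centralizer_iff.mp hq (π yT) (Subgroup.mem_zpowers _)
      rw [← map_mul, ← map_mul] at hc
      have h1 : π ((t * yT)⁻¹ * (yT * t)) = 1 := by rw [map_mul, map_inv, hc, inv_mul_cancel]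
      have hty : (t : G) * S.ψ y6 = S.ψ y6 * (t : G) := by
        rcases hker _ h1 with e | e
        · exact inv_mul_eq_one.mp e
        · exfalso
          have e' : (t : G)⁻¹ * S.ψ y6 * (t : G) = S.ψ y6 * S.ψ z8 := by
            have : ((t : G) * S.ψ y6)⁻¹ * (S.ψ y6 * (t : G)) = S.ψ z8 := e
            rw [← this]; group
          have h3 := congrArg (fun g => g ^ 3) e'
          simp only [← map_mul, ← map_pow, z_facts.2.2.1] at h3
          rw [show ((t : G)⁻¹ * S.ψ y6 * (t : G)) ^ 3 = (t : G)⁻¹ * S.ψ y6 ^ 3 * (t : G) by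
            rw [pow_three, pow_three]; group, ← map_pow, y6_facts.1, map_one, mul_one,
            inv_mul_cancel] at h3
          exact hs1 h3.symm
      obtain ⟨a, ha⟩ := S.cy _ hty
      have hal : a ∈ l6 := cent_y6_z ((S.comm_iff a y6).1 (by rw [ha]; exact hty))
        ((S.comm_iff a z8).1 (by rw [ha]; exact mem_cent_singleton.mp t.2))
      have hforms : ∀ b ∈ [1, y6, y6 * y6], ∀ t' : T, (t' : G) = S.ψ b → π t' ∈ X := by
        intro b hb t' ht'
        simp only [List.mem_cons, List.not_mem_nil, or_false] at hb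
        rcases hb with rfl | rfl | rfl
        · rw [show t' = 1 from Subtype.ext (by rw [ht', map_one]; rfl), map_one]
          exact one_mem _
        · rw [show t' = yT from Subtype.ext ht']
          exact Subgroup.mem_zpowers _
        · rw [show t' = yT * yT from Subtype.ext (by rw [ht', map_mul]; rfl), map_mul]
          exact mul_mem (Subgroup.mem_zpowers _) (Subgroup.mem_zpowers _)
      rcases l6_forms a hal with h | h
      · exact hforms a h t ha.symm
      · have h' := hforms _ h (t * sT) (by rw [map_mul, ha]; rfl)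
        rwa [map_mul, show π sT = 1 from (QuotientGroup.eq_one_iff _).2 (Subgroup.mem_zpowers _),
          mul_one] at h'
    · intro q hq
      rw [Subgroup.mem_centralizer_iff]
      intro r hr
      obtain ⟨i, rfl⟩ := hq
      obtain ⟨j, rfl⟩ := hr
      exact ((Commute.refl (π yT)).zpow_zpow j i).eq
  have hcardT : Nat.card T = Nat.card (T ⧸ Subgroup.zpowers sT) * 2 := by
    rw [Subgroup.card_eq_card_quotient_mul_card_subgroup (Subgroup.zpowers sT), Nat.card_zpowers, hso]
  have hidx : ¬ 2 ∣ (P : Subgroup T).index := P.not_dvd_index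
  have hPidx := Subgroup.card_mul_index (P : Subgroup T)
  rw [hPc, hcardT] at hPidx
  rcases Cfsg.Agent.S3331.result X hX hCX with ⟨N, hNn, hNnil, hN3, hQ⟩ | ⟨N, hNn, hNc, hNe, ⟨e⟩⟩ | ⟨⟨e⟩⟩
  · -- the nilpotent case
    haveI := hNn
    haveI := hNnil
    set N' := N.comap π
    haveI : Group.IsNilpotent N' := by
      refine Subgroup.isNilpotent_of_ker_le_center
        ((π.comp N'.subtype).codRestrict N fun x => x.2) ?_
      intro x hx
      have hx' : π (x : T) = 1 := congrArg Subtype.val (MonoidHom.mem_ker.mp hx)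
      obtain ⟨k, hk⟩ := (QuotientGroup.eq_one_iff _).1 hx'
      rw [Subgroup.mem_center_iff]
      intro y
      have hk' : sT ^ k = (x : T) := hk
      exact Subtype.ext (by rw [Subgroup.coe_mul, Subgroup.coe_mul, ← hk', ((hsc (y : T)).zpow_left k).eq])
    let f : T →* (T ⧸ Subgroup.zpowers sT) ⧸ N := (QuotientGroup.mk' N).comp π
    have hf : Function.Surjective f := (QuotientGroup.mk'_surjective N).comp hπ
    set H := ((S.ψ.range.subgroupOf T).map f)
    have h3 : 3 ∣ Nat.card H := by
      have hy : f yT ∈ H := Subgroup.mem_map_of_mem f (show (yT : G) ∈ S.ψ.range from S.mem_range y6)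
      have hord : orderOf (f yT) = 3 := by
        refine orderOf_eq_prime (by
          rw [← map_pow, show yT ^ 3 = 1 from Subtype.ext (by simp [yT, ← map_pow, y6_facts.1]),
            map_one]) fun h => ?_
        have hmem : π yT ∈ N := (QuotientGroup.eq_one_iff _).1 h
        have := eq_one_of_pow_three' hN3 hmem hyo
        exact this
      rw [← hord]
      exact Subgroup.orderOf_dvd_natCard H hy
    have hle : (P.mapSurjective hf : Subgroup ((T ⧸ Subgroup.zpowers sT) ⧸ N)) ≤ H := by
      rintro _ ⟨y, hy, rfl⟩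
      exact Subgroup.mem_map_of_mem f (hPM y hy)
    have htop : H = ⊤ := by
      apply Subgroup.eq_top_of_le_card
      rcases hQ with h | ⟨⟨e⟩⟩
      · rw [h]; exact Nat.le_of_dvd Nat.card_pos h3
      · have h6 : Nat.card ((T ⧸ Subgroup.zpowers sT) ⧸ N) = 6 := by
          rw [Nat.card_congr e.toEquiv, Nat.card_perm, Nat.card_fin]; rfl
        have h2 : 2 ∣ Nat.card H := by
          refine dvd_trans ?_ (Subgroup.card_dvd_of_le hle)
          exact (P.mapSurjective hf).dvd_card_of_dvd_card (by rw [h6]; norm_num)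
        rw [h6]
        exact Nat.le_of_dvd Nat.card_pos (Nat.Coprime.mul_dvd_of_dvd_of_dvd (by norm_num) h2 h3)
    intro g hg
    let gT : T := ⟨g, mem_cent_singleton.mpr hg⟩
    obtain ⟨m, hm, hme⟩ := (show f gT ∈ H from htop ▸ Subgroup.mem_top _)
    have hx : gT * m⁻¹ ∈ N' := by
      have : f (gT * m⁻¹) = 1 := by rw [map_mul, map_inv, hme, mul_inv_cancel]
      exact (QuotientGroup.eq_one_iff (N := N) (π (gT * m⁻¹))).1 this
    obtain ⟨o, ho, y, hy, e⟩ := split_nilpotent N' P hx
    obtain ⟨a, ha⟩ := mul_mem (hPM y hy) (show (m : G) ∈ S.ψ.range from hm)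
    refine ⟨o, Subgroup.mem_map_of_mem T.subtype ho, a, ?_⟩
    rw [ha, ← mul_assoc]
    have e' : gT = o * y * m := by rw [← e, inv_mul_cancel_right]
    exact congrArg Subtype.val e'
  · -- an elementary group extended by the alternating group of degree five
    exfalso
    haveI := hNn
    have hq : Nat.card (T ⧸ Subgroup.zpowers sT) = 60 * Nat.card N := by
      rw [Subgroup.card_eq_card_quotient_mul_card_subgroup N, Nat.card_congr e.toEquiv,
        show Nat.card (alternatingGroup (Fin 5)) = 60 by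
          rw [nat_card_alternatingGroup]; simp [Nat.factorial]]
    obtain ⟨k, hk⟩ := IsPGroup.iff_card.mp
      (show IsPGroup 2 N from fun n => ⟨1, Subtype.ext (by simpa using hNe n n.2)⟩)
    rw [hq, hk] at hPidx
    have h8 : k = 3 := by
      rcases (by omega : k ≤ 2 ∨ k = 3 ∨ 4 ≤ k) with h | h | h
      · exfalso
        interval_cases k <;> omega
      · exact h
      · exfalso
        apply hidx
        obtain ⟨j, rfl⟩ : ∃ j, k = 4 + j := ⟨k - 4, by omega⟩
        rw [pow_add] at hPidx
        exact ⟨15 * 2 ^ j, by omega⟩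
    subst h8
    letI : MulAction X N :=
      { smul := fun x n => ⟨(x : T ⧸ Subgroup.zpowers sT) * n * (x : T ⧸ Subgroup.zpowers sT)⁻¹,
          hNn.conj_mem _ n.2 _⟩
        one_smul := fun n => Subtype.ext (show (1 : T ⧸ Subgroup.zpowers sT) * _ * 1⁻¹ = _ by simp)
        mul_smul := fun x x' n => Subtype.ext (show _ * _ * _ = _ * (_ * _ * _) * _ by simp [mul_assoc]) }
    refine seven_fixed (A := N) hX (by rw [hk]; norm_num) (a := 1) fun n hn => ?_
    have hnC : (n : T ⧸ Subgroup.zpowers sT) ∈ X := by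
      rw [← hCX, Subgroup.mem_centralizer_iff]
      intro x hx
      exact mul_inv_eq_iff_eq_mul.mp (congrArg Subtype.val (hn ⟨x, hx⟩))
    refine Subtype.ext ?_
    have h3 : (n : T ⧸ Subgroup.zpowers sT) ^ 3 = 1 := by
      rw [← hX]; exact congrArg Subtype.val (pow_card_eq_one' (x := (⟨_, hnC⟩ : X)))
    have h2 := hNe _ n.2
    rw [pow_succ, h2, one_mul] at h3
    exact h3
  · exfalso
    haveI : Fact (Nat.Prime 7) := ⟨by norm_num⟩
    have h := Cfsg.Lib.Linear.Two.card_PSL_two (F := ZMod 7)
    rw [ZMod.card] at h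
    norm_num [show Nat.gcd 2 (7 - 1) = 2 by rfl, -Nat.card_eq_fintype_card] at h
    rw [Nat.card_congr e.toEquiv] at hPidx
    omega
where
  eq_one_of_pow_three' {Q : Type u} [Group Q] [Finite Q] {W : Subgroup Q} {x : Q}
      (hW : (Nat.card W).Coprime 3) (hx : x ∈ W) (h3 : orderOf x = 3) : False := by
    have h1 := Subgroup.orderOf_dvd_natCard W hx
    rw [h3] at h1
    exact absurd (Nat.eq_one_of_dvd_coprimes hW h1 dvd_rfl) (by norm_num)

end Loc

end Cfsg.Lib.AltEightThree
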