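import Cfsg.Agent.Lib.ZStar.Main
import Cfsg.Agent.Lib.Solv.Nilpotent
import Mathlib.GroupTheory.Transfer

set_option autoImplicit false

/-!
Lifting odd cores through a central involution, and elements of normal nilpotent subgroups.
-/

namespace Cfsg.Lib.AltEightThree

open Subgroup Cfsg

/-- Modulo a central involution the odd core comes from the odd core. -/
theorem odd_lift {T : Type*} [Group T] [Finite T] {w : T} (hw : orderOf w = 2)
    (hc : ∀ t : T, Commute w t) [(zpowers w).Normal] {x : T}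
    (hx : (QuotientGroup.mk x : T ⧸ zpowers w) ∈ oddCore (T ⧸ zpowers w)) :
    ∃ o ∈ oddCore T, ∃ c ∈ zpowers w, x = o * c := by
  classical
  haveI : Fact (Nat.Prime 2) := ⟨Nat.prime_two⟩
  set π := QuotientGroup.mk' (zpowers w)
  set H := (oddCore (T ⧸ zpowers w)).comap π with hH
  have hwker : ∀ c ∈ zpowers w, c ∈ H := fun c hc' => by
    rw [hH, mem_comap, show π c = 1 from (QuotientGroup.eq_one_iff c).2 hc']
    exact one_mem _
  have hodd : Odd (Nat.card (oddCore (T ⧸ zpowers w))) :=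
    Nat.coprime_two_right.1 (Core.pPrimeCore_coprime 2 _)
  have hcard : Nat.card H = 2 * Nat.card (oddCore (T ⧸ zpowers w)) := by
    rw [hH, Core.card_comap_eq π (QuotientGroup.mk'_surjective _), QuotientGroup.ker_mk',
      Nat.card_zpowers, hw]
  have hwH : w ∈ H := hwker w (mem_zpowers w)
  have hWp : IsPGroup 2 (zpowers (⟨w, hwH⟩ : H)) := IsPGroup.of_card (n := 1) (by
    rw [Nat.card_zpowers, Subgroup.orderOf_mk, hw, pow_one])
  obtain ⟨P, hP⟩ := hWp.exists_le_sylow
  have hPeq : (P : Subgroup H) = zpowers (⟨w, hwH⟩ : H) := by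
    refine (eq_of_le_of_card_ge hP ?_).symm
    obtain ⟨n, hn⟩ := IsPGroup.iff_card.mp P.isPGroup'
    rw [Nat.card_zpowers, Subgroup.orderOf_mk, hw, hn]
    have hd : 2 ^ n ∣ 2 * Nat.card (oddCore (T ⧸ zpowers w)) := hn ▸ hcard ▸ card_subgroup_dvd_card _
    exact Nat.le_of_dvd (by norm_num)
      (((Nat.coprime_two_left.mpr hodd).pow_left n).dvd_of_dvd_mul_right hd)
  have hNC : normalizer ((P : Subgroup H) : Set H) ≤ centralizer ((P : Subgroup H) : Set H) := by
    intro y _
    rw [mem_centralizer_iff, hPeq]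
    rintro _ ⟨k, rfl⟩
    exact Subtype.ext (by simpa using ((hc (y : T)).zpow_left k).eq)
  set f := MonoidHom.transferSylow P hNC
  have hcompl : IsComplement' f.ker (P : Subgroup H) :=
    MonoidHom.ker_transferSylow_isComplement' P hNC
  have hker : Odd (Nat.card f.ker) := by
    rw [← hcompl.index_eq_card]
    exact Nat.odd_iff.mpr (Nat.two_dvd_ne_zero.mp P.not_dvd_index)
  have hnormal : (f.ker.map H.subtype).Normal := by
    refine ⟨?_⟩
    rintro _ ⟨r, hr, rfl⟩ t
    haveI : H.Normal := Subgroup.Normal.comap inferInstance π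
    refine ⟨⟨t * r * t⁻¹, (inferInstance : H.Normal).conj_mem _ r.2 t⟩, ?_, rfl⟩
    rw [SetLike.mem_coe, MonoidHom.mem_ker, ← orderOf_eq_one_iff]
    obtain ⟨e, he⟩ := P.isPGroup' (f ⟨t * r * t⁻¹, (inferInstance : H.Normal).conj_mem _ r.2 t⟩)
    have h1 : orderOf (f ⟨t * r * t⁻¹, (inferInstance : H.Normal).conj_mem _ r.2 t⟩) ∣
        orderOf (r : T) := by
      refine (orderOf_map_dvd f _).trans (dvd_of_eq ?_)
      rw [Subgroup.orderOf_mk, show t * (r : T) * t⁻¹ = MulAut.conj t r from rfl, MulEquiv.orderOf_eq]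
    have hro : Odd (orderOf (r : T)) := by
      have hd := Subgroup.orderOf_dvd_natCard f.ker hr
      rw [orderOf_submonoid]
      exact hker.of_dvd_nat hd
    exact Nat.eq_one_of_dvd_coprimes ((Nat.coprime_two_right.mpr hro).pow_right e) h1
      (orderOf_dvd_of_pow_eq_one he)
  have hle : f.ker.map H.subtype ≤ oddCore T :=
    ZStar.le_oddCore hnormal (by rw [card_map_of_injective H.subtype_injective]; exact hker)
  obtain ⟨⟨r, c⟩, e, -⟩ := isComplement_iff_existsUnique.mp hcompl ⟨x, hx⟩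
  refine ⟨(r : H), hle (mem_map_of_mem H.subtype r.2), ((c : H) : T), ?_, (congrArg Subtype.val e).symm⟩
  have hc' : (c : H) ∈ zpowers (⟨w, hwH⟩ : H) := hPeq ▸ c.2
  obtain ⟨k, hk⟩ := hc'
  exact ⟨k, by simpa using congrArg Subtype.val hk⟩

/-- An element of a normal nilpotent subgroup is a product of an element of the odd core and
an element of every Sylow 2-subgroup. -/
theorem split_nilpotent {T : Type*} [Group T] [Finite T] (N : Subgroup T) [N.Normal]
    [Group.IsNilpotent N] (P : Sylow 2 T) {x : T} (hx : x ∈ N) :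
    ∃ o ∈ oddCore T, ∃ y ∈ (P : Subgroup T), x = o * y := by
  haveI : Fact (Nat.Prime 2) := ⟨Nat.prime_two⟩
  have hsub : ∀ y ∈ N, (zpowers y).IsSubnormal := by
    intro y hy
    have h1 : (zpowers (⟨y, hy⟩ : N)).IsSubnormal :=
      (Solv.isNilpotent_iff_forall_isSubnormal.mp inferInstance) _
    have h2 := Core.isSubnormal_map_subtype (H := N) h1
    rwa [MonoidHom.map_zpowers] at h2
  obtain ⟨k, m, hm, hn⟩ := Nat.exists_eq_two_pow_mul_odd (orderOf_pos x).ne'
  have hm' : Nat.Coprime (2 ^ k) m := (Nat.coprime_two_left.mpr hm).pow_left k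
  have hcop : IsCoprime ((2 ^ k : ℕ) : ℤ) (m : ℤ) := Nat.isCoprime_iff_coprime.mpr hm'
  obtain ⟨a, b, hab⟩ := hcop
  have h1 : Odd (Nat.card (zpowers (x ^ 2 ^ k))) := by
    rw [Nat.card_zpowers, orderOf_pow, hn, Nat.gcd_mul_right_left,
      Nat.mul_div_cancel_left _ (pow_pos two_pos k)]
    exact hm
  have h2 : IsPGroup 2 (zpowers (x ^ m)) := IsPGroup.of_card (n := k) (by
    rw [Nat.card_zpowers, orderOf_pow, hn, Nat.gcd_mul_left_left, Nat.mul_div_cancel _ hm.pos])
  refine ⟨(x ^ 2 ^ k) ^ a, ?_, (x ^ m) ^ b, ?_, ?_⟩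
  · exact zpow_mem (Core.le_pPrimeCore_of_isSubnormal (p := 2) (hsub _ (pow_mem hx _))
      (Nat.coprime_two_right.mpr h1) (mem_zpowers _)) a
  · exact zpow_mem (Core.pCore_le_sylow P (Core.le_pCore_of_isSubnormal (hsub _ (pow_mem hx _)) h2
      (mem_zpowers _))) b
  · rw [← zpow_natCast x (2 ^ k), ← zpow_natCast x m, ← zpow_mul, ← zpow_mul, ← zpow_add]
    rw [mul_comm (((2 ^ k : ℕ)) : ℤ) a, mul_comm (m : ℤ) b, hab, zpow_one]

end Cfsg.Lib.AltEightThree
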