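import Cfsg.Agent.Lib.AltEightThree.Local
import Cfsg.Agent.Lib.AltEightThree.Lift
import Cfsg.Agent.Lib.Invol.Isolated
import Cfsg.Agent.Lib.Invol.IsolatedSylow

set_option autoImplicit false
set_option linter.style.haveILetI false

/-!
The centraliser of the involution with four fixed points, up to its odd core.
-/

namespace Cfsg.Lib.AltEightThree

open Cfsg.Lib.AltEightNine (A8 w8 z8 v8)

attribute [local instance 2000] List.decidableBAll List.decidableBEx

universe u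

theorem comm_test : ∀ a ∈ l32, a * a = 1 → a * w8 = w8 * a := by decide +kernel

theorem four_facts : ∀ x ∈ fourV, x = 1 ∨ x = w8 ∨ x = v8 ∨ x = v8 * w8 := by decide +kernel

theorem vw_facts : v8 * w8 = w8 * v8 ∧ Wt v8 ∧ Wt (v8 * w8) ∧ v8 ∈ l32 ∧ v8 * w8 ≠ v8 := by
  decide +kernel

namespace Loc

variable {G : Type u} [Group G] [Finite G] (S : Loc G)

/-- The odd core of the centraliser of an element, inside the group. -/
def OC (a : A8) : Subgroup G :=
  (oddCore (Subgroup.centralizer ({S.ψ a} : Set G))).map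
    (Subgroup.centralizer ({S.ψ a} : Set G)).subtype

/-- The centraliser is its odd core times its intersection with the embedded group. -/
def Cover (a : A8) : Prop :=
  ∀ g, g * S.ψ a = S.ψ a * g → ∃ o ∈ S.OC a, ∃ m : A8, g = o * S.ψ m

omit [Finite G] in
/-- A conjugate of the companion in the Sylow subgroup lies in the four. -/
theorem companion {g : G} (hg : g * S.ψ w8 = S.ψ w8 * g) {x : A8} (hx : x ∈ l32)
    (h : g * S.ψ v8 * g⁻¹ = S.ψ x) : x = v8 ∨ x = v8 * w8 := by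
  have hxw : g * S.ψ (v8 * w8) * g⁻¹ = S.ψ (x * w8) := by
    rw [map_mul, map_mul, ← h]
    calc g * (S.ψ v8 * S.ψ w8) * g⁻¹ = g * S.ψ v8 * g⁻¹ * (g * S.ψ w8 * g⁻¹) := by group
      _ = _ := by rw [hg, mul_inv_cancel_right]
  have hWx : Wt x := S.conj_wt vw_facts.2.1 h
  have hWxw : Wt (x * w8) := S.conj_wt vw_facts.2.2.1 hxw
  have hxV : x ∈ fourV := by
    by_contra hxV
    obtain ⟨a, ha, hax, haW, haWw, haw, hane, hane'⟩ := companion_test x hx hWx hWxw hxV
    have haC : a * w8 = w8 * a := comm_test a ha haW.1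
    have hgi : g⁻¹ * S.ψ w8 * g = S.ψ w8 := by rw [mul_assoc, ← hg, inv_mul_cancel_left]
    have e1 : (g⁻¹ * S.ψ a * g) * S.ψ w8 = S.ψ w8 * (g⁻¹ * S.ψ a * g) := by
      rw [← hgi]
      calc g⁻¹ * S.ψ a * g * (g⁻¹ * S.ψ w8 * g) = g⁻¹ * (S.ψ a * S.ψ w8) * g := by group
        _ = g⁻¹ * (S.ψ w8 * S.ψ a) * g := by rw [(S.comm_iff a w8).2 haC]
        _ = _ := by group
    have e2 : (g⁻¹ * S.ψ a * g) * S.ψ v8 = S.ψ v8 * (g⁻¹ * S.ψ a * g) := by
      have hv : S.ψ v8 = g⁻¹ * S.ψ x * g := by rw [← h]; group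
      rw [hv]
      calc g⁻¹ * S.ψ a * g * (g⁻¹ * S.ψ x * g) = g⁻¹ * (S.ψ a * S.ψ x) * g := by group
        _ = g⁻¹ * (S.ψ x * S.ψ a) * g := by rw [(S.comm_iff a x).2 hax]
        _ = _ := by group
    obtain ⟨b, hb⟩ := S.cV _ e1 e2
    have hb2 : b * b = 1 := S.inj (by
      rw [map_mul, map_one, hb, show g⁻¹ * S.ψ a * g * (g⁻¹ * S.ψ a * g) = g⁻¹ * (S.ψ a * S.ψ a) * g by group,
        ← map_mul, haW.1, map_one]; group)
    have hbK : b ∈ kList := four_two_elements ((S.comm_iff b w8).1 (by rw [hb]; exact e1))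
      ((S.comm_iff b v8).1 (by rw [hb]; exact e2))
      (by rw [pow_succ, pow_succ, pow_succ, pow_one, hb2, one_mul, hb2])
    have hback : g * S.ψ b * g⁻¹ = S.ψ a := by rw [hb]; group
    have hback' : g⁻¹ * S.ψ a * g⁻¹⁻¹ = S.ψ b := by rw [hb, inv_inv]
    have hWb : Wt b := S.conj_wt haW hback'
    have hWbw : Wt (b * w8) := S.conj_wt haWw (g := g⁻¹) (by
      rw [map_mul, map_mul, hb, inv_inv]
      calc g⁻¹ * (S.ψ a * S.ψ w8) * g = g⁻¹ * S.ψ a * g * (g⁻¹ * S.ψ w8 * g) := by group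
        _ = _ := by rw [hgi])
    rcases four_facts b (kList_facts.2.2.2.2.2.2 b hbK hWb hWbw) with rfl | rfl | rfl | rfl
    · exact hWb.2.1 rfl
    · rw [hg, mul_inv_cancel_right] at hback
      exact haw (S.inj hback).symm
    · exact hane (S.inj (hback.symm.trans h))
    · exact hane' (S.inj (hback.symm.trans hxw))
  rcases four_facts x hxV with rfl | rfl | rfl | rfl
  · exact absurd rfl hWx.2.1
  · exact absurd hWxw.2.1 (by rw [AltEightNine.basics.1]; exact fun h => h rfl)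
  · exact Or.inl rfl
  · exact Or.inr rfl

theorem cover_w : S.Cover w8 := by
  classical
  haveI : Fact (Nat.Prime 2) := ⟨Nat.prime_two⟩
  set T := Subgroup.centralizer ({S.ψ w8} : Set G) with hT
  have hw1 : S.ψ w8 ≠ 1 := fun h => AltEightNine.ne_facts.1 (S.inj (h.trans (map_one _).symm))
  have hww : S.ψ w8 * S.ψ w8 = 1 := by rw [← map_mul, AltEightNine.basics.1, map_one]
  let wT : T := ⟨S.ψ w8, mem_cent_singleton.mpr rfl⟩
  have hwo : orderOf wT = 2 :=
    orderOf_eq_prime (Subtype.ext (by simp [wT, pow_two, hww]))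
      (fun h => hw1 (congrArg Subtype.val h))
  have hwc : ∀ t : T, Commute wT t := fun t => Subtype.ext (mem_cent_singleton.mp t.2).symm
  haveI hN : (Subgroup.zpowers wT).Normal := ⟨fun n hn t => by
    obtain ⟨k, rfl⟩ := hn
    have h := ((hwc t).zpow_left k).eq
    refine ⟨k, ?_⟩
    change wT ^ k = t * wT ^ k * t⁻¹
    rw [← h, mul_inv_cancel_right]⟩
  -- the standard Sylow subgroup
  have hQle : P32.map S.ψ ≤ T := by
    rintro _ ⟨a, ha, rfl⟩
    exact mem_cent_singleton.mpr ((S.comm_iff a w8).2 (mem_P32.1 ha).1)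
  have hQ2 : IsPGroup 2 ((P32.map S.ψ).subgroupOf T) := IsPGroup.of_card (n := 5) (by
    rw [Nat.card_congr (Subgroup.subgroupOfEquivOfLe hQle).toEquiv,
      Subgroup.card_map_of_injective S.inj, card_P32]; norm_num)
  obtain ⟨P, hP⟩ := hQ2.exists_le_sylow
  have hPeq : (P : Subgroup T).map T.subtype ≤ P32.map S.ψ := by
    refine S.sylow_w (P.isPGroup'.map _) (Subgroup.map_subtype_le _) ?_
    intro y hy
    exact ⟨⟨y, hQle hy⟩, hP hy, rfl⟩
  let vT : T := ⟨S.ψ v8, mem_cent_singleton.mpr ((S.comm_iff v8 w8).2 vw_facts.1)⟩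
  set π := QuotientGroup.mk' (Subgroup.zpowers wT)
  have hπ : Function.Surjective π := QuotientGroup.mk'_surjective _
  have hker : ∀ t : T, π t = 1 → (t : G) = 1 ∨ (t : G) = S.ψ w8 := by
    intro t ht
    obtain ⟨k, hk⟩ := (QuotientGroup.eq_one_iff t).1 ht
    have hk' : S.ψ w8 ^ k = (t : G) := by simpa [wT] using congrArg Subtype.val hk
    rcases Int.even_or_odd k with ⟨j, rfl⟩ | ⟨j, rfl⟩
    · left; rw [← hk', zpow_add, ← ((Commute.refl _).mul_zpow j), hww, one_zpow]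
    · right
      rw [← hk', zpow_add_one, two_mul, zpow_add, ← ((Commute.refl _).mul_zpow j), hww, one_zpow,
        one_mul]
  have hvo : orderOf (π vT) = 2 := by
    refine orderOf_eq_prime ?_ fun h => ?_
    · rw [← map_pow, show vT ^ 2 = 1 from Subtype.ext (by
        simp [vT, pow_two, ← map_mul, AltEightNine.basics.2.2.1]), map_one]
    · rcases hker vT h with e | e
      · exact AltEightNine.ne_facts.2.2.1 (S.inj (e.trans (map_one _).symm))
      · exact AltEightNine.ne_facts.2.2.2.1 (S.inj e)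
  -- it is isolated
  have hiso : IsIsolatedInvolution (π vT) := by
    refine Invol.isolated_of_sylow (P.mapSurjective hπ) hvo fun g hg => ?_
    obtain ⟨t, rfl⟩ := hπ g
    rw [← map_inv, ← map_mul, ← map_mul] at hg ⊢
    obtain ⟨p, hp, hpe⟩ := (show π (t * vT * t⁻¹) ∈ (P : Subgroup T).map π from hg)
    have hmem : t * vT * t⁻¹ ∈ (P : Subgroup T) := by
      have hd : p⁻¹ * (t * vT * t⁻¹) ∈ Subgroup.zpowers wT := by
        rw [← QuotientGroup.eq]; exact hpe
      have hwP : wT ∈ (P : Subgroup T) := hP (show S.ψ w8 ∈ P32.map S.ψ from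
        Subgroup.mem_map_of_mem S.ψ (mem_P32.2 ⟨rfl, AltEightNine.basics.2.2.2.1.symm⟩))
      have := mul_mem hp ((Subgroup.zpowers_le.mpr hwP) hd)
      rwa [mul_inv_cancel_left] at this
    obtain ⟨x, hx, hxe⟩ := hPeq (Subgroup.mem_map_of_mem T.subtype hmem)
    have hxe' : (t : G) * S.ψ v8 * (t : G)⁻¹ = S.ψ x := hxe.symm
    rcases S.companion (mem_cent_singleton.mp t.2) (mem_P32_iff.1 hx) hxe' with rfl | rfl
    · exact congrArg π (Subtype.ext hxe')
    · rw [← inv_mul_eq_one, ← map_inv, ← map_mul]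
      refine (QuotientGroup.eq_one_iff _).2 ⟨1, Subtype.ext ?_⟩
      have hv : S.ψ v8 * S.ψ v8 = 1 := by rw [← map_mul, AltEightNine.basics.2.2.1, map_one]
      simp only [zpow_one, Subgroup.coe_mul, Subgroup.coe_inv, wT, vT, hxe', ← map_mul, ← map_inv]
      rw [show (v8 * w8)⁻¹ * v8 = w8 by decide +kernel]
  intro g hg
  let gT : T := ⟨g, mem_cent_singleton.mpr hg⟩
  set a := π vT
  set b := π gT
  have hmem : a * (b * a * b⁻¹) ∈ oddCore (T ⧸ Subgroup.zpowers wT) := by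
    have h := ZStar.zStarHolds _ a hiso b
    have ha : a⁻¹ = a := Invol.inv_eq_self hvo
    rwa [ha, mul_assoc (a * b), mul_assoc a b, ← mul_assoc b a] at h
  obtain ⟨d, hd, hde⟩ := Invol.exists_conj_zpowers_of_odd hvo
    (show orderOf (b * a * b⁻¹) = 2 by rw [Invol.orderOf_conj_eq, hvo])
    (ZStar.odd_orderOf_oddCore hmem)
  have hdO : d ∈ oddCore (T ⧸ Subgroup.zpowers wT) := (Subgroup.zpowers_le.mpr hmem) hd
  obtain ⟨dT, rfl⟩ := hπ d
  obtain ⟨o, ho, c, hc, hdc⟩ := odd_lift hwo hwc hdO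
  set r := dT⁻¹ * gT with hr
  have hrv : π (r * vT * r⁻¹) = π vT := by
    rw [map_mul, map_mul, map_inv, hr, map_mul, map_inv]
    calc (π dT)⁻¹ * b * a * ((π dT)⁻¹ * b)⁻¹ = (π dT)⁻¹ * (b * a * b⁻¹) * π dT := by group
      _ = (π dT)⁻¹ * (π dT * a * (π dT)⁻¹) * π dT := by rw [hde]
      _ = a := by group
      _ = π vT := rfl
  have hrM : (r : G) ∈ S.ψ.range := by
    refine S.norm_four ⟨w8, by simp, ?_⟩ ?_
    · rw [mem_cent_singleton.mp r.2, mul_inv_cancel_right]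
    · rw [← inv_mul_eq_one, ← map_inv, ← map_mul] at hrv
      have e0 : ((r : G) * S.ψ v8 * (r : G)⁻¹)⁻¹ * S.ψ v8 = 1 ∨
          ((r : G) * S.ψ v8 * (r : G)⁻¹)⁻¹ * S.ψ v8 = S.ψ w8 := by simpa [vT] using hker _ hrv
      rcases e0 with e | e
      · exact ⟨v8, by simp, inv_mul_eq_one.mp e⟩
      · refine ⟨v8 * w8, by simp, ?_⟩
        rw [inv_mul_eq_iff_eq_mul] at e
        rw [map_mul]
        calc (r : G) * S.ψ v8 * (r : G)⁻¹ = (r : G) * S.ψ v8 * (r : G)⁻¹ * (S.ψ w8 * S.ψ w8) := by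
              rw [hww, mul_one]
          _ = S.ψ v8 * S.ψ w8 := by rw [← mul_assoc, ← e]
  have hcM : (c : G) ∈ S.ψ.range := by
    obtain ⟨k, rfl⟩ := hc
    exact ⟨w8 ^ k, by simp [wT, map_zpow]⟩
  obtain ⟨m, hm⟩ := mul_mem hcM hrM
  refine ⟨o, Subgroup.mem_map_of_mem T.subtype ho, m, ?_⟩
  rw [hm]
  have e : g = (dT : G) * r := by simp [hr, gT]
  rw [e, hdc, Subgroup.coe_mul, mul_assoc]

end Loc

end Cfsg.Lib.AltEightThree
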