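import Cfsg.Agent.Lib.Kondo.Transfer
import Cfsg.Agent.Lib.PGroup.Basic

set_option autoImplicit false

/-!
Classes of involutions when a Sylow 2-subgroup has a self-centralizing four group and there is no
subgroup of index two.
-/

namespace Cfsg.Lib.AltEightThree

open Subgroup

variable {X : Type*} [Group X] [Finite X]

/-- With a self-centralising four `{1, w, w', w w'}` and no subgroup of index two, every involution
is conjugate to `w` or to `w'`. -/
theorem involution_classes (hX : ∀ H : Subgroup X, H.Normal → H.index ≠ 2)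
    {w w' t : X} (hw : orderOf w = 2) (hw' : orderOf w' = 2) (hne : w ≠ w')
    (htw' : ¬ Commute t w') (htww : ¬ Commute t (w * w'))
    (hcl : IsPGroup 2 (closure ({w, w', t} : Set X)))
    (hcent : ∀ x : X, (∃ k, x ^ 2 ^ k = 1) → Commute x w → Commute x w' →
      x = 1 ∨ x = w ∨ x = w' ∨ x = w * w')
    {x : X} (hx : orderOf x = 2) : IsConj x w ∨ IsConj x w' := by
  classical
  haveI : Fact (Nat.Prime 2) := ⟨Nat.prime_two⟩
  obtain ⟨P, hP⟩ := hcl.exists_le_sylow
  have hwP : w ∈ (P : Subgroup X) := hP (subset_closure (by simp))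
  have hw'P : w' ∈ (P : Subgroup X) := hP (subset_closure (by simp))
  have htP : t ∈ (P : Subgroup X) := hP (subset_closure (by simp))
  have hw'sq : w' * w' = 1 := by rw [← pow_two, ← hw', pow_orderOf_eq_one]
  have hw'1 : w' ≠ 1 := fun h => by rw [h, orderOf_one] at hw'; norm_num at hw'
  haveI : Nontrivial (P : Subgroup X) :=
    ⟨⟨⟨w', hw'P⟩, 1, fun h => hw'1 (congrArg Subtype.val h)⟩⟩
  -- `w` is central in `P`
  obtain ⟨v, -, hvZ, hv2⟩ := Cfsg.Lib.PGroup.exists_mem_center_orderOf_eq P.isPGroup'
    (N := (⊤ : Subgroup (P : Subgroup X))) top_ne_bot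
  have hvc : ∀ y : (P : Subgroup X), Commute (v : X) (y : X) := fun y =>
    congrArg Subtype.val ((mem_center_iff.mp hvZ y).symm)
  have hvw : (v : X) = w := by
    rcases hcent v ⟨1, by
        have h := pow_orderOf_eq_one v
        rw [hv2] at h
        rw [pow_one]
        exact congrArg Subtype.val h⟩
      (hvc ⟨w, hwP⟩) (hvc ⟨w', hw'P⟩) with h | h | h | h
    · exact absurd hv2 (by rw [show v = 1 from Subtype.ext h, orderOf_one]; norm_num)
    · exact h
    · exact absurd (h ▸ hvc ⟨t, htP⟩).symm htw'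
    · exact absurd (h ▸ hvc ⟨t, htP⟩).symm htww
  have hwc : ∀ y ∈ (P : Subgroup X), Commute w y := fun y hy => hvw ▸ hvc ⟨y, hy⟩
  set a : (P : Subgroup X) := ⟨w', hw'P⟩
  set b : (P : Subgroup X) := ⟨w, hwP⟩
  have ha2 : a * a = 1 := Subtype.ext hw'sq
  have hainv : a⁻¹ = a := inv_eq_of_mul_eq_one_right ha2
  set C := centralizer ({a} : Set (P : Subgroup X))
  have hCmem : ∀ y, y ∈ C → y = 1 ∨ y = b ∨ y = a ∨ y = b * a := by
    intro y hy
    have hy' : Commute (y : X) w' := congrArg Subtype.val (mem_centralizer_singleton_iff.mp hy)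
    obtain ⟨k, hk⟩ := P.isPGroup' y
    rcases hcent y ⟨k, by simpa using congrArg Subtype.val hk⟩ (hwc y y.2).symm hy' with h | h | h | h
    · exact Or.inl (Subtype.ext h)
    · exact Or.inr (Or.inl (Subtype.ext h))
    · exact Or.inr (Or.inr (Or.inl (Subtype.ext h)))
    · exact Or.inr (Or.inr (Or.inr (Subtype.ext h)))
  have hC4 : Nat.card C ≤ 4 := by
    have h1 : (C : Set (P : Subgroup X)).ncard ≤ ({1, b, a, b * a} : Set _).ncard :=
      Set.ncard_le_ncard (fun y hy => by rcases hCmem y hy with h | h | h | h <;> simp [h]) (Set.toFinite _)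
    have h2 : ({1, b, a, b * a} : Set (P : Subgroup X)).ncard ≤ 4 := by
      refine (Set.ncard_insert_le _ _).trans ?_
      have := Set.ncard_insert_le b ({a, b * a} : Set (P : Subgroup X))
      have := Set.ncard_insert_le a ({b * a} : Set (P : Subgroup X))
      simp only [Set.ncard_singleton] at *
      omega
    rw [← Nat.card_coe_set_eq] at h1
    exact h1.trans h2
  set K := commutator (P : Subgroup X)
  -- the commutator subgroup has index at least four
  have hK4 : 4 ≤ K.index := by
    obtain ⟨e, he⟩ := (Nat.dvd_prime_pow Nat.prime_two).mp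
      ((IsPGroup.iff_card.mp P.isPGroup').choose_spec ▸ K.index_dvd_card)
    by_contra hlt
    have he2 : e ≤ 1 := by
      by_contra h
      have : 2 ^ 2 ≤ 2 ^ e := Nat.pow_le_pow_right (by norm_num) (by omega)
      omega
    obtain ⟨y, hy⟩ : ∃ y : (P : Subgroup X), K ⊔ zpowers y = ⊤ := by
      by_cases h1 : K = ⊤
      · exact ⟨1, by rw [h1, top_sup_eq]⟩
      · obtain ⟨y, -, hy⟩ := SetLike.exists_of_lt (lt_top_iff_ne_top.mpr h1)
        refine ⟨y, ?_⟩
        have h2 : K.index = 2 := by
          have : K.index ≠ 1 := fun h => h1 (index_eq_one.mp h)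
          interval_cases e
          · simp only [pow_zero] at he; exact absurd he.2 this
          · simpa using he.2
        rw [eq_top_iff]
        intro g _
        by_cases hg : g ∈ K
        · exact mem_sup_left hg
        · have := (mul_mem_iff_of_index_two h2 (a := g) (b := y)).mpr
            ⟨fun h => absurd h hg, fun h => absurd h hy⟩
          have h3 := mul_mem (mem_sup_left (T := zpowers y) this)
            (inv_mem (mem_sup_right (S := K) (mem_zpowers y)))
          rwa [mul_inv_cancel_right] at h3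
    have hgen : zpowers y = ⊤ := frattini_nongenerating (by
      rw [eq_top_iff, ← hy, sup_comm K]
      exact sup_le_sup le_rfl (Cfsg.Lib.PGroup.commutator_le_frattini P.isPGroup'))
    apply htw'
    obtain ⟨i, hi⟩ := (hgen.symm ▸ mem_top (⟨t, htP⟩ : (P : Subgroup X)) : _ ∈ zpowers y)
    obtain ⟨j, hj⟩ := (hgen.symm ▸ mem_top a : a ∈ zpowers y)
    have := congrArg Subtype.val ((Commute.refl y).zpow_zpow i j).eq
    simp only [hi, hj] at this
    exact this
  -- the class of `a` is a coset of the commutator subgroup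
  have hcomm : ∀ p : (P : Subgroup X), p * a * p⁻¹ * a⁻¹ ∈ K := fun p =>
    commutator_mem_commutator (mem_top p) (mem_top a)
  let f : (P : Subgroup X) ⧸ C → K := fun q => Quotient.liftOn' q (fun p => ⟨_, hcomm p⟩) (by
    intro p p' h
    rw [QuotientGroup.leftRel_apply] at h
    have h' := mem_centralizer_singleton_iff.mp h
    apply Subtype.ext
    change p * a * p⁻¹ * a⁻¹ = p' * a * p'⁻¹ * a⁻¹
    congr 1
    calc p * a * p⁻¹ = p * (a * (p⁻¹ * p')) * p'⁻¹ := by group
      _ = p * ((p⁻¹ * p') * a) * p'⁻¹ := by rw [h']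
      _ = p' * a * p'⁻¹ := by group)
  have hf : Function.Injective f := by
    intro q q'
    refine Quotient.inductionOn₂' q q' fun p p' h => Quotient.sound' ?_
    have h' : p * a * p⁻¹ = p' * a * p'⁻¹ := mul_right_cancel (congrArg Subtype.val h)
    rw [QuotientGroup.leftRel_apply]
    refine mem_centralizer_singleton_iff.mpr ?_
    calc p⁻¹ * p' * a = p⁻¹ * (p' * a * p'⁻¹) * p' := by group
      _ = p⁻¹ * (p * a * p⁻¹) * p' := by rw [h']
      _ = a * (p⁻¹ * p') := by group
  have hsurj : Function.Surjective f := by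
    have h1 : C.index ≤ Nat.card K := Nat.card_le_card_of_injective f hf
    have h2 := K.card_mul_index
    have h3 := C.card_mul_index
    have h4 : Nat.card K ≤ C.index := by
      nlinarith [Nat.mul_le_mul_right C.index hC4, Nat.mul_le_mul_left (Nat.card K) hK4]
    exact ((Nat.bijective_iff_injective_and_card f).mpr ⟨hf, le_antisymm h1 h4⟩).2
  have hKmem : ∀ k ∈ K, ∃ p, p * a * p⁻¹ * a⁻¹ = k := by
    intro k hk
    obtain ⟨q, hq⟩ := hsurj ⟨k, hk⟩
    induction q using Quotient.inductionOn' with
    | h p => exact ⟨p, congrArg Subtype.val hq⟩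
  have hindex : K.index = 4 := by
    have h1 : C.index ≤ Nat.card K := Nat.card_le_card_of_injective f hf
    have h1' : Nat.card K ≤ C.index := Nat.card_le_card_of_surjective f hsurj
    have h2 := K.card_mul_index
    have h3 := C.card_mul_index
    have hpos : 0 < Nat.card K := Nat.card_pos
    nlinarith [Nat.mul_le_mul_right C.index hC4]
  have haK : a ∉ K := by
    intro h
    obtain ⟨p, hp⟩ := hKmem a h
    have : p * a * p⁻¹ = 1 := by
      calc p * a * p⁻¹ = p * a * p⁻¹ * a⁻¹ * a := by group
        _ = 1 := by rw [hp, ha2]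
    exact hw'1 (congrArg Subtype.val (conj_eq_one_iff.mp this))
  haveI : K.Normal := inferInstance
  set Q := K ⊔ zpowers a
  have hQmem : ∀ y ∈ Q, y ∈ K ∨ y * a ∈ K := by
    intro y hy
    obtain ⟨k, hk, c, ⟨i, rfl⟩, rfl⟩ := mem_sup_of_normal_left.mp hy
    simp only
    rcases Int.even_or_odd i with ⟨j, rfl⟩ | ⟨j, rfl⟩
    · left
      rw [zpow_add, ← ((Commute.refl a).mul_zpow j), ha2, one_zpow, mul_one]
      exact hk
    · right
      rw [zpow_add, two_mul, zpow_add, ← ((Commute.refl a).mul_zpow j), ha2, one_zpow, one_mul,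
        zpow_one, mul_assoc, ha2, mul_one]
      exact hk
  have hQ2 : Q.index = 2 := by
    have hle : K ≤ Q := le_sup_left
    have h1 := relIndex_mul_index hle
    have h2 : K.relIndex Q = 2 := by
      rw [relIndex, index_eq_two_iff]
      refine ⟨⟨a, mem_sup_right (mem_zpowers a)⟩, fun y => ?_⟩
      rcases hQmem y y.2 with h | h
      · refine Or.inr ⟨by simpa [mem_subgroupOf] using h, fun h' => ?_⟩
        rw [mem_subgroupOf] at h'
        exact haK (by simpa using mul_mem (inv_mem h) h')
      · refine Or.inl ⟨by simpa [mem_subgroupOf] using h, fun h' => ?_⟩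
        rw [mem_subgroupOf] at h'
        exact haK (by simpa using mul_mem (inv_mem h') h)
    rw [h2, hindex] at h1
    omega
  -- the character with kernel `Q`
  let φ : (P : Subgroup X) →* ℤˣ :=
    { toFun := fun y => if y ∈ Q then 1 else -1
      map_one' := if_pos (one_mem Q)
      map_mul' := fun y y' => by
        by_cases h1 : y ∈ Q <;> by_cases h2 : y' ∈ Q <;>
          simp [h1, h2, mul_mem_iff_of_index_two hQ2] }
  have hxx : x * x = 1 := by rw [← pow_two, ← hx, pow_orderOf_eq_one]
  obtain ⟨g, hg, hφ, -⟩ := Cfsg.Agent.Kondo.exists_extremal_conj hX P φ x hxx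
  set y : (P : Subgroup X) := ⟨g⁻¹ * x * g, hg⟩ with hy
  have hyQ : y ∈ Q := by
    by_contra h
    have : φ y = -1 := if_neg h
    rw [this] at hφ
    exact absurd hφ (by decide)
  have hy1 : y ≠ 1 := by
    intro h
    have h' : g⁻¹ * x * g = 1 := congrArg Subtype.val h
    have : x = 1 := by
      calc x = g * (g⁻¹ * x * g) * g⁻¹ := by group
        _ = 1 := by rw [h']; group
    rw [this, orderOf_one] at hx
    norm_num at hx
  have hy2 : y * y = 1 := by
    refine Subtype.ext ?_
    change g⁻¹ * x * g * (g⁻¹ * x * g) = 1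
    calc g⁻¹ * x * g * (g⁻¹ * x * g) = g⁻¹ * (x * x) * g := by group
      _ = 1 := by rw [hxx]; group
  have hxy : IsConj x (y : X) := isConj_iff.mpr ⟨g⁻¹, by simp [hy]⟩
  rcases hQmem y hyQ with h | h
  · obtain ⟨p, hp⟩ := hKmem y h
    have hinv : a * y * a⁻¹ = y⁻¹ := by
      rw [← hp]
      calc a * (p * a * p⁻¹ * a⁻¹) * a⁻¹ = a * p * a * p⁻¹ * (a * a)⁻¹ := by group
        _ = a * p * a⁻¹ * p⁻¹ := by rw [ha2, hainv]; group
        _ = (p * a * p⁻¹ * a⁻¹)⁻¹ := by group
    rw [inv_eq_of_mul_eq_one_right hy2] at hinv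
    have hyC : y ∈ C := mem_centralizer_singleton_iff.mpr (mul_inv_eq_iff_eq_mul.mp hinv).symm
    rcases hCmem y hyC with h' | h' | h' | h'
    · exact absurd h' hy1
    · left; rw [h'] at hxy; exact hxy
    · exact absurd (h' ▸ h) haK
    · exfalso
      have e : p * a * p⁻¹ = b := by
        calc p * a * p⁻¹ = p * a * p⁻¹ * a⁻¹ * a := by group
          _ = b := by rw [hp, h', mul_assoc, ha2, mul_one]
      have e' : (p : X) * w' * (p : X)⁻¹ = w := congrArg Subtype.val e
      have hcw : Commute w (p : X) := hwc p p.2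
      refine hne ?_
      calc w = (p : X)⁻¹ * (w * p) := by rw [hcw.eq, inv_mul_cancel_left]
        _ = w' := by rw [← e']; group
  · obtain ⟨p, hp⟩ := hKmem _ h
    refine Or.inr (hxy.trans (isConj_iff.mpr ⟨(p : X)⁻¹, ?_⟩))
    have e : p * a * p⁻¹ = y := by
      calc p * a * p⁻¹ = p * a * p⁻¹ * a⁻¹ * a := by group
        _ = y := by rw [hp, mul_assoc, ha2, mul_one]
    rw [← e]
    simp [a, mul_assoc]

end Cfsg.Lib.AltEightThree
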