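import Cfsg.Agent.Lib.AltEightThree.Four
import Cfsg.Agent.Lib.AltEightThree.Classes

set_option autoImplicit false

/-!
Some four group on one side commutes with one on the other side.
-/

namespace Cfsg.Lib.AltEightThree

open Equiv
open scoped Pointwise

theorem even_square : ∀ τ : Perm (Fin 5), Perm.sign τ = 1 → ∃ σ : Perm (Fin 5), σ * σ = τ := by
  decide +kernel

theorem even_cent : ∀ τ : Perm (Fin 5), Perm.sign τ = 1 → τ * v1 = v1 * τ ∨ τ * d01 = d01 * τ →
    τ * τ = 1 := by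
  decide +kernel

theorem d8_pow : ∀ τ : Perm (Fin 5), τ 4 = 4 → τ * v1 = v1 * τ → τ ^ 4 = 1 := by
  decide +kernel

theorem v_facts : orderOf v1 = 2 ∧ orderOf v2 = 2 ∧ v1 ≠ v2 ∧
    swap (0 : Fin 5) 1 * v2 ≠ v2 * swap 0 1 ∧ swap (0 : Fin 5) 1 * (v1 * v2) ≠ v1 * v2 * swap 0 1 ∧
    swap (1 : Fin 5) 2 * v1 * (swap (1 : Fin 5) 2)⁻¹ = v2 ∧
    v1 4 = 4 ∧ v2 * v1 = v1 * v2 ∧ v2 4 = 4 ∧ swap (0 : Fin 5) 1 * v1 = v1 * swap 0 1 := by
  refine ⟨orderOf_eq_prime (by decide +kernel) (by decide +kernel),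
    orderOf_eq_prime (by decide +kernel) (by decide +kernel), ?_⟩
  decide +kernel

variable {G : Type*} [Group G]

/-- A 3-element of `C` is conjugate in `C` into the Sylow subgroup `⟨z⟩`. -/
theorem exists_conj_into [Finite G] (C : Subgroup G) (z : G) (hzC : z ∈ C) (hz3 : z ^ 3 = 1)
    (hN : ∀ x ∈ C, x * z * x⁻¹ ∈ Subgroup.zpowers z → (∃ k : ℕ, x ^ 3 ^ k = 1) →
      x ∈ Subgroup.zpowers z)
    {y : G} (hy : y ∈ C) (hy3 : y ^ 3 = 1) : ∃ c ∈ C, c * y * c⁻¹ ∈ Subgroup.zpowers z := by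
  haveI : Fact (Nat.Prime 3) := ⟨Nat.prime_three⟩
  obtain ⟨P, hP⟩ := exists_sylow_three C z hzC hz3 hN
  have hY : IsPGroup 3 (Subgroup.zpowers (⟨y, hy⟩ : C)) := by
    rintro ⟨g, k, rfl⟩
    refine ⟨1, Subtype.ext ?_⟩
    change ((⟨y, hy⟩ : C) ^ k) ^ 3 ^ 1 = 1
    rw [pow_one, ← zpow_natCast, ← zpow_mul, mul_comm, zpow_mul, zpow_natCast,
      show (⟨y, hy⟩ : C) ^ 3 = 1 from Subtype.ext (by simpa using hy3), one_zpow]
  obtain ⟨Q, hQ⟩ := hY.exists_le_sylow
  obtain ⟨c, rfl⟩ := MulAction.exists_smul_eq C P Q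
  have h1 : (⟨y, hy⟩ : C) ∈ MulAut.conj c • (P : Subgroup C) := hQ (Subgroup.mem_zpowers _)
  rw [Subgroup.mem_pointwise_smul_iff_inv_smul_mem, hP] at h1
  obtain ⟨k, hk⟩ := h1
  refine ⟨(c⁻¹ : C), (c⁻¹ : C).2, k, ?_⟩
  simpa [MulAut.smul_def] using congrArg Subtype.val hk

namespace Frame

variable (S : Frame G)

/-- The normaliser of `⟨z⟩` is generated by `z` and the symmetric group. -/
theorem norm_z {x : G} (hn : x * S.z * x⁻¹ ∈ Subgroup.zpowers S.z) :
    ∃ (i : ℕ) (τ : Perm (Fin 5)), x = S.z ^ i * S.F τ := by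
  rcases zpowers_three S.z3 hn with h | h | h
  · exact absurd (conj_eq_one_iff.mp h) S.z_ne
  · obtain ⟨i, τ, -, e⟩ := S.cent x (mul_inv_eq_iff_eq_mul.mp h)
    exact ⟨i, τ, e⟩
  · have hb : (x * S.F t34) * S.z = S.z * (x * S.F t34) := by
      refine mul_inv_eq_iff_eq_mul.mp ?_
      calc x * S.F t34 * S.z * (x * S.F t34)⁻¹ = x * (S.F t34 * S.z * (S.F t34)⁻¹) * x⁻¹ := by group
        _ = (x * S.z * x⁻¹)⁻¹ := by rw [S.odd_inv _ sign_t34]; group
        _ = S.z := by rw [h, inv_eq_iff_mul_eq_one, ← pow_succ, S.z3]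
    obtain ⟨i, τ, -, e⟩ := S.cent _ hb
    exact ⟨i, τ * t34⁻¹, by rw [map_mul, map_inv, ← mul_assoc, ← e, mul_inv_cancel_right]⟩

/-- `⟨z⟩` is a Sylow 3-subgroup of the centraliser of the two standard involutions. -/
theorem three_of_norm {τ₀ : Perm (Fin 5)} (hτ₀ : τ₀ = v1 ∨ τ₀ = d01) {x : G}
    (hx : x * S.F τ₀ = S.F τ₀ * x) (hn : x * S.z * x⁻¹ ∈ Subgroup.zpowers S.z)
    (h3 : ∃ k : ℕ, x ^ 3 ^ k = 1) : x ∈ Subgroup.zpowers S.z := by
  obtain ⟨i, σ, rfl⟩ := S.norm_z hn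
  obtain ⟨k, hk⟩ := h3
  have hτe : Perm.sign τ₀ = 1 := by rcases hτ₀ with rfl | rfl <;> decide +kernel
  have hodd : Odd (3 ^ k) := (show Odd 3 by decide).pow
  rcases Int.units_eq_one_or (Perm.sign σ) with hσ | hσ
  · have hcom : σ * τ₀ = τ₀ * σ := S.F_inj (by
      apply mul_left_cancel (a := S.z ^ i)
      rw [map_mul, map_mul, ← mul_assoc, hx, ← mul_assoc, ← mul_assoc, S.comm_z_pow_F hτe])
    have hsq : σ * σ = 1 := even_cent σ hσ (by rcases hτ₀ with rfl | rfl; exacts [Or.inl hcom, Or.inr hcom])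
    rw [(show Commute (S.z ^ i) (S.F σ) from (S.comm_z_pow_F hσ i).symm).mul_pow, ← pow_mul,
      ← map_pow] at hk
    have h := (S.z_pow_F_eq (i := i * 3 ^ k) (τ := (σ ^ 3 ^ k)⁻¹)
      (by rw [map_inv]; exact eq_inv_of_mul_eq_one_left hk)).2
    obtain ⟨m, hm⟩ := hodd
    rw [inv_eq_one, hm, pow_succ, pow_mul, pow_two, hsq, one_pow, one_mul] at h
    rw [h, map_one, mul_one]
    exact pow_mem (Subgroup.mem_zpowers _) i
  · exfalso
    set x := S.z ^ i * S.F σ with hxdef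
    have hinv : x * S.z * x⁻¹ = S.z⁻¹ := by
      calc x * S.z * x⁻¹ = S.z ^ i * (S.F σ * S.z * (S.F σ)⁻¹) * (S.z ^ i)⁻¹ := by
            rw [hxdef]; group
        _ = S.z⁻¹ := by rw [S.odd_inv σ hσ]; group
    have hinv' : x * S.z⁻¹ * x⁻¹ = S.z := by
      have := congrArg (·⁻¹) hinv
      simpa [mul_assoc] using this
    have key : ∀ m : ℕ, x ^ (2 * m + 1) * S.z * (x ^ (2 * m + 1))⁻¹ = S.z⁻¹ := by
      intro m
      induction m with
      | zero => simpa using hinv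
      | succ m ih =>
        calc x ^ (2 * (m + 1) + 1) * S.z * (x ^ (2 * (m + 1) + 1))⁻¹
            = x * (x * (x ^ (2 * m + 1) * S.z * (x ^ (2 * m + 1))⁻¹) * x⁻¹) * x⁻¹ := by
              rw [show 2 * (m + 1) + 1 = (2 * m + 1) + 1 + 1 by ring, pow_succ', pow_succ']; group
          _ = S.z⁻¹ := by rw [ih, hinv', hinv]
    obtain ⟨m, hm⟩ := hodd
    have h := key m
    rw [← hm, hk, one_mul, inv_one, mul_one] at h
    refine S.z_ne ?_
    calc S.z = S.z ^ 3 * (S.z * S.z)⁻¹ := by group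
      _ = 1 := by rw [S.z3, one_mul]; nth_rewrite 2 [h]; group

theorem mem_H (τ : Perm (Fin 5)) :
    S.F τ ∈ Subgroup.closure (Set.range S.F ∪ Set.range S.F2) :=
  Subgroup.subset_closure (Or.inl ⟨τ, rfl⟩)

theorem mem_H2 (τ : Perm (Fin 5)) :
    S.F2 τ ∈ Subgroup.closure (Set.range S.F ∪ Set.range S.F2) :=
  Subgroup.subset_closure (Or.inr ⟨τ, rfl⟩)

variable [Finite G]

/-- The degenerate case is impossible. -/
theorem not_small (hsmall : ∀ g ∈ Subgroup.centralizer (S.V : Set G),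
    ∃ (i : ℕ) (τ : Perm (Fin 5)), InV 4 τ ∧ g = S.z ^ i * S.F τ) : False := by
  classical
  obtain ⟨hv1, hv2, hv12, htv2, htv12, hv1v2, hv14, hv21, hv24, htv1⟩ := v_facts
  set H := Subgroup.closure (Set.range S.F ∪ Set.range S.F2) with hH
  let f1 : Perm (Fin 5) →* H := S.F.codRestrict H S.mem_H
  let f2 : Perm (Fin 5) →* H := S.F2.codRestrict H S.mem_H2
  have hzH : S.z ∈ H := S.F2_c3 ▸ S.mem_H2 c3
  have huH : S.u ∈ H := S.mem_H c3
  -- no subgroup of index two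
  have hno : ∀ K : Subgroup H, K.Normal → K.index ≠ 2 := by
    intro K _ hK
    have hev : ∀ (f : Perm (Fin 5) →* H) (τ : Perm (Fin 5)), Perm.sign τ = 1 → f τ ∈ K := by
      intro f τ hτ
      obtain ⟨σ, rfl⟩ := even_square τ hτ
      rw [map_mul, ← pow_two]
      exact Subgroup.sq_mem_of_index_two hK _
    have hall : ∀ (f : Perm (Fin 5) →* H), f t34 ∈ K → ∀ τ, f τ ∈ K := by
      intro f hf τ
      rcases Int.units_eq_one_or (Perm.sign τ) with h | h
      · exact hev f τ h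
      · have h' := mul_mem (hev f (τ * t34) (by rw [map_mul, h, sign_t34]; rfl)) hf
        rwa [← map_mul, mul_assoc, show t34 * t34 = 1 by decide +kernel, mul_one] at h'
    have h1 : f1 t34 ∈ K := by
      have : f1 t34 = f2 d01 := Subtype.ext S.F2_d01.symm
      rw [this]; exact hev f2 d01 sign_d01
    have h2 : f2 t34 ∈ K := by
      have : f2 t34 = f1 d01 := Subtype.ext S.F2_t34
      rw [this]; exact hev f1 d01 sign_d01
    have htop : H ≤ K.map H.subtype := by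
      refine (Subgroup.closure_le _).mpr ?_
      rintro x (⟨τ, rfl⟩ | ⟨τ, rfl⟩)
      · exact ⟨f1 τ, hall f1 h1 τ, rfl⟩
      · exact ⟨f2 τ, hall f2 h2 τ, rfl⟩
    have : K = ⊤ := by
      rw [eq_top_iff]
      intro x _
      obtain ⟨y, hy, e⟩ := htop x.2
      rwa [← H.subtype_injective e]
    rw [this, Subgroup.index_top] at hK
    omega
  -- every involution of `H` is conjugate to `w`
  have hf1 : Function.Injective f1 := fun x y h => S.F_inj (congrArg Subtype.val h)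
  have hclass : ∀ x : H, orderOf x = 2 → ∃ h : H, h * f1 v1 * h⁻¹ = x := by
    intro x hx
    have hcl : IsPGroup 2 (Subgroup.closure ({f1 v1, f1 v2, f1 (swap 0 1)} : Set H)) := by
      let D8 : Subgroup (Perm (Fin 5)) :=
        MulAction.stabilizer (Perm (Fin 5)) (4 : Fin 5) ⊓ Subgroup.centralizer {v1}
      have hD : IsPGroup 2 D8 := by
        rintro ⟨τ, hτ1, hτ2⟩
        exact ⟨2, Subtype.ext (d8_pow τ hτ1 (Subgroup.mem_centralizer_singleton_iff.mp hτ2))⟩
      refine (hD.map f1).to_le ?_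
      rw [Subgroup.closure_le]
      rintro y (rfl | rfl | rfl)
      · exact ⟨v1, ⟨hv14, Subgroup.mem_centralizer_singleton_iff.mpr rfl⟩, rfl⟩
      · exact ⟨v2, ⟨hv24, Subgroup.mem_centralizer_singleton_iff.mpr hv21⟩, rfl⟩
      · exact ⟨swap 0 1, ⟨by simp [MulAction.mem_stabilizer_iff]; rfl,
          Subgroup.mem_centralizer_singleton_iff.mpr htv1⟩, rfl⟩
    have h := involution_classes hno (w := f1 v1) (w' := f1 v2) (t := f1 (swap 0 1))
      (by rw [orderOf_injective f1 hf1, hv1]) (by rw [orderOf_injective f1 hf1, hv2])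
      (fun h => hv12 (hf1 h))
      (fun h => htv2 (hf1 (by simpa using h.eq)))
      (fun h => htv12 (hf1 (by simpa using h.eq))) hcl ?_ hx
    · rcases h with h | h
      · obtain ⟨c, hc⟩ := isConj_iff.mp h.symm
        exact ⟨c, hc⟩
      · obtain ⟨c, hc⟩ := isConj_iff.mp h.symm
        refine ⟨c * f1 (swap 1 2), ?_⟩
        rw [← hc, ← hv1v2, map_mul, map_mul, map_inv]
        group
    · rintro y ⟨k, hk⟩ hy1 hy2
      obtain ⟨i, τ, hτ, he⟩ := hsmall y (S.mem_cent_V.mpr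
        ⟨congrArg Subtype.val hy1.eq, congrArg Subtype.val hy2.eq⟩)
      have hk' : (y : G) ^ 2 ^ k = 1 := by rw [← Subgroup.coe_pow, hk]; rfl
      rw [he, (show Commute (S.z ^ i) (S.F τ) from (S.comm_z_pow_F hτ.1 i).symm).mul_pow, ← pow_mul,
        ← map_pow] at hk'
      have h' := (S.z_pow_F_eq (i := i * 2 ^ k) (τ := (τ ^ 2 ^ k)⁻¹)
        (by rw [map_inv]; exact eq_inv_of_mul_eq_one_left hk')).1
      have hi : i % 3 = 0 := Nat.mod_eq_zero_of_dvd
        (Nat.Coprime.dvd_of_dvd_mul_right ((by decide : Nat.Coprime 3 2).pow_right k)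
          (Nat.dvd_of_mod_eq_zero h'))
      rw [S.z_pow_eq_one hi, one_mul] at he
      have he' : y = f1 τ := Subtype.ext he
      rw [he', ← map_mul]
      rcases four_gens τ hτ with rfl | rfl | rfl | rfl <;> simp
  have hw : ∀ {h : H} {v : G}, ((h * f1 v1 * h⁻¹ : H) : G) = v →
      (h : G) * S.F v1 * (h : G)⁻¹ = v := fun e => e
  -- first step: the involution `b` gives `s ∈ H`
  have hsH : S.s ∈ H := by
    have hbo : orderOf (f1 t34) = 2 := by
      rw [orderOf_injective f1 hf1]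
      exact orderOf_eq_prime (by decide +kernel) (by decide +kernel)
    obtain ⟨h, hh⟩ := hclass (f1 t34) hbo
    have hh' : (h : G) * S.F v1 * (h : G)⁻¹ = S.F t34 := hw (congrArg Subtype.val hh)
    have hbd : S.F t34 = S.flip.F d01 := S.F2_d01.symm
    have hu : S.flip.z ∈ H ⊓ Subgroup.centralizer ({S.F t34} : Set G) := by
      refine ⟨huH, mem_cent_singleton.mpr ?_⟩
      change S.F c3 * S.F t34 = S.F t34 * S.F c3
      rw [← map_mul, ← map_mul, show t34 * c3 = c3 * t34 by decide +kernel]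
    have hy : (h : G) * S.z * (h : G)⁻¹ ∈ H ⊓ Subgroup.centralizer ({S.F t34} : Set G) := by
      refine ⟨mul_mem (mul_mem h.2 hzH) (H.inv_mem h.2), mem_cent_singleton.mpr ?_⟩
      rw [← hh']
      calc (h : G) * S.z * (h : G)⁻¹ * ((h : G) * S.F v1 * (h : G)⁻¹)
          = (h : G) * (S.z * S.F v1) * (h : G)⁻¹ := by group
        _ = (h : G) * (S.F v1 * S.z) * (h : G)⁻¹ := by rw [S.even_comm v1 inV_v1.1]
        _ = _ := by group
    obtain ⟨c, ⟨hcH, -⟩, hc⟩ := exists_conj_into _ S.flip.z hu S.flip.z3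
      (fun x hx hn h3 => S.flip.three_of_norm (Or.inr rfl)
        (by have := mem_cent_singleton.mp hx.2; rwa [← hbd]) hn h3)
      hy (by rw [conj_pow, S.z3, mul_one, mul_inv_cancel])
    obtain ⟨k, hk⟩ := hc
    set g := S.s * c * (h : G) with hg
    have hgz : g * S.z * g⁻¹ ∈ Subgroup.zpowers S.z := by
      refine ⟨k, ?_⟩
      have h1 : MulAut.conj S.s (S.u ^ k) = (MulAut.conj S.s S.u) ^ k := map_zpow _ _ _
      simp only [MulAut.conj_apply, S.s_inv, S.s_conj_u] at h1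
      have hk' : S.u ^ k = c * ((h : G) * S.z * (h : G)⁻¹) * c⁻¹ := hk
      calc S.z ^ k = S.s * S.u ^ k * S.s := h1.symm
        _ = g * S.z * g⁻¹ := by rw [hk', hg]; simp only [mul_inv_rev, S.s_inv, mul_assoc]
    obtain ⟨i, σ, hgi⟩ := S.norm_z hgz
    have hgH : g ∈ H := hgi ▸ mul_mem (pow_mem hzH i) (S.mem_H σ)
    have := mul_mem (mul_mem hgH (H.inv_mem h.2)) (H.inv_mem hcH)
    rwa [hg, mul_inv_cancel_right, mul_inv_cancel_right] at this
  -- second step: the involution `s` gives a contradiction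
  have hso : orderOf (⟨S.s, hsH⟩ : H) = 2 := by
    rw [Subgroup.orderOf_mk]
    refine orderOf_eq_prime (by rw [pow_two, S.s_sq]) ?_
    intro hs1
    have h := S.s_z
    rw [hs1, one_mul, mul_one] at h
    exact S.F_ne_z c3 h.symm
  obtain ⟨h, hh⟩ := hclass _ hso
  have hh' : (h : G) * S.F v1 * (h : G)⁻¹ = S.s := hw (congrArg Subtype.val hh)
  have hsy : S.s * (S.z * S.u) = S.z * S.u * S.s := by
    calc S.s * (S.z * S.u) = (S.s * S.z * S.s) * (S.s * S.u * S.s) * S.s := by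
          simp only [← mul_assoc]
          rw [mul_assoc _ S.s S.s, S.s_sq, mul_one, mul_assoc _ S.s S.s, S.s_sq, mul_one]
      _ = S.u * S.z * S.s := by rw [S.s_z, S.s_conj_u]; rfl
      _ = S.z * S.u * S.s := by rw [S.comm_u_z]
  have hy : (h : G)⁻¹ * (S.z * S.u) * (h : G) ∈ H ⊓ Subgroup.centralizer ({S.F v1} : Set G) := by
    refine ⟨mul_mem (mul_mem (H.inv_mem h.2) (mul_mem hzH huH)) h.2, mem_cent_singleton.mpr ?_⟩
    have e : S.F v1 = (h : G)⁻¹ * S.s * (h : G) := by rw [← hh']; group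
    rw [e]
    calc (h : G)⁻¹ * (S.z * S.u) * (h : G) * ((h : G)⁻¹ * S.s * (h : G))
        = (h : G)⁻¹ * (S.z * S.u * S.s) * (h : G) := by group
      _ = (h : G)⁻¹ * (S.s * (S.z * S.u)) * (h : G) := by rw [hsy]
      _ = _ := by group
  obtain ⟨c, -, hc⟩ := exists_conj_into _ S.z
    (show S.z ∈ H ⊓ Subgroup.centralizer ({S.F v1} : Set G) from
      ⟨hzH, mem_cent_singleton.mpr (S.even_comm v1 inV_v1.1).symm⟩) S.z3
    (fun x hx hn h3 => S.three_of_norm (Or.inl rfl) (mem_cent_singleton.mp hx.2) hn h3)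
    hy (by
      have h3 : (S.z * S.u) ^ 3 = 1 := by
        rw [(show Commute S.z S.u from S.comm_u_z.symm).mul_pow, S.z3, S.u3, one_mul]
      calc ((h : G)⁻¹ * (S.z * S.u) * (h : G)) ^ 3 = (h : G)⁻¹ * (S.z * S.u) ^ 3 * (h : G) := by
            rw [pow_three, pow_three]; group
        _ = 1 := by rw [h3]; group)
  set g := c * (h : G)⁻¹
  have hgy : g * (S.z * S.u) * g⁻¹ = c * ((h : G)⁻¹ * (S.z * S.u) * (h : G)) * c⁻¹ := by
    simp only [g]; group
  rw [← hgy] at hc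
  have hcard : Nat.card (Subgroup.centralizer ({g * (S.z * S.u) * g⁻¹} : Set G)) = 18 := by
    rw [card_cent_conj]; exact S.card_y
  have h60 : 60 ≤ Nat.card (Subgroup.centralizer ({S.z} : Set G)) :=
    Pre.sixty_le_card_cent ⟨S.z, S.F, S.F_inj, S.z3, S.z_ne, S.F_ne_z, S.even_comm, S.odd_inv, S.cent⟩
  rcases zpowers_three S.z3 hc with e | e | e
  · have h1 := conj_eq_one_iff.mp e
    have h2 : S.z ^ 1 = S.F c3⁻¹ := by
      rw [pow_one, map_inv]; exact eq_inv_of_mul_eq_one_left h1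
    exact absurd (S.z_pow_F_eq h2).1 (by decide)
  · rw [e] at hcard; omega
  · rw [e, show S.z ^ 2 = S.z⁻¹ by rw [eq_inv_iff_mul_eq_one, ← pow_succ, S.z3], card_cent_inv] at hcard
    omega

/-- Some four on the other side commutes with the four. -/
theorem exists_cross : ∃ f : Fin 5, (f = 4 ∨ f = 3) ∧
    ∀ τ σ, InV 4 τ → InV f σ → S.F τ * S.F2 σ = S.F2 σ * S.F τ :=
  S.four_or_small.resolve_right S.not_small

end Frame

end Cfsg.Lib.AltEightThree
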