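import Cfsg.Agent.Lib.AltEightNine.Core.PointFacts

set_option autoImplicit false
set_option maxRecDepth 100000
set_option synthInstance.maxSize 1000

/-!
Finite facts on the alternating group of degree eight: the elementary subgroup of order sixteen,
its normaliser in the centralisers of the involutions, and three-elements.
-/

namespace Cfsg.Lib.AltEightThree

open Equiv Equiv.Perm
open Cfsg.Lib.AltEightNine (A8 w8 z8 v8 f8 c8 d8 t8 wPerm bl cent_cases inW0)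

attribute [local instance 2000] List.decidableBAll List.decidableBEx

/-- The permutation (0 4)(1 5)(2 6)(3 7), exchanging the two blocks. -/
def T8 : A8 :=
  ⟨swap 0 4 * swap 1 5 * swap 2 6 * swap 3 7, mem_alternatingGroup.2 (by decide +kernel)⟩

/-- The permutation (0 2 4)(1 3 5). -/
def y6 : A8 := ⟨swap 0 2 * swap 2 4 * (swap 1 3 * swap 3 5), mem_alternatingGroup.2 (by decide +kernel)⟩

/-- The product of the two standard three-cycles. -/
def y8 : A8 := c8 * t8 0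

/-- The first four. -/
def fourV : List A8 := [1, w8, v8, v8 * w8]

/-- The second four. -/
def fourU : List A8 := [1, f8 0, f8 1, f8 0 * f8 1]

/-- The sixteen elements. -/
def kList : List A8 := fourV.flatMap fun a => fourU.map fun b => a * b

/-- The thirty-two elements centralising the two involutions. -/
def l32 : List A8 := kList.flatMap fun k => [k, k * d8]

/-- The sixty-four elements. -/
def l64 : List A8 := l32.flatMap fun k => [k, k * T8]

/-- An involution with a fixed point. -/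
def Wt (a : A8) : Prop := a * a = 1 ∧ a ≠ 1 ∧ ∃ p, a.1 p = p

instance : DecidablePred Wt := fun a => by unfold Wt; infer_instance

theorem mem_of_val {l : List A8} {a : A8} (h : a.1 ∈ l.map Subtype.val) : a ∈ l := by
  obtain ⟨b, hb, e⟩ := List.mem_map.1 h
  exact Subtype.ext e ▸ hb

theorem cent_mem_l32 {a : A8} (hw : a * w8 = w8 * a) (hz : a * z8 = z8 * a) : a ∈ l32 := by
  apply mem_of_val
  exact cent_cases (fun σ => σ * z8.1 = z8.1 * σ → σ ∈ l32.map Subtype.val) (by decide +kernel) hw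
    (congrArg Subtype.val hz)

theorem cent_mem_kList {a : A8} (hw : a * w8 = w8 * a) (hv : a * v8 = v8 * a)
    (h0 : a * f8 0 = f8 0 * a) (h1 : a * f8 1 = f8 1 * a) : a ∈ kList := by
  apply mem_of_val
  exact cent_cases (fun σ => σ * v8.1 = v8.1 * σ → σ * (f8 0).1 = (f8 0).1 * σ →
      σ * (f8 1).1 = (f8 1).1 * σ → σ ∈ kList.map Subtype.val) (by decide +kernel) hw
    (congrArg Subtype.val hv) (congrArg Subtype.val h0) (congrArg Subtype.val h1)

/-- The subgroup of order sixteen. -/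
def K8 : Subgroup A8 := Subgroup.centralizer {w8, v8, f8 0, f8 1}

theorem mem_K8 {a : A8} : a ∈ K8 ↔
    a * w8 = w8 * a ∧ a * v8 = v8 * a ∧ a * f8 0 = f8 0 * a ∧ a * f8 1 = f8 1 * a := by
  simp only [K8, Subgroup.mem_centralizer_iff, Set.mem_insert_iff, Set.mem_singleton_iff,
    forall_eq_or_imp, forall_eq]
  exact and_congr eq_comm (and_congr eq_comm (and_congr eq_comm eq_comm))

theorem kList_facts : (∀ a ∈ kList, a * w8 = w8 * a ∧ a * v8 = v8 * a ∧ a * f8 0 = f8 0 * a ∧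
      a * f8 1 = f8 1 * a ∧ a * a = 1) ∧
    (∀ a ∈ kList, ∀ b ∈ kList, a * b = b * a) ∧ kList.Nodup ∧ kList.length = 16 ∧
    (∀ a ∈ kList, Wt a → a ∈ [w8, v8, v8 * w8, f8 0, f8 1, f8 0 * f8 1]) ∧
    (∀ a ∈ [w8, v8, v8 * w8], ∀ b ∈ [f8 0, f8 1, f8 0 * f8 1], ¬ Wt (a * b)) ∧
    (∀ a ∈ kList, Wt a → Wt (a * w8) → a ∈ fourV) := by
  decide +kernel

theorem mem_K8_iff {a : A8} : a ∈ K8 ↔ a ∈ kList := by
  rw [mem_K8]
  exact ⟨fun h => cent_mem_kList h.1 h.2.1 h.2.2.1 h.2.2.2,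
    fun h => ⟨(kList_facts.1 a h).1, (kList_facts.1 a h).2.1, (kList_facts.1 a h).2.2.1,
      (kList_facts.1 a h).2.2.2.1⟩⟩

theorem card_K8 : Nat.card K8 = 16 := by
  have e : K8 ≃ {a : A8 // a ∈ kList.toFinset} :=
    Equiv.subtypeEquivRight fun a => mem_K8_iff.trans List.mem_toFinset.symm
  rw [Nat.card_congr e, Nat.card_eq_fintype_card, Fintype.card_coe,
    List.toFinset_card_of_nodup kList_facts.2.2.1, kList_facts.2.2.2.1]

theorem T8_facts : T8 * T8 = 1 ∧ T8 * z8 = z8 * T8 ∧ T8 * w8 * T8⁻¹ = f8 0 ∧ T8 * f8 0 * T8⁻¹ = w8 ∧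
    T8 * v8 * T8⁻¹ = f8 1 ∧ T8 * f8 1 * T8⁻¹ = v8 ∧ z8 = w8 * f8 0 ∧ z8 * z8 = 1 ∧ z8 ≠ 1 ∧
    w8 * w8 = 1 ∧ w8 ≠ 1 ∧ v8 ≠ 1 ∧ v8 ≠ w8 ∧ ¬ T8 * w8 = w8 * T8 := by
  decide +kernel

theorem conj_c8 : c8 * w8 * c8⁻¹ = w8 ∧ c8 * v8 * c8⁻¹ = v8 ∧ c8 * f8 0 * c8⁻¹ ∈ fourU ∧
    c8 * f8 1 * c8⁻¹ ∈ fourU ∧ t8 0 * w8 * (t8 0)⁻¹ ∈ fourV ∧ t8 0 * v8 * (t8 0)⁻¹ ∈ fourV ∧
    t8 0 * f8 0 * (t8 0)⁻¹ = f8 0 ∧ t8 0 * f8 1 * (t8 0)⁻¹ = f8 1 ∧
    (∀ a ∈ fourV, a ∈ kList) ∧ (∀ a ∈ fourU, a ∈ kList) := by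
  decide +kernel

/-- The elements of the first four are induced on it by the embedded group. -/
theorem aut_four : ∀ i ∈ [w8, v8, v8 * w8], ∀ j ∈ [w8, v8, v8 * w8], i ≠ j →
    ∃ a ∈ [1, d8, t8 0, t8 0 * d8, t8 0 * t8 0, t8 0 * t8 0 * d8],
      a * w8 * a⁻¹ = i ∧ a * v8 * a⁻¹ = j := by
  decide +kernel

/-- The subgroup of order sixty-four. -/
def P64 : Subgroup A8 where
  carrier := {a | a * z8 = z8 * a ∧ (a * w8 * a⁻¹ = w8 ∨ a * w8 * a⁻¹ = f8 0)}
  one_mem' := ⟨by rw [one_mul, mul_one], Or.inl (by rw [one_mul, inv_one, mul_one])⟩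
  mul_mem' := by
    rintro a b ⟨ha, ha'⟩ ⟨hb, hb'⟩
    refine ⟨((show Commute a z8 from ha).mul_left hb).eq, ?_⟩
    have hf : a * f8 0 * a⁻¹ = (a * w8 * a⁻¹) * z8 := by
      rw [show f8 0 = w8 * z8 by decide +kernel, ← mul_assoc, mul_assoc (a * w8) z8,
        ← ((show Commute a z8 from ha).inv_left).eq, ← mul_assoc]
    rw [show a * b * w8 * (a * b)⁻¹ = a * (b * w8 * b⁻¹) * a⁻¹ by group]
    rcases hb' with e | e <;> rw [e]
    · exact ha'
    · rw [hf]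
      rcases ha' with e' | e' <;> rw [e']
      · exact Or.inr (by decide +kernel)
      · exact Or.inl (by decide +kernel)
  inv_mem' := by
    rintro a ⟨ha, ha'⟩
    refine ⟨((show Commute a z8 from ha).inv_left).eq, ?_⟩
    rw [inv_inv]
    rcases ha' with e | e
    · exact Or.inl (by nth_rewrite 1 [← e]; group)
    · have hf : a * f8 0 * a⁻¹ = w8 := by
        rw [show f8 0 = w8 * z8 by decide +kernel, ← mul_assoc, mul_assoc (a * w8) z8,
          ← ((show Commute a z8 from ha).inv_left).eq, ← mul_assoc, e]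
        decide +kernel
      exact Or.inr (by nth_rewrite 1 [← hf]; group)

theorem mem_P64 {a : A8} :
    a ∈ P64 ↔ a * z8 = z8 * a ∧ (a * w8 * a⁻¹ = w8 ∨ a * w8 * a⁻¹ = f8 0) := Iff.rfl

theorem l64_facts : (∀ a ∈ l64, a * z8 = z8 * a ∧ (a * w8 * a⁻¹ = w8 ∨ a * w8 * a⁻¹ = f8 0)) ∧
    l64.Nodup ∧ l64.length = 64 ∧ (∀ a ∈ l32, a ∈ l64 ∧ a * T8 ∈ l64 ∧ a * w8 = w8 * a) ∧
    l32.Nodup ∧ l32.length = 32 := by
  decide +kernel

theorem mem_P64_iff {a : A8} : a ∈ P64 ↔ a ∈ l64 := by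
  refine ⟨fun h => ?_, fun h => mem_P64.2 (l64_facts.1 a h)⟩
  obtain ⟨hz, hw | hw⟩ := mem_P64.1 h
  · exact (l64_facts.2.2.2.1 a (cent_mem_l32 (mul_inv_eq_iff_eq_mul.1 hw) hz)).1
  · have hz' : (a * T8) * z8 = z8 * (a * T8) :=
      ((show Commute a z8 from hz).mul_left T8_facts.2.1).eq
    have hw' : (a * T8) * w8 = w8 * (a * T8) := by
      refine mul_inv_eq_iff_eq_mul.1 ?_
      rw [show a * T8 * w8 * (a * T8)⁻¹ = a * (T8 * w8 * T8⁻¹) * a⁻¹ by group, T8_facts.2.2.1,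
        show f8 0 = w8 * z8 by decide +kernel, ← mul_assoc, mul_assoc (a * w8) z8,
        ← ((show Commute a z8 from hz).inv_left).eq, ← mul_assoc, hw]
      decide +kernel
    have := (l64_facts.2.2.2.1 _ (cent_mem_l32 hw' hz')).2.1
    rwa [mul_assoc, T8_facts.1, mul_one] at this

theorem card_P64 : Nat.card P64 = 64 := by
  have e : P64 ≃ {a : A8 // a ∈ l64.toFinset} :=
    Equiv.subtypeEquivRight fun a => mem_P64_iff.trans List.mem_toFinset.symm
  rw [Nat.card_congr e, Nat.card_eq_fintype_card, Fintype.card_coe,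
    List.toFinset_card_of_nodup l64_facts.2.1, l64_facts.2.2.1]

/-- The subgroup of order thirty-two. -/
def P32 : Subgroup A8 := Subgroup.centralizer {w8, z8}

theorem mem_P32 {a : A8} : a ∈ P32 ↔ a * w8 = w8 * a ∧ a * z8 = z8 * a := by
  simp only [P32, Subgroup.mem_centralizer_iff, Set.mem_insert_iff, Set.mem_singleton_iff,
    forall_eq_or_imp, forall_eq]
  exact and_congr eq_comm eq_comm

theorem mem_P32_iff {a : A8} : a ∈ P32 ↔ a ∈ l32 := by
  rw [mem_P32]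
  exact ⟨fun h => cent_mem_l32 h.1 h.2,
    fun h => ⟨(l64_facts.2.2.2.1 a h).2.2, (l64_facts.1 a (l64_facts.2.2.2.1 a h).1).1⟩⟩

theorem card_P32 : Nat.card P32 = 32 := by
  have e : P32 ≃ {a : A8 // a ∈ l32.toFinset} :=
    Equiv.subtypeEquivRight fun a => mem_P32_iff.trans List.mem_toFinset.symm
  rw [Nat.card_congr e, Nat.card_eq_fintype_card, Fintype.card_coe,
    List.toFinset_card_of_nodup l64_facts.2.2.2.2.1, l64_facts.2.2.2.2.2]

theorem K8_le_P32 : K8 ≤ P32 := fun a ha => by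
  rw [mem_P32_iff]
  exact List.mem_flatMap.2 ⟨a, mem_K8_iff.1 ha, by simp⟩

theorem P32_le_P64 : P32 ≤ P64 := fun a ha =>
  mem_P64.2 ⟨(mem_P32.1 ha).2, Or.inl (mul_inv_eq_iff_eq_mul.2 (mem_P32.1 ha).1)⟩

theorem few_commuting : ∀ x ∈ l64, x * x = 1 → x ∉ kList →
    (l64.filter fun y => decide (y * y = 1 ∧ y * x = x * y)).length < 16 := by
  decide +kernel

/-- The elementary subgroup of order sixteen is unique. -/
theorem unique_K8 {R : Subgroup A8} (hR : R ≤ P64) (hsq : ∀ r ∈ R, r * r = 1) (hc : 16 ≤ Nat.card R) :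
    R ≤ K8 := by
  intro x hx
  by_contra hxK
  have hxl := mem_P64_iff.1 (hR hx)
  have hlt := few_commuting x hxl (hsq x hx) (fun h => hxK (mem_K8_iff.2 h))
  let f : R → {y : A8 // y ∈ (l64.filter fun y => decide (y * y = 1 ∧ y * x = x * y)).toFinset} :=
    fun r => ⟨r.1, by
      rw [List.mem_toFinset, List.mem_filter, decide_eq_true_eq]
      refine ⟨mem_P64_iff.1 (hR r.2), hsq _ r.2, ?_⟩
      have h1 := hsq _ (mul_mem r.2 hx)
      have h2 : (r.1 : A8)⁻¹ = r.1 := inv_eq_of_mul_eq_one_right (hsq _ r.2)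
      have h3 : x⁻¹ = x := inv_eq_of_mul_eq_one_right (hsq _ hx)
      calc r.1 * x = (r.1 * x)⁻¹ := (inv_eq_of_mul_eq_one_right h1).symm
        _ = x * r.1 := by rw [mul_inv_rev, h2, h3]⟩
  have hle := Nat.card_le_card_of_injective f (fun a b h => Subtype.ext (Subtype.mk.inj h))
  rw [Nat.card_eq_finsetCard] at hle
  exact absurd ((hc.trans hle).trans (List.toFinset_card_le _)) (not_le.2 hlt)

/-- The candidates for a conjugate of the companion in the Sylow subgroup. -/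
theorem companion_test : ∀ x ∈ l32, Wt x → Wt (x * w8) → x ∉ fourV →
    ∃ a ∈ l32, a * x = x * a ∧ Wt a ∧ Wt (a * w8) ∧ a ≠ w8 ∧ a ≠ x ∧ a ≠ x * w8 := by
  decide +kernel

theorem four_two_elements {a : A8} (hw : a * w8 = w8 * a) (hv : a * v8 = v8 * a) (h4 : a ^ 4 = 1) :
    a ∈ kList := by
  apply mem_of_val
  exact cent_cases (fun σ => σ * v8.1 = v8.1 * σ → σ ^ 4 = 1 → σ ∈ kList.map Subtype.val)
    (by decide +kernel) hw (congrArg Subtype.val hv) (congrArg Subtype.val h4)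

theorem cent_w_four {a : A8} (hw : a * w8 = w8 * a) {k : ℕ} (h : a ^ 2 ^ k = 1) : a ^ 4 = 1 := by
  have h12 := AltEightNine.pow_twelve hw
  refine orderOf_dvd_iff_pow_eq_one.1 ?_
  have h1 := orderOf_dvd_of_pow_eq_one h
  have h2 := orderOf_dvd_of_pow_eq_one h12
  rw [show (12 : ℕ) = 4 * 3 by norm_num] at h2
  exact (Nat.Coprime.coprime_dvd_left h1 (Nat.Coprime.pow_left k (by norm_num))).dvd_of_dvd_mul_right h2

theorem cent_four_three {a : A8} (hw : a * w8 = w8 * a) (hv : a * v8 = v8 * a) (h3 : a ^ 3 = 1) :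
    a * c8 * a⁻¹ ∈ [1, c8, c8 * c8] → a ∈ [1, c8, c8 * c8] := by
  intro h
  apply mem_of_val
  refine cent_cases (fun σ => σ * v8.1 = v8.1 * σ → σ ^ 3 = 1 →
      σ * c8.1 * σ⁻¹ ∈ [(1 : A8), c8, c8 * c8].map Subtype.val →
      σ ∈ [(1 : A8), c8, c8 * c8].map Subtype.val)
    (by decide +kernel) hw (congrArg Subtype.val hv) (congrArg Subtype.val h3) ?_
  exact List.mem_map.2 ⟨_, h, rfl⟩

theorem no_three_w {r : A8} (hw : r * w8 = w8 * r) (h3 : r ^ 3 = 1) (h1 : r ≠ 1) :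
    ∃ k ∈ kList, k * r * k⁻¹ ≠ r ∧ k * r * k⁻¹ ≠ r⁻¹ := by
  have h := cent_cases (fun σ => σ ^ 3 = 1 → σ ≠ 1 →
    ∃ k ∈ kList.map Subtype.val, k * σ * k⁻¹ ≠ σ ∧ k * σ * k⁻¹ ≠ σ⁻¹) (by decide +kernel) hw
    (congrArg Subtype.val h3) (fun e => h1 (Subtype.ext e))
  obtain ⟨_, hk, h2, h4⟩ := h
  obtain ⟨k, hk', rfl⟩ := List.mem_map.1 hk
  exact ⟨k, hk', fun e => h2 (congrArg Subtype.val e), fun e => h4 (congrArg Subtype.val e)⟩

theorem conj_kList : ∀ k ∈ kList, t8 0 * k * (t8 0)⁻¹ ∈ kList ∧ (t8 0)⁻¹ * k * t8 0 ∈ kList ∧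
    c8 * k * c8⁻¹ ∈ kList ∧ T8 * k * T8⁻¹ ∈ kList := by
  decide +kernel

theorem four_conj_w : ∀ a ∈ [w8, v8, v8 * w8], ∃ g ∈ [1, t8 0, (t8 0)⁻¹], g * a * g⁻¹ = w8 := by
  decide +kernel

/-- No subgroup of order three is normalised by the elementary subgroup of order sixteen. -/
theorem no_three {r : A8} (h3 : r ^ 3 = 1) (h1 : r ≠ 1)
    (hK : ∀ k ∈ kList, k * r * k⁻¹ = r ∨ k * r * k⁻¹ = r⁻¹) : False := by
  obtain ⟨a, ha, har⟩ : ∃ a ∈ [w8, v8, v8 * w8], a * r * a⁻¹ = r := by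
    rcases hK w8 (by decide +kernel) with h | h
    · exact ⟨w8, by simp, h⟩
    rcases hK v8 (by decide +kernel) with h' | h'
    · exact ⟨v8, by simp, h'⟩
    refine ⟨v8 * w8, by simp, ?_⟩
    calc v8 * w8 * r * (v8 * w8)⁻¹ = v8 * (w8 * r * w8⁻¹) * v8⁻¹ := by group
      _ = (v8 * r * v8⁻¹)⁻¹ := by rw [h]; group
      _ = r := by rw [h', inv_inv]
  obtain ⟨g, hg, hga⟩ := four_conj_w a ha
  have hgr : (g * r * g⁻¹) * w8 = w8 * (g * r * g⁻¹) := by
    rw [← hga]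
    calc g * r * g⁻¹ * (g * a * g⁻¹) = g * (r * a) * g⁻¹ := by group
      _ = g * (a * r) * g⁻¹ := by rw [mul_inv_eq_iff_eq_mul.1 har]
      _ = _ := by group
  obtain ⟨k, hk, hk1, hk2⟩ := no_three_w hgr (by rw [conj_pow, h3, mul_one, mul_inv_cancel])
    (fun e => h1 (conj_eq_one_iff.1 e))
  have hk' : g⁻¹ * k * g ∈ kList := by
    simp only [List.mem_cons, List.not_mem_nil, or_false] at hg
    rcases hg with rfl | rfl | rfl
    · simpa using hk
    · exact (conj_kList k hk).2.1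
    · simpa using (conj_kList k hk).1
  rcases hK _ hk' with e | e
  · apply hk1
    calc k * (g * r * g⁻¹) * k⁻¹ = g * ((g⁻¹ * k * g) * r * (g⁻¹ * k * g)⁻¹) * g⁻¹ := by group
      _ = g * r * g⁻¹ := by rw [e]
  · apply hk2
    calc k * (g * r * g⁻¹) * k⁻¹ = g * ((g⁻¹ * k * g) * r * (g⁻¹ * k * g)⁻¹) * g⁻¹ := by group
      _ = (g * r * g⁻¹)⁻¹ := by rw [e]; group

theorem y6_facts : y6 ^ 3 = 1 ∧ y6 ≠ 1 ∧ y6 * z8 = z8 * y6 ∧ ∃ g : A8, g * y8 * g⁻¹ = y6 := by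
  refine ⟨by decide +kernel, by decide +kernel, by decide +kernel,
    ⟨(swap (1 : Fin 8) 2 * swap 2 4) * (swap 3 6 * swap 6 5), mem_alternatingGroup.2 ?_⟩, ?_⟩ <;>
  decide +kernel

end Cfsg.Lib.AltEightThree

namespace Cfsg.Lib.AltEightThree

open Equiv Equiv.Perm
open Cfsg.Lib.AltEightNine (A8 w8 z8 v8 f8 c8 d8 t8 wPerm bl cent_cases inW0)

attribute [local instance 2000] List.decidableBAll List.decidableBEx

/-- The centraliser of `z8` and `y6`. -/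
def l6 : List A8 := [1, y6, y6 * y6, z8, y6 * z8, y6 * y6 * z8]

/-- The permutation determined by the images of 0 and 6. -/
def cand (p q : Fin 8) : Fin 8 → Fin 8 :=
  ![p, z8.1 p, y6.1 p, z8.1 (y6.1 p), y6.1 (y6.1 p), z8.1 (y6.1 (y6.1 p)), q, z8.1 q]

theorem cand_cases : ∀ p q : Fin 8, (∀ i, cand p q (y6.1 i) = y6.1 (cand p q i)) →
    (∀ i j, cand p q i = cand p q j → i = j) →
    ∃ σ ∈ (l6.map Subtype.val ++ l6.map fun a => a.1 * swap 6 7), ∀ i, σ i = cand p q i := by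
  decide +kernel

theorem cand_even : ∀ σ ∈ (l6.map Subtype.val ++ l6.map fun a => a.1 * swap 6 7), Equiv.Perm.sign σ = 1 →
    σ ∈ l6.map Subtype.val := by
  decide +kernel

theorem cent_y6_z {a : A8} (hy : a * y6 = y6 * a) (hz : a * z8 = z8 * a) : a ∈ l6 := by
  have hy' : ∀ i, a.1 (y6.1 i) = y6.1 (a.1 i) := fun i => Equiv.ext_iff.1 (congrArg Subtype.val hy) i
  have hz' : ∀ i, a.1 (z8.1 i) = z8.1 (a.1 i) := fun i => Equiv.ext_iff.1 (congrArg Subtype.val hz) i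
  have e : ∀ i, cand (a.1 0) (a.1 6) i = a.1 i := by
    intro i
    have h1 : a.1 1 = z8.1 (a.1 0) := hz' 0
    have h2 : a.1 2 = y6.1 (a.1 0) := hy' 0
    have h4 : a.1 4 = y6.1 (a.1 2) := hy' 2
    have h3 : a.1 3 = z8.1 (a.1 2) := hz' 2
    have h5 : a.1 5 = z8.1 (a.1 4) := hz' 4
    have h7 : a.1 7 = z8.1 (a.1 6) := hz' 6
    fin_cases i
    · rfl
    · exact h1.symm
    · exact h2.symm
    · change z8.1 (y6.1 (a.1 0)) = a.1 3
      rw [h3, h2]
    · change y6.1 (y6.1 (a.1 0)) = a.1 4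
      rw [h4, h2]
    · change z8.1 (y6.1 (y6.1 (a.1 0))) = a.1 5
      rw [h5, h4, h2]
    · rfl
    · exact h7.symm
  obtain ⟨σ, hσ, hσe⟩ := cand_cases (a.1 0) (a.1 6) (fun i => by rw [e, e]; exact hy' i)
    (fun i j h => by rw [e, e] at h; exact a.1.injective h)
  have hσa : σ = a.1 := Equiv.ext fun i => (hσe i).trans (e i)
  subst hσa
  exact mem_of_val (cand_even _ hσ (mem_alternatingGroup.1 a.2))

end Cfsg.Lib.AltEightThree
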