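import Cfsg.Agent.Lib.AltEightThree.Setup
import Cfsg.Agent.Lib.Coprime.Generation

set_option autoImplicit false

/-!
Subgroups of order prime to three normalised by the Sylow 3-subgroup of the frame.
-/

namespace Cfsg.Lib.AltEightThree

open Equiv

/-- The even permutations `τ` with `τ * τ = 1` fixing the point `f`. -/
def InV (f : Fin 5) (τ : Perm (Fin 5)) : Prop :=
  Perm.sign τ = 1 ∧ τ * τ = 1 ∧ τ f = f

instance (f : Fin 5) : DecidablePred (InV f) := fun τ => by unfold InV; infer_instance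

theorem inV_sq {f : Fin 5} {τ : Perm (Fin 5)} (h : InV f τ) : τ * τ = 1 := h.2.1

theorem five_three : ∀ τ : Perm (Fin 5), Perm.sign τ = 1 →
    let a := c3 * τ * c3⁻¹
    let b := c3⁻¹ * τ * c3
    InV 4 τ ∨ InV 3 τ ∨ ((τ * a) ^ 3 = 1 ∧ τ * a ≠ 1) ∨
      ((τ * a * τ * a * b) ^ 3 = 1 ∧ τ * a * τ * a * b ≠ 1) ∨
      ((τ * a * τ * b * a) ^ 3 = 1 ∧ τ * a * τ * b * a ≠ 1) := by
  decide +kernel

theorem four_mixed : ∀ τ σ : Perm (Fin 5), InV 4 τ → InV 3 σ → τ ≠ 1 → σ ≠ 1 →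
    ((τ * σ) ^ 3 = 1 ∧ τ * σ ≠ 1) ∨ ((τ * (c3 * σ * c3⁻¹)) ^ 3 = 1 ∧ τ * (c3 * σ * c3⁻¹) ≠ 1) ∨
      ((τ * (c3⁻¹ * σ * c3)) ^ 3 = 1 ∧ τ * (c3⁻¹ * σ * c3) ≠ 1) := by
  decide +kernel

variable {G : Type*} [Group G]

/-- An element of order three in a group of order prime to three is trivial. -/
theorem eq_one_of_pow_three [Finite G] {W : Subgroup G} (hW : (Nat.card W).Coprime 3) {x : G}
    (hx : x ∈ W) (h3 : x ^ 3 = 1) : x = 1 := by
  have h1 : orderOf (⟨x, hx⟩ : W) ∣ Nat.card W := orderOf_dvd_natCard _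
  rw [Subgroup.orderOf_mk] at h1
  exact orderOf_eq_one_iff.mp (Nat.eq_one_of_dvd_coprimes hW h1 (orderOf_dvd_of_pow_eq_one h3))

namespace Frame

variable (S : Frame G)

/-- The three-cycle commuting with `z`. -/
def u : G := S.F c3

theorem s_inv : S.s⁻¹ = S.s := inv_eq_of_mul_eq_one_right S.s_sq

theorem u3 : S.u ^ 3 = 1 := by
  rw [u, ← map_pow, show c3 ^ 3 = 1 by decide +kernel, map_one]

theorem u_ne : S.u ≠ 1 := by
  rw [u, ← map_one S.F]
  exact fun h => absurd (S.F_inj h) (by decide +kernel)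

theorem comm_u_z : S.u * S.z = S.z * S.u := S.even_comm c3 sign_c3

theorem s_conj_u : S.s * S.u * S.s = S.z := by
  rw [u, ← S.s_z]
  simp only [← mul_assoc]
  rw [S.s_sq, one_mul, mul_assoc, S.s_sq, mul_one]

/-- The second symmetric group of degree five. -/
def F2 : Perm (Fin 5) →* G := (MulAut.conj S.s).toMonoidHom.comp S.F

theorem F2_apply (τ : Perm (Fin 5)) : S.F2 τ = S.s * S.F τ * S.s := by
  change S.s * S.F τ * S.s⁻¹ = _
  rw [S.s_inv]

theorem F2_c3 : S.F2 c3 = S.z := by rw [S.F2_apply]; exact S.s_conj_u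

theorem F2_t34 : S.F2 t34 = S.F d01 := by rw [S.F2_apply, S.s_t]

theorem F2_d01 : S.F2 d01 = S.F t34 := by
  rw [S.F2_apply, ← S.s_t]
  simp only [← mul_assoc]
  rw [S.s_sq, one_mul, mul_assoc, S.s_sq, mul_one]

theorem F2_inj : Function.Injective S.F2 := (MulAut.conj S.s).injective.comp S.F_inj

theorem conj_s_pow (x : G) (i : ℕ) : S.s * x ^ i * S.s = (S.s * x * S.s) ^ i := by
  have h : MulAut.conj S.s (x ^ i) = MulAut.conj S.s x ^ i := map_pow _ _ _
  simpa only [MulAut.conj_apply, S.s_inv] using h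

theorem F2_even_comm {τ : Perm (Fin 5)} (h : Perm.sign τ = 1) : S.F2 τ * S.u = S.u * S.F2 τ := by
  have h2 := congrArg (fun x => MulAut.conj S.s x) (S.even_comm τ h)
  simp only [map_mul, MulAut.conj_apply, S.s_inv, S.s_z] at h2
  rw [S.F2_apply]
  exact h2

theorem comm_z_pow_F {τ : Perm (Fin 5)} (h : Perm.sign τ = 1) (i : ℕ) :
    S.F τ * S.z ^ i = S.z ^ i * S.F τ :=
  (Commute.pow_right (show Commute (S.F τ) S.z from S.even_comm τ h) i).eq

theorem z_pow_F_eq {i : ℕ} {τ : Perm (Fin 5)} (h : S.z ^ i = S.F τ) : i % 3 = 0 ∧ τ = 1 :=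
  Pre.z_pow_F_eq ⟨S.z, S.F, S.F_inj, S.z3, S.z_ne, S.F_ne_z, S.even_comm, S.odd_inv, S.cent⟩ h

theorem z_pow_eq_one {i : ℕ} (h : i % 3 = 0) : S.z ^ i = 1 := by
  rw [pow_eq_pow_mod i S.z3, h, pow_zero]

/-- The elements centralising `z` and `u` are the products of their powers. -/
theorem cent_pair {g : G} (hz : g * S.z = S.z * g) (hu : g * S.u = S.u * g) :
    ∃ i j : ℕ, g = S.z ^ i * S.u ^ j := by
  obtain ⟨i, τ, hτ, rfl⟩ := S.cent g hz
  have hc : Commute (S.z ^ i) S.u := (show Commute S.z S.u from S.comm_u_z.symm).pow_left i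
  have hF : S.F τ * S.u = S.u * S.F τ := by
    apply mul_left_cancel (a := S.z ^ i)
    rw [← mul_assoc, hu, ← mul_assoc, ← hc.eq, mul_assoc]
  have hτc : τ * c3 = c3 * τ := S.F_inj (by rw [map_mul, map_mul]; exact hF)
  rcases c3_cent τ hτ hτc with rfl | rfl | rfl
  exacts [⟨i, 0, by rw [map_pow]; rfl⟩, ⟨i, 1, by rw [map_pow]; rfl⟩, ⟨i, 2, by rw [map_pow]; rfl⟩]

theorem cube_of_cent_pair {g : G} (hz : g * S.z = S.z * g) (hu : g * S.u = S.u * g) : g ^ 3 = 1 := by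
  obtain ⟨i, j, rfl⟩ := S.cent_pair hz hu
  rw [((show Commute S.z S.u from S.comm_u_z.symm).pow_pow i j).mul_pow, ← pow_mul, ← pow_mul,
    mul_comm i, mul_comm j, pow_mul, pow_mul, S.z3, S.u3, one_pow, one_pow, one_mul]

/-- The frame with the roles of `z` and `u` exchanged. -/
def flip : Frame G where
  z := S.u
  F := S.F2
  s := S.s
  F_inj := S.F2_inj
  z3 := S.u3
  z_ne := S.u_ne
  F_ne_z τ h := S.F_ne_z τ (by
    apply (MulAut.conj S.s).injective
    change S.F2 τ = MulAut.conj S.s S.z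
    rw [h, MulAut.conj_apply, S.s_inv, S.s_z]
    rfl)
  even_comm _ h := S.F2_even_comm h
  odd_inv τ h := by
    have h2 := congrArg (fun x => MulAut.conj S.s x) (S.odd_inv τ h)
    simp only [map_mul, map_inv] at h2
    have hz : MulAut.conj S.s S.z = S.u := by rw [MulAut.conj_apply, S.s_inv, S.s_z]; rfl
    rw [hz] at h2
    exact h2
  cent g hg := by
    have hg' : (S.s * g * S.s) * S.z = S.z * (S.s * g * S.s) := by
      rw [← S.s_conj_u]
      calc S.s * g * S.s * (S.s * S.u * S.s) = S.s * (g * S.u) * S.s := by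
            simp only [mul_assoc]; rw [← mul_assoc S.s S.s, S.s_sq, one_mul]
        _ = S.s * (S.u * g) * S.s := by rw [hg]
        _ = S.s * S.u * S.s * (S.s * g * S.s) := by
            simp only [mul_assoc]; rw [← mul_assoc S.s S.s, S.s_sq, one_mul]
    obtain ⟨i, τ, hτ, h⟩ := S.cent _ hg'
    refine ⟨i, τ, hτ, ?_⟩
    calc g = S.s * (S.s * g * S.s) * S.s := by
          simp only [← mul_assoc]; rw [S.s_sq, one_mul, mul_assoc, S.s_sq, mul_one]
      _ = (S.s * S.z ^ i * S.s) * (S.s * S.F τ * S.s) := by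
          rw [h]; simp only [mul_assoc]; rw [← mul_assoc S.s S.s, S.s_sq, one_mul]
      _ = _ := by rw [S.conj_s_pow, S.s_z, S.F2_apply]; rfl
  s_sq := S.s_sq
  s_z := by rw [S.F2_c3]; exact S.s_conj_u
  s_t := by
    rw [S.F2_d01, S.F2_t34, ← S.s_t]
    simp only [← mul_assoc]
    rw [S.s_sq, one_mul, mul_assoc, S.s_sq, mul_one]
  card_y := by rw [S.F2_c3, S.comm_u_z]; exact S.card_y

theorem flip_u : S.flip.u = S.z := S.F2_c3

variable [Finite G] (W : Subgroup G) (hW : (Nat.card W).Coprime 3)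
  (hWz : S.z ∈ Subgroup.normalizer (W : Set G)) (hWu : S.u ∈ Subgroup.normalizer (W : Set G))
include hW hWz hWu

/-- Nothing in such a subgroup centralises `z u`. -/
theorem inv_cent_zu {x : G} (hx : x ∈ W) (hc : x * (S.z * S.u) = S.z * S.u * x) : x = 1 := by
  let X := W ⊓ Subgroup.centralizer ({S.z * S.u} : Set G)
  have hxX : x ∈ X := ⟨hx, mem_cent_singleton.mpr hc⟩
  have hX2 : Nat.card X ≤ 2 := by
    have h1 : Nat.card X ∣ 2 * 3 ^ 2 := by
      rw [show 2 * 3 ^ 2 = Nat.card (Subgroup.centralizer ({S.z * S.u} : Set G)) from S.card_y.symm]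
      exact Subgroup.card_dvd_of_le inf_le_right
    have h2 : (Nat.card X).Coprime (3 ^ 2) :=
      (hW.coprime_dvd_left (Subgroup.card_dvd_of_le inf_le_left)).pow_right 2
    exact Nat.le_of_dvd (by norm_num) (h2.dvd_of_dvd_mul_right h1)
  have hfix : ∀ d : G, d ∈ Subgroup.normalizer (W : Set G) → d * (S.z * S.u) = S.z * S.u * d →
      x ≠ 1 → d * x * d⁻¹ = x := by
    intro d hd hdc hx1
    by_contra hne
    have hdX : d * x * d⁻¹ ∈ X := by
      refine ⟨conj_mem_normalizer hd hx, mem_cent_singleton.mpr ?_⟩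
      exact (((show Commute d (S.z * S.u) from hdc).mul_left hc).mul_left
        (show Commute d (S.z * S.u) from hdc).inv_left).eq
    have h3 : ({1, x, d * x * d⁻¹} : Set G).ncard ≤ (X : Set G).ncard :=
      Set.ncard_le_ncard (by rintro y (rfl | rfl | rfl); exacts [one_mem X, hxX, hdX]) (Set.toFinite _)
    rw [Set.ncard_eq_three.mpr ⟨1, x, d * x * d⁻¹, hx1.symm,
      fun h => hx1 (conj_eq_one_iff.mp h.symm), fun h => hne h.symm, rfl⟩,
      ← Nat.card_coe_set_eq] at h3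
    exact absurd (h3.trans hX2) (by norm_num)
  by_contra hx1
  have hcu : Commute S.z (S.z * S.u) :=
    (Commute.refl S.z).mul_right (show Commute S.z S.u from S.comm_u_z.symm)
  have hcu2 : Commute S.u (S.z * S.u) :=
    (show Commute S.u S.z from S.comm_u_z).mul_right (Commute.refl S.u)
  have hxz : x * S.z = S.z * x := by
    have := hfix S.z hWz hcu.eq hx1
    exact (mul_inv_eq_iff_eq_mul.mp this).symm
  have hxu : x * S.u = S.u * x := by
    have := hfix S.u hWu hcu2.eq hx1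
    exact (mul_inv_eq_iff_eq_mul.mp this).symm
  exact hx1 (eq_one_of_pow_three hW hx (S.cube_of_cent_pair hxz hxu))

omit hWz in
/-- The elements centralising `z` lie in the two fours. -/
theorem inv_cent_z {x : G} (hx : x ∈ W) (hc : x * S.z = S.z * x) :
    ∃ τ, (InV 4 τ ∨ InV 3 τ) ∧ x = S.F τ := by
  obtain ⟨i, τ, hτ, rfl⟩ := S.cent x hc
  have hn : (S.z ^ i * S.F τ) ^ Nat.card W = 1 := by
    have h1 : orderOf (⟨_, hx⟩ : W) ∣ Nat.card W := orderOf_dvd_natCard _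
    rw [Subgroup.orderOf_mk] at h1
    exact orderOf_dvd_iff_pow_eq_one.mp h1
  rw [(show Commute (S.z ^ i) (S.F τ) from (S.comm_z_pow_F hτ i).symm).mul_pow, ← pow_mul,
    ← map_pow] at hn
  have hi : i % 3 = 0 := by
    have h := (S.z_pow_F_eq (i := i * Nat.card W) (τ := (τ ^ Nat.card W)⁻¹)
      (by rw [map_inv]; exact eq_inv_of_mul_eq_one_left hn)).1
    have h3 : 3 ∣ i * Nat.card W := Nat.dvd_of_mod_eq_zero h
    exact Nat.mod_eq_zero_of_dvd (Nat.Coprime.dvd_of_dvd_mul_right hW.symm h3)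
  rw [S.z_pow_eq_one hi, one_mul] at hx ⊢
  refine ⟨τ, ?_, rfl⟩
  have ha : S.F (c3 * τ * c3⁻¹) ∈ W := by
    rw [map_mul, map_mul, map_inv]; exact conj_mem_normalizer hWu hx
  have hb : S.F (c3⁻¹ * τ * c3) ∈ W := by
    rw [map_mul, map_mul, map_inv]
    have := conj_mem_normalizer (inv_mem hWu) hx
    rwa [inv_inv] at this
  have h3 : ∀ ρ : Perm (Fin 5), S.F ρ ∈ W → ρ ^ 3 = 1 → ρ = 1 := fun ρ hρ h =>
    S.F_inj (by rw [map_one]; exact eq_one_of_pow_three hW hρ (by rw [← map_pow, h, map_one]))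
  rcases five_three τ hτ with h | h | ⟨h, h'⟩ | ⟨h, h'⟩ | ⟨h, h'⟩
  · exact Or.inl h
  · exact Or.inr h
  · exact absurd (h3 _ (by rw [map_mul]; exact mul_mem hx ha) h) h'
  · refine absurd (h3 _ ?_ h) h'
    simp only [map_mul] at *
    exact mul_mem (mul_mem (mul_mem (mul_mem hx ha) hx) ha) hb
  · refine absurd (h3 _ ?_ h) h'
    simp only [map_mul] at *
    exact mul_mem (mul_mem (mul_mem (mul_mem hx ha) hx) hb) ha

omit hWz in
/-- Only one of the two fours occurs. -/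
theorem inv_cent_z_one :
    (∀ x ∈ W, x * S.z = S.z * x → ∃ τ, InV 4 τ ∧ x = S.F τ) ∨
      (∀ x ∈ W, x * S.z = S.z * x → ∃ τ, InV 3 τ ∧ x = S.F τ) := by
  by_contra h
  push Not at h
  obtain ⟨⟨x, hx, hxc, hx4⟩, ⟨y, hy, hyc, hy3⟩⟩ := h
  obtain ⟨σ, hσ, rfl⟩ := S.inv_cent_z W hW hWu hx hxc
  obtain ⟨τ, hτ, rfl⟩ := S.inv_cent_z W hW hWu hy hyc
  have hσ3 : InV 3 σ := hσ.resolve_left fun h => hx4 σ h rfl
  have hτ4 : InV 4 τ := hτ.resolve_right fun h => hy3 τ h rfl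
  have hσ1 : σ ≠ 1 := by rintro rfl; exact hx4 1 (by decide +kernel) rfl
  have hτ1 : τ ≠ 1 := by rintro rfl; exact hy3 1 (by decide +kernel) rfl
  have ha : S.F (c3 * σ * c3⁻¹) ∈ W := by
    rw [map_mul, map_mul, map_inv]; exact conj_mem_normalizer hWu hx
  have hb : S.F (c3⁻¹ * σ * c3) ∈ W := by
    rw [map_mul, map_mul, map_inv]
    have := conj_mem_normalizer (inv_mem hWu) hx
    rwa [inv_inv] at this
  have h3 : ∀ ρ : Perm (Fin 5), S.F ρ ∈ W → ρ ^ 3 = 1 → ρ = 1 := fun ρ hρ h =>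
    S.F_inj (by rw [map_one]; exact eq_one_of_pow_three hW hρ (by rw [← map_pow, h, map_one]))
  rcases four_mixed τ σ hτ4 hσ3 hτ1 hσ1 with ⟨h, h'⟩ | ⟨h, h'⟩ | ⟨h, h'⟩
  · exact h' (h3 _ (by rw [map_mul]; exact mul_mem hy hx) h)
  · exact h' (h3 _ (by rw [map_mul]; exact mul_mem hy ha) h)
  · exact h' (h3 _ (by rw [map_mul]; exact mul_mem hy hb) h)

omit hW hWz hWu W [Finite G] in
theorem t34_conj : S.F t34 * S.z * (S.F t34)⁻¹ = S.z⁻¹ ∧ S.F t34 * S.u * (S.F t34)⁻¹ = S.u := by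
  refine ⟨S.odd_inv _ sign_t34, ?_⟩
  rw [mul_inv_eq_iff_eq_mul, u, ← map_mul, ← map_mul, show t34 * c3 = c3 * t34 by decide +kernel]

/-- Nothing in such a subgroup centralises `z⁻¹ u`. -/
theorem inv_cent_zu' {x : G} (hx : x ∈ W) (hc : x * (S.z⁻¹ * S.u) = S.z⁻¹ * S.u * x) : x = 1 := by
  obtain ⟨hbz, hbu⟩ := S.t34_conj
  let f := MulAut.conj (S.F t34)
  have hfz : f S.z = S.z⁻¹ := hbz
  have hfu : f S.u = S.u := hbu
  have hW' : (Nat.card (W.map f.toMonoidHom)).Coprime 3 := by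
    rwa [Subgroup.card_map_of_injective f.injective]
  have hN : ∀ g ∈ Subgroup.normalizer (W : Set G),
      f g ∈ Subgroup.normalizer ((W.map f.toMonoidHom : Subgroup G) : Set G) := by
    intro g hg
    refine mem_normalizer_of_forall ?_
    rintro _ ⟨w, hw, rfl⟩
    exact ⟨g * w * g⁻¹, conj_mem_normalizer hg hw, by simp⟩
  have hz' : S.z ∈ Subgroup.normalizer ((W.map f.toMonoidHom : Subgroup G) : Set G) := by
    have := inv_mem (hN _ hWz)
    rwa [hfz, inv_inv] at this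
  have hu' : S.u ∈ Subgroup.normalizer ((W.map f.toMonoidHom : Subgroup G) : Set G) := by
    have := hN _ hWu
    rwa [hfu] at this
  have h := S.inv_cent_zu (W.map f.toMonoidHom) hW' hz' hu' (x := f x) ⟨x, hx, rfl⟩ (by
    have h2 := congrArg f hc
    simpa [map_mul, map_inv, hfz, hfu] using h2)
  exact (map_eq_one_iff f f.injective).mp h

/-- Such a subgroup is generated by what centralises `z` and what centralises `u`. -/
theorem inv_gen :
    W ≤ (W ⊓ Subgroup.centralizer ({S.z} : Set G)) ⊔ (W ⊓ Subgroup.centralizer ({S.u} : Set G)) := by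
  let D := Subgroup.centralizer ({S.z, S.u} : Set G)
  have hmem : ∀ g, g ∈ D ↔ g * S.z = S.z * g ∧ g * S.u = S.u * g := by
    intro g
    simp only [D, Subgroup.mem_centralizer_iff, Set.mem_insert_iff, Set.mem_singleton_iff,
      forall_eq_or_imp, forall_eq]
    exact and_congr eq_comm eq_comm
  have hzu : Commute S.z S.u := S.comm_u_z.symm
  haveI : IsMulCommutative D := by
    constructor
    constructor
    rintro ⟨a, ha⟩ ⟨b, hb⟩
    obtain ⟨i, j, rfl⟩ := S.cent_pair ((hmem a).mp ha).1 ((hmem a).mp ha).2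
    have h1 : Commute S.z b := ((hmem b).mp hb).1.symm
    have h2 : Commute S.u b := ((hmem b).mp hb).2.symm
    exact Subtype.ext ((h1.pow_left i).mul_left (h2.pow_left j)).eq
  have hexp : ∀ g ∈ D, g ^ 3 = 1 := fun g hg => S.cube_of_cent_pair ((hmem g).mp hg).1 ((hmem g).mp hg).2
  have hzD : S.z ∈ D := (hmem _).mpr ⟨rfl, S.comm_u_z.symm⟩
  have huD : S.u ∈ D := (hmem _).mpr ⟨S.comm_u_z, rfl⟩
  have hnc : ¬ IsCyclic D := by
    intro hcyc
    obtain ⟨⟨g, hg⟩, hgen⟩ := hcyc.exists_generator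
    have hall : ∀ x ∈ D, x = 1 ∨ x = g ∨ x = g ^ 2 := by
      intro x hx
      obtain ⟨k, hk⟩ := hgen ⟨x, hx⟩
      refine zpowers_three (hexp g hg) ⟨k, ?_⟩
      simpa using congrArg Subtype.val hk
    have hne : ∀ i : ℕ, S.u ≠ S.z ^ i := fun i h => by
      have h' := (S.z_pow_F_eq h.symm).2
      exact absurd h' (by decide +kernel)
    rcases hall _ hzD with h | h | h
    · exact S.z_ne h
    · rcases hall _ huD with h' | h' | h'
      · exact S.u_ne h'
      · exact hne 1 (by rw [pow_one, h, h'])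
      · exact hne 2 (by rw [h, h'])
    · rcases hall _ huD with h' | h' | h'
      · exact S.u_ne h'
      · exact hne 2 (by
          rw [h, h', ← pow_mul, pow_eq_pow_mod _ (hexp g hg)]
          norm_num)
      · exact hne 1 (by rw [pow_one, h, h'])
  have hDN : D ≤ Subgroup.normalizer (W : Set G) := by
    intro g hg
    obtain ⟨i, j, rfl⟩ := S.cent_pair ((hmem g).mp hg).1 ((hmem g).mp hg).2
    exact mul_mem (pow_mem hWz i) (pow_mem hWu j)
  have hcop : (Nat.card D).Coprime (Nat.card W) := by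
    haveI : Fact (Nat.Prime 3) := ⟨Nat.prime_three⟩
    obtain ⟨n, hn⟩ := IsPGroup.iff_card.mp
      (show IsPGroup 3 D from fun g => ⟨1, Subtype.ext (by simpa using hexp g g.2)⟩)
    rw [hn]
    exact hW.symm.pow_left n
  refine (Cfsg.Lib.Coprime.le_iSup_centralizer_of_not_isCyclic hnc hDN hcop).trans (iSup_le ?_)
  rintro ⟨d, hd, hd1⟩ x ⟨hx, hxd⟩
  obtain ⟨i, j, rfl⟩ := S.cent_pair ((hmem d).mp hd).1 ((hmem d).mp hd).2
  have hxd' : Commute x (S.z ^ i * S.u ^ j) := mem_cent_singleton.mp hxd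
  have hz3 : S.z ^ 2 = S.z⁻¹ := by rw [eq_inv_iff_mul_eq_one, ← pow_succ, S.z3]
  have hu3 : S.u ^ 2 = S.u⁻¹ := by rw [eq_inv_iff_mul_eq_one, ← pow_succ, S.u3]
  have hone : ∀ {x}, x = 1 → x ∈ (W ⊓ Subgroup.centralizer ({S.z} : Set G)) ⊔
      (W ⊓ Subgroup.centralizer ({S.u} : Set G)) := fun h => h ▸ one_mem _
  rw [pow_eq_pow_mod i S.z3, pow_eq_pow_mod j S.u3] at hxd' hd1
  rcases (by omega : i % 3 = 0 ∨ i % 3 = 1 ∨ i % 3 = 2) with hi | hi | hi <;>
    rcases (by omega : j % 3 = 0 ∨ j % 3 = 1 ∨ j % 3 = 2) with hj | hj | hj <;>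
    simp only [hi, hj, pow_zero, pow_one, one_mul, mul_one, hz3, hu3] at hxd' hd1
  · exact absurd rfl hd1
  · exact Subgroup.mem_sup_right ⟨hx, mem_cent_singleton.mpr hxd'.eq⟩
  · exact Subgroup.mem_sup_right ⟨hx, mem_cent_singleton.mpr (by simpa using hxd'.inv_right.eq)⟩
  · exact Subgroup.mem_sup_left ⟨hx, mem_cent_singleton.mpr hxd'.eq⟩
  · exact hone (S.inv_cent_zu W hW hWz hWu hx hxd'.eq)
  · refine hone (S.inv_cent_zu' W hW hWz hWu hx ?_)
    have h2 := hxd'.inv_right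
    rwa [mul_inv_rev, inv_inv, (hzu.inv_left).eq.symm] at h2
  · exact Subgroup.mem_sup_left ⟨hx, mem_cent_singleton.mpr (by simpa using hxd'.inv_right.eq)⟩
  · exact hone (S.inv_cent_zu' W hW hWz hWu hx hxd'.eq)
  · refine hone (S.inv_cent_zu W hW hWz hWu hx ?_)
    have h2 := hxd'.inv_right
    rwa [mul_inv_rev, inv_inv, inv_inv, hzu.eq.symm] at h2

end Frame

end Cfsg.Lib.AltEightThree
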