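import Cfsg.Agent.Lib.AltEightThree.Facts
import Cfsg.Agent.Lib.TwoGroup.SylowCriterion
import Mathlib.GroupTheory.Transfer

set_option autoImplicit false

/-!
The centraliser of a four group of the symmetric group of degree five.
-/

namespace Cfsg.Lib.AltEightThree

open Equiv

/-- The double transposition (0 1)(2 3). -/
def v1 : Perm (Fin 5) := swap 0 1 * swap 2 3

/-- The double transposition (0 2)(1 3). -/
def v2 : Perm (Fin 5) := swap 0 2 * swap 1 3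

theorem inV_v1 : InV 4 v1 := by decide +kernel

theorem inV_v2 : InV 4 v2 := by decide +kernel

theorem four_cent : ∀ τ : Perm (Fin 5), τ * v1 = v1 * τ → τ * v2 = v2 * τ → InV 4 τ := by
  decide +kernel

theorem four_comm : ∀ τ σ : Perm (Fin 5), InV 4 τ → InV 4 σ → τ * σ = σ * τ ∧ InV 4 (τ * σ) := by
  decide +kernel

theorem four_gens : ∀ τ : Perm (Fin 5), InV 4 τ → τ = 1 ∨ τ = v1 ∨ τ = v2 ∨ τ = v1 * v2 := by
  decide +kernel

theorem four_c3 : ∀ τ : Perm (Fin 5), InV 4 τ → InV 4 (c3⁻¹ * τ * c3) := by decide +kernel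

theorem four_orbit : ∀ (f : Fin 5) (σ₀ σ : Perm (Fin 5)), f = 4 ∨ f = 3 → InV f σ₀ → σ₀ ≠ 1 →
    InV f σ → σ = 1 ∨ σ = σ₀ ∨ σ = c3 * σ₀ * c3⁻¹ ∨ σ = c3⁻¹ * σ₀ * c3 := by
  decide +kernel

variable {G : Type*} [Group G]

/-- `Z = ⟨z⟩` of order three is a Sylow 3-subgroup of `H` if no further 3-element normalises it. -/
theorem exists_sylow_three [Finite G] (H : Subgroup G) (z : G) (hzH : z ∈ H) (hz3 : z ^ 3 = 1)
    (hN : ∀ x ∈ H, x * z * x⁻¹ ∈ Subgroup.zpowers z → (∃ k : ℕ, x ^ 3 ^ k = 1) →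
      x ∈ Subgroup.zpowers z) :
    ∃ P : Sylow 3 H, (P : Subgroup H) = Subgroup.zpowers ⟨z, hzH⟩ := by
  haveI : Fact (Nat.Prime 3) := ⟨Nat.prime_three⟩
  set Z := Subgroup.zpowers (⟨z, hzH⟩ : H)
  have hZ : IsPGroup 3 Z := by
    rintro ⟨g, k, rfl⟩
    refine ⟨1, Subtype.ext ?_⟩
    change ((⟨z, hzH⟩ : H) ^ k) ^ 3 ^ 1 = 1
    rw [pow_one, ← zpow_natCast, ← zpow_mul, mul_comm, zpow_mul, zpow_natCast,
      show (⟨z, hzH⟩ : H) ^ 3 = 1 from Subtype.ext (by simpa using hz3), one_zpow]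
  obtain ⟨P, hP⟩ := hZ.exists_le_sylow
  refine ⟨P, le_antisymm ?_ hP⟩
  by_contra hne
  have hlt : Z.subgroupOf (P : Subgroup H) < ⊤ := by
    refine lt_top_iff_ne_top.mpr fun h => hne ?_
    exact Subgroup.subgroupOf_eq_top.mp h
  haveI := P.isPGroup'.isNilpotent
  obtain ⟨x, hxN, hxZ⟩ := SetLike.exists_of_lt (normalizerCondition_of_isNilpotent _ hlt)
  apply hxZ
  rw [Subgroup.mem_subgroupOf]
  have hz' : (⟨z, hzH⟩ : H) ∈ Z := Subgroup.mem_zpowers _
  have h1 : ((x : H) * ⟨z, hzH⟩ * (x : H)⁻¹) ∈ Z :=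
    (Subgroup.mem_normalizer_iff.mp hxN ⟨⟨z, hzH⟩, hP hz'⟩).mp hz'
  obtain ⟨k, hk⟩ := h1
  obtain ⟨e, he⟩ := P.isPGroup' x
  have h2 := hN (x : H).1 (x : H).2 ⟨k, by simpa using congrArg Subtype.val hk⟩
    ⟨e, by simpa using congrArg (fun y : (P : Subgroup H) => ((y : H) : G)) he⟩
  obtain ⟨l, hl⟩ := h2
  exact ⟨l, Subtype.ext (by simpa using hl)⟩

namespace Frame

variable (S : Frame G)

/-- The image of the four group fixing the last point. -/
def V : Subgroup G where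
  carrier := {g | ∃ τ, InV 4 τ ∧ g = S.F τ}
  one_mem' := ⟨1, by decide +kernel, by rw [map_one]⟩
  mul_mem' := by
    rintro _ _ ⟨τ, hτ, rfl⟩ ⟨σ, hσ, rfl⟩
    exact ⟨τ * σ, (four_comm τ σ hτ hσ).2, by rw [map_mul]⟩
  inv_mem' := by
    rintro _ ⟨τ, hτ, rfl⟩
    exact ⟨τ, hτ, by rw [← map_inv, inv_eq_of_mul_eq_one_right hτ.2.1]⟩

theorem mem_V {g : G} : g ∈ S.V ↔ ∃ τ, InV 4 τ ∧ g = S.F τ := Iff.rfl

theorem mem_cent_V {g : G} : g ∈ Subgroup.centralizer (S.V : Set G) ↔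
    g * S.F v1 = S.F v1 * g ∧ g * S.F v2 = S.F v2 * g := by
  constructor
  · intro h
    exact ⟨(Subgroup.mem_centralizer_iff.mp h _ ⟨v1, inV_v1, rfl⟩).symm,
      (Subgroup.mem_centralizer_iff.mp h _ ⟨v2, inV_v2, rfl⟩).symm⟩
  · rintro ⟨h1, h2⟩
    rw [Subgroup.mem_centralizer_iff]
    rintro _ ⟨τ, hτ, rfl⟩
    rcases four_gens τ hτ with rfl | rfl | rfl | rfl
    · rw [map_one, one_mul, mul_one]
    · exact h1.symm
    · exact h2.symm
    · rw [map_mul]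
      exact ((show Commute g (S.F v1) from h1).mul_right (show Commute g (S.F v2) from h2)).eq.symm

theorem z_mem_cent_V : S.z ∈ Subgroup.centralizer (S.V : Set G) :=
  S.mem_cent_V.mpr ⟨(S.even_comm v1 inV_v1.1).symm, (S.even_comm v2 inV_v2.1).symm⟩

/-- The normaliser of `⟨z⟩` in the centraliser of the four. -/
theorem norm_z_cent_V {x : G} (hx : x ∈ Subgroup.centralizer (S.V : Set G))
    (hn : x * S.z * x⁻¹ ∈ Subgroup.zpowers S.z) :
    ∃ (i : ℕ) (τ : Perm (Fin 5)), InV 4 τ ∧ x = S.z ^ i * S.F τ := by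
  obtain ⟨h1, h2⟩ := S.mem_cent_V.mp hx
  have key : ∀ (i : ℕ) (τ : Perm (Fin 5)), x = S.z ^ i * S.F τ → InV 4 τ := by
    intro i τ h
    have hcomm : ∀ v, InV 4 v → x * S.F v = S.F v * x → τ * v = v * τ := by
      intro v hv hxv
      refine S.F_inj ?_
      apply mul_left_cancel (a := S.z ^ i)
      rw [map_mul, map_mul, ← mul_assoc, ← h, hxv, h, ← mul_assoc, ← mul_assoc,
        S.comm_z_pow_F hv.1]
    exact four_cent τ (hcomm v1 inV_v1 h1) (hcomm v2 inV_v2 h2)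
  rcases zpowers_three S.z3 hn with h | h | h
  · exact absurd (conj_eq_one_iff.mp h) S.z_ne
  · obtain ⟨i, τ, -, e⟩ := S.cent x (mul_inv_eq_iff_eq_mul.mp h)
    exact ⟨i, τ, key i τ e, e⟩
  · exfalso
    have hb : (x * S.F t34) * S.z = S.z * (x * S.F t34) := by
      refine mul_inv_eq_iff_eq_mul.mp ?_
      calc x * S.F t34 * S.z * (x * S.F t34)⁻¹ = x * (S.F t34 * S.z * (S.F t34)⁻¹) * x⁻¹ := by group
        _ = (x * S.z * x⁻¹)⁻¹ := by rw [S.odd_inv _ sign_t34]; group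
        _ = S.z := by rw [h, inv_eq_iff_mul_eq_one, ← pow_succ, S.z3]
    obtain ⟨i, τ, hτ, e⟩ := S.cent _ hb
    have e' : x = S.z ^ i * S.F (τ * t34⁻¹) := by
      rw [map_mul, map_inv, ← mul_assoc, ← e, mul_inv_cancel_right]
    have := (key i _ e').1
    rw [map_mul, map_inv, hτ, sign_t34] at this
    exact absurd this (by decide)

variable [Finite G]

/-- The normal 3-complement of the centraliser of the four. -/
theorem exists_complement : ∃ N : Subgroup G, N ≤ Subgroup.centralizer (S.V : Set G) ∧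
    (Nat.card N).Coprime 3 ∧
    (∀ g ∈ Subgroup.centralizer (S.V : Set G), ∃ i : ℕ, ∃ n ∈ N, g = n * S.z ^ i) ∧
    ∀ g ∈ Subgroup.centralizer (S.V : Set G), (orderOf g).Coprime 3 → g ∈ N := by
  classical
  haveI : Fact (Nat.Prime 3) := ⟨Nat.prime_three⟩
  set C := Subgroup.centralizer (S.V : Set G)
  obtain ⟨P, hP⟩ := exists_sylow_three C S.z S.z_mem_cent_V S.z3 (by
    rintro x hx hn ⟨k, hk⟩
    obtain ⟨i, τ, hτ, rfl⟩ := S.norm_z_cent_V hx hn
    rw [(show Commute (S.z ^ i) (S.F τ) from (S.comm_z_pow_F hτ.1 i).symm).mul_pow, ← pow_mul,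
      ← map_pow] at hk
    have h := (S.z_pow_F_eq (i := i * 3 ^ k) (τ := (τ ^ 3 ^ k)⁻¹)
      (by rw [map_inv]; exact eq_inv_of_mul_eq_one_left hk)).2
    have hodd : Odd (3 ^ k) := (show Odd 3 by decide).pow
    obtain ⟨m, hm⟩ := hodd
    have hτ2 : τ ^ 2 = 1 := by rw [pow_two]; exact hτ.2.1
    rw [inv_eq_one, hm, pow_succ, pow_mul, hτ2, one_pow, one_mul] at h
    rw [h, map_one, mul_one]
    exact pow_mem (Subgroup.mem_zpowers _) i)
  have hzc : ∀ y : C, y ∈ (P : Subgroup C) → ∃ i : ℕ, (y : G) = S.z ^ i := by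
    intro y hy
    rw [hP] at hy
    obtain ⟨k, hk⟩ := hy
    have hk' : S.z ^ k = (y : G) := by simpa using congrArg Subtype.val hk
    obtain ⟨i, hi⟩ : (y : G) ∈ Submonoid.powers S.z :=
      (IsOfFinOrder.mem_powers_iff_mem_zpowers (isOfFinOrder_of_finite _)).mpr ⟨k, hk'⟩
    exact ⟨i, hi.symm⟩
  have hNC : Subgroup.normalizer ((P : Subgroup C) : Set C) ≤
      Subgroup.centralizer ((P : Subgroup C) : Set C) := by
    intro x hx
    rw [Subgroup.mem_centralizer_iff]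
    intro y hy
    obtain ⟨j, hj⟩ := hzc y hy
    have hzP : (⟨S.z, S.z_mem_cent_V⟩ : C) ∈ (P : Subgroup C) := by
      rw [hP]; exact Subgroup.mem_zpowers _
    obtain ⟨l, hl⟩ := hzc _ (conj_mem_normalizer hx hzP)
    have hl' : (x : G) * S.z * (x : G)⁻¹ ∈ Subgroup.zpowers S.z :=
      ⟨l, by simpa using hl.symm⟩
    obtain ⟨i, τ, hτ, he⟩ := S.norm_z_cent_V x.2 hl'
    refine Subtype.ext ?_
    change (y : G) * (x : G) = (x : G) * (y : G)
    rw [hj, he]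
    exact (((Commute.refl S.z).pow_pow j i).mul_right
      (show Commute (S.z ^ j) (S.F τ) from (S.comm_z_pow_F hτ.1 j).symm)).eq
  set f := MonoidHom.transferSylow P hNC with hf
  have hcompl : Subgroup.IsComplement' f.ker (P : Subgroup C) :=
    MonoidHom.ker_transferSylow_isComplement' P hNC
  have hidx : Nat.card f.ker = (P : Subgroup C).index := hcompl.index_eq_card.symm
  refine ⟨f.ker.map C.subtype, Subgroup.map_subtype_le _, ?_, ?_, ?_⟩
  · rw [Subgroup.card_map_of_injective C.subtype_injective, hidx]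
    exact ((Nat.Prime.coprime_iff_not_dvd Nat.prime_three).mpr P.not_dvd_index).symm
  · intro g hg
    obtain ⟨⟨n, y⟩, e, -⟩ := Subgroup.isComplement_iff_existsUnique.mp hcompl ⟨g, hg⟩
    obtain ⟨i, hi⟩ := hzc y y.2
    exact ⟨i, _, ⟨n, n.2, rfl⟩, by rw [← hi]; exact (congrArg Subtype.val e).symm⟩
  · intro g hg hgo
    refine ⟨⟨g, hg⟩, ?_, rfl⟩
    rw [SetLike.mem_coe, MonoidHom.mem_ker, ← orderOf_eq_one_iff]
    obtain ⟨e, he⟩ := P.isPGroup' (f ⟨g, hg⟩)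
    have h1 : orderOf (f ⟨g, hg⟩) ∣ orderOf g := by
      rw [← Subgroup.orderOf_mk g hg]; exact orderOf_map_dvd f _
    exact Nat.eq_one_of_dvd_coprimes (hgo.pow_right e) h1 (orderOf_dvd_of_pow_eq_one he)

omit [Finite G] in
theorem conj_mem_cent_V {g x : G} (hg : ∀ v ∈ S.V, g⁻¹ * v * g ∈ S.V)
    (hx : x ∈ Subgroup.centralizer (S.V : Set G)) :
    g * x * g⁻¹ ∈ Subgroup.centralizer (S.V : Set G) := by
  rw [Subgroup.mem_centralizer_iff] at hx ⊢
  intro v hv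
  have h := hx _ (hg v hv)
  calc v * (g * x * g⁻¹) = g * (g⁻¹ * v * g * x) * g⁻¹ := by group
    _ = g * (x * (g⁻¹ * v * g)) * g⁻¹ := by rw [h]
    _ = g * x * g⁻¹ * v := by group

/-- Either a four across commutes with the four, or the centraliser is as small as possible. -/
theorem four_or_small :
    (∃ f : Fin 5, (f = 4 ∨ f = 3) ∧
      ∀ τ σ, InV 4 τ → InV f σ → S.F τ * S.F2 σ = S.F2 σ * S.F τ) ∨
    ∀ g ∈ Subgroup.centralizer (S.V : Set G),
      ∃ (i : ℕ) (τ : Perm (Fin 5)), InV 4 τ ∧ g = S.z ^ i * S.F τ := by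
  obtain ⟨N, hNC, hN3, hNdec, hNmem⟩ := S.exists_complement
  have hnorm : ∀ g, (∀ v ∈ S.V, g⁻¹ * v * g ∈ S.V) → g ∈ Subgroup.normalizer (N : Set G) := by
    intro g hg
    refine mem_normalizer_of_forall fun x hx => hNmem _ (S.conj_mem_cent_V hg (hNC hx)) ?_
    rw [show g * x * g⁻¹ = MulAut.conj g x from rfl, MulEquiv.orderOf_eq]
    exact hN3.coprime_dvd_left (by rw [← Subgroup.orderOf_mk x hx]; exact orderOf_dvd_natCard _)
  have hz : S.z ∈ Subgroup.normalizer (N : Set G) := by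
    refine hnorm _ ?_
    rintro _ ⟨τ, hτ, rfl⟩
    exact ⟨τ, hτ, by rw [mul_assoc, S.even_comm τ hτ.1, inv_mul_cancel_left]⟩
  have hu : S.u ∈ Subgroup.normalizer (N : Set G) := by
    refine hnorm _ ?_
    rintro _ ⟨τ, hτ, rfl⟩
    exact ⟨c3⁻¹ * τ * c3, four_c3 τ hτ, by simp [u]⟩
  by_cases hall : ∀ x ∈ N, x * S.u = S.u * x → x = 1
  · refine Or.inr fun g hg => ?_
    obtain ⟨i, n, hn, rfl⟩ := hNdec g hg
    have hle : (N ⊓ Subgroup.centralizer ({S.z} : Set G)) ⊔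
        (N ⊓ Subgroup.centralizer ({S.u} : Set G)) ≤ Subgroup.centralizer ({S.z} : Set G) := by
      refine sup_le inf_le_right ?_
      rintro x ⟨hx, hxu⟩
      rw [hall x hx (mem_cent_singleton.mp hxu)]
      exact one_mem _
    have hnz : n * S.z = S.z * n := mem_cent_singleton.mp (hle (S.inv_gen N hN3 hz hu hn))
    have hn' : n * S.z * n⁻¹ ∈ Subgroup.zpowers S.z := by
      rw [hnz, mul_inv_cancel_right]; exact Subgroup.mem_zpowers _
    obtain ⟨j, τ, hτ, rfl⟩ := S.norm_z_cent_V (hNC hn) hn'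
    exact ⟨j + i, τ, hτ, by rw [pow_add, mul_assoc, S.comm_z_pow_F hτ.1 i, ← mul_assoc]⟩
  · push Not at hall
    obtain ⟨x, hx, hxu, hx1⟩ := hall
    have hz' : S.flip.u ∈ Subgroup.normalizer (N : Set G) := by rw [S.flip_u]; exact hz
    refine Or.inl ?_
    obtain ⟨σ₀, hσ₀, rfl⟩ := S.flip.inv_cent_z N hN3 hz' hx hxu
    obtain ⟨f, hf, hfσ⟩ : ∃ f : Fin 5, (f = 4 ∨ f = 3) ∧ InV f σ₀ := by
      rcases hσ₀ with h | h
      exacts [⟨4, Or.inl rfl, h⟩, ⟨3, Or.inr rfl, h⟩]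
    have hσ1 : σ₀ ≠ 1 := fun h => hx1 (by rw [h, map_one])
    refine ⟨f, hf, fun τ σ hτ hσ => ?_⟩
    have hx' : S.F2 σ₀ ∈ N := hx
    have hσN : S.F2 σ ∈ N := by
      rcases four_orbit f σ₀ σ hf hfσ hσ1 hσ with rfl | rfl | rfl | rfl
      · rw [map_one]; exact one_mem _
      · exact hx'
      · rw [map_mul, map_mul, map_inv, S.F2_c3]; exact conj_mem_normalizer hz hx'
      · rw [map_mul, map_mul, map_inv, S.F2_c3]
        have := conj_mem_normalizer (inv_mem hz) hx'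
        rwa [inv_inv] at this
    exact Subgroup.mem_centralizer_iff.mp (hNC hσN) _ ⟨τ, hτ, rfl⟩

end Frame

end Cfsg.Lib.AltEightThree
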