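import Mathlib

set_option autoImplicit false

/-!
Frame for the recognition of the alternating group of degree eight from its 3-local data:
a 3-element `z`, a symmetric group of degree five in the normaliser of `z`, and an involution
exchanging `z` with a three-cycle of that symmetric group.
-/

namespace Cfsg.Lib.AltEightThree

open Equiv

/-- The three-cycle (0 1 2). -/
def c3 : Perm (Fin 5) := swap 0 1 * swap 1 2

/-- The transposition (3 4). -/
def t34 : Perm (Fin 5) := swap 3 4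

/-- The double transposition (0 1)(3 4). -/
def d01 : Perm (Fin 5) := swap 0 1 * swap 3 4

theorem sign_c3 : Perm.sign c3 = 1 := by decide

theorem sign_t34 : Perm.sign t34 = -1 := by decide

theorem sign_d01 : Perm.sign d01 = 1 := by decide

theorem c3_cent : ∀ τ : Perm (Fin 5), Perm.sign τ = 1 → τ * c3 = c3 * τ →
    τ = c3 ^ 0 ∨ τ = c3 ^ 1 ∨ τ = c3 ^ 2 := by
  decide +kernel

theorem c3_conj : ∀ τ : Perm (Fin 5), τ ^ 3 = 1 → τ ≠ 1 → ∃ π : Perm (Fin 5), π * c3 * π⁻¹ = τ := by
  decide +kernel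

theorem c3_inv_invol : ∀ τ : Perm (Fin 5), Perm.sign τ = 1 → τ * τ = 1 → τ * c3 * τ⁻¹ = c3⁻¹ →
    τ = c3 ^ 0 * d01 * (c3 ^ 0)⁻¹ ∨ τ = c3 ^ 1 * d01 * (c3 ^ 1)⁻¹ ∨
      τ = c3 ^ 2 * d01 * (c3 ^ 2)⁻¹ := by
  decide +kernel

theorem normal_order_three : ∀ τ : Perm (Fin 5), τ ^ 3 = 1 →
    (∀ π : Perm (Fin 5), π * τ * π⁻¹ = 1 ∨ π * τ * π⁻¹ = τ ∨ π * τ * π⁻¹ = τ ^ 2) → τ = 1 := by
  decide +kernel

theorem perm_three_cent : ∀ σ σ' : Perm (Fin 3), σ ^ 3 = 1 → σ ≠ 1 → σ' * σ = σ * σ' →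
    σ' = σ ^ 0 ∨ σ' = σ ^ 1 ∨ σ' = σ ^ 2 := by
  decide +kernel

theorem perm_three_sign : ∀ σ : Perm (Fin 3), σ ^ 3 = 1 → Perm.sign σ = 1 := by
  decide +kernel

theorem perm_three_inv : ∀ σ : Perm (Fin 3), σ ^ 3 = 1 →
    swap (0 : Fin 3) 1 * σ * (swap (0 : Fin 3) 1)⁻¹ = σ⁻¹ := by
  decide +kernel

/-- The standard lift of the sign of a permutation to `Perm (Fin 3)`. -/
def signLift : Perm (Fin 5) →* Perm (Fin 3) where
  toFun τ := if Perm.sign τ = 1 then 1 else swap 0 1
  map_one' := by simp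
  map_mul' x y := by
    rcases Int.units_eq_one_or (Perm.sign x) with hx | hx <;>
      rcases Int.units_eq_one_or (Perm.sign y) with hy | hy <;> simp [map_mul, hx, hy]

theorem signLift_sign (τ : Perm (Fin 5)) : Perm.sign (signLift τ) = Perm.sign τ := by
  rcases Int.units_eq_one_or (Perm.sign τ) with h | h <;> simp [signLift, h]

/-- The configuration: `z` of order three, `F` an embedding of the symmetric group of degree five
into the normaliser of `z` with the even permutations centralising `z`, and `s` an involution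
exchanging `z` and `F (0 1 2)`. -/
structure Frame (G : Type*) [Group G] where
  /-- the central element of order three -/
  z : G
  /-- the symmetric group of degree five -/
  F : Perm (Fin 5) →* G
  /-- the involution exchanging `z` and `F c3` -/
  s : G
  F_inj : Function.Injective F
  z3 : z ^ 3 = 1
  z_ne : z ≠ 1
  F_ne_z : ∀ τ, F τ ≠ z
  even_comm : ∀ τ, Perm.sign τ = 1 → F τ * z = z * F τ
  odd_inv : ∀ τ, Perm.sign τ = -1 → F τ * z * (F τ)⁻¹ = z⁻¹
  cent : ∀ g, g * z = z * g → ∃ (i : ℕ) (τ : Perm (Fin 5)), Perm.sign τ = 1 ∧ g = z ^ i * F τ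
  s_sq : s * s = 1
  s_z : s * z * s = F c3
  s_t : s * F t34 * s = F d01
  card_y : Nat.card (Subgroup.centralizer ({z * F c3} : Set G)) = 18

end Cfsg.Lib.AltEightThree
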