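import Cfsg.Agent.Lib.AltEightThree.Cross
import Cfsg.Agent.Lib.AltEightThree.Pres.Main

set_option autoImplicit false

/-!
The embedded alternating group of degree eight.
-/

namespace Cfsg.Lib.AltEightThree

open Equiv Cfsg.Lib.CosetEnum
open Cfsg.Lib.AltEightNine (A8)

/-- Two symmetric groups of degree five in the normalisers of `z` and `u` with commuting fours. -/
structure Glue (G : Type*) [Group G] where
  /-- the frame -/
  frame : Frame G
  /-- the second symmetric group -/
  F2 : Perm (Fin 5) →* G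
  F2_inj : Function.Injective F2
  F2_c3 : F2 c3 = frame.z
  F2_t34 : F2 t34 = frame.F d01
  F2_d01 : F2 d01 = frame.F t34
  F2_even : ∀ τ, Perm.sign τ = 1 → F2 τ * frame.u = frame.u * F2 τ
  cross : ∀ τ σ, InV 4 τ → InV 3 σ → frame.F τ * F2 σ = F2 σ * frame.F τ

variable {G : Type*} [Group G]

theorem exists_glue [Finite G] (S : Frame G) : ∃ g : Glue G, g.frame = S := by
  obtain ⟨f, hf, hc⟩ := S.exists_cross
  rcases hf with rfl | rfl
  · refine ⟨⟨S, S.F2.comp (MulAut.conj t34).toMonoidHom, S.F2_inj.comp (MulAut.conj t34).injective,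
      ?_, ?_, ?_, ?_, ?_⟩, rfl⟩
    · change S.F2 (t34 * c3 * t34⁻¹) = S.z
      rw [show t34 * c3 * t34⁻¹ = c3 by decide +kernel, S.F2_c3]
    · change S.F2 (t34 * t34 * t34⁻¹) = S.F d01
      rw [mul_inv_cancel_right, S.F2_t34]
    · change S.F2 (t34 * d01 * t34⁻¹) = S.F t34
      rw [show t34 * d01 * t34⁻¹ = d01 by decide +kernel, S.F2_d01]
    · intro τ hτ
      exact S.F2_even_comm (by simp [MulAut.conj_apply, hτ])
    · intro τ σ hτ hσ
      refine hc τ _ hτ ?_
      have key : ∀ σ : Perm (Fin 5), InV 3 σ → InV 4 (t34 * σ * t34⁻¹) := by decide +kernel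
      exact key σ hσ
  · exact ⟨⟨S, S.F2, S.F2_inj, S.F2_c3, S.F2_t34, S.F2_d01, fun _ h => S.F2_even_comm h, hc⟩, rfl⟩

/-- The double transposition (0 1)(2 4). -/
def q1 : Perm (Fin 5) := swap 0 1 * swap 2 4

/-- The double transposition (0 2)(1 4). -/
def q2 : Perm (Fin 5) := swap 0 2 * swap 1 4

theorem inV_q : InV 3 q1 ∧ InV 3 q2 := by decide +kernel

/-- Letters of the first side. -/
def sideA (i : ℕ) : Perm (Fin 5) := if i = 0 then v1 else if i = 1 then v2 else if i = 2 then d01 else t34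

/-- Letters of the second side. -/
def sideB (i : ℕ) : Perm (Fin 5) := if i = 3 then q1 else if i = 4 then q2 else if i = 2 then t34 else d01

namespace Glue

variable (g : Glue G)

/-- The six generators. -/
def gens (i : ℕ) : G :=
  if i = 0 then g.frame.F v1 else if i = 1 then g.frame.F v2 else if i = 2 then g.frame.F d01
  else if i = 3 then g.F2 q1 else if i = 4 then g.F2 q2 else g.frame.F t34

theorem wordA : ∀ r : List ℕ, (∀ i ∈ r, i = 0 ∨ i = 1 ∨ i = 2 ∨ i = 5) →
    wordVal g.gens r = g.frame.F (wordVal sideA r)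
  | [], _ => (map_one _).symm
  | i :: r, h => by
    rw [wordVal, wordVal, map_mul, wordA r fun j hj => h j (List.mem_cons_of_mem _ hj)]
    congr 1
    rcases h i (List.mem_cons_self) with rfl | rfl | rfl | rfl <;>
      simp [CosetEnum.gen, CosetEnum.eps, gens, sideA]

theorem wordB : ∀ r : List ℕ, (∀ i ∈ r, i = 2 ∨ i = 3 ∨ i = 4 ∨ i = 5) →
    wordVal g.gens r = g.F2 (wordVal sideB r)
  | [], _ => (map_one _).symm
  | i :: r, h => by
    rw [wordVal, wordVal, map_mul, wordB r fun j hj => h j (List.mem_cons_of_mem _ hj)]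
    congr 1
    rcases h i (List.mem_cons_self) with rfl | rfl | rfl | rfl <;>
      simp [CosetEnum.gen, CosetEnum.eps, gens, sideB, g.F2_t34, g.F2_d01]

theorem wordVal_append (x : ℕ → G) : ∀ a b : List ℕ, wordVal x (a ++ b) = wordVal x b * wordVal x a
  | [], b => by simp [wordVal]
  | i :: a, b => by
    rw [List.cons_append, wordVal, wordVal_append x a b, wordVal, mul_assoc]

theorem gens_sq (i : ℕ) : g.gens i * g.gens i = 1 := by
  unfold gens
  have h : v1 * v1 = 1 ∧ v2 * v2 = 1 ∧ d01 * d01 = 1 ∧ q1 * q1 = 1 ∧ q2 * q2 = 1 ∧ t34 * t34 = 1 := by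
    decide +kernel
  split_ifs <;> simp [← map_mul, h]

theorem gens_rels : ∀ r ∈ Pres.rels, wordVal g.gens r = 1 := by
  have pureA : ∀ r : List ℕ, (r.all fun i => i == 0 || i == 1 || i == 2 || i == 5) = true →
      wordVal sideA r = 1 → wordVal g.gens r = 1 := by
    intro r hr he
    rw [g.wordA r (fun i hi => by simpa [or_assoc] using List.all_eq_true.1 hr i hi), he, map_one]
  have pureB : ∀ r : List ℕ, (r.all fun i => i == 2 || i == 3 || i == 4 || i == 5) = true →
      wordVal sideB r = 1 → wordVal g.gens r = 1 := by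
    intro r hr he
    rw [g.wordB r (fun i hi => by simpa [or_assoc] using List.all_eq_true.1 hr i hi), he, map_one]
  have hcases : ∀ r ∈ Pres.rels,
      ((r.all fun i => i == 0 || i == 1 || i == 2 || i == 5) = true ∧ wordVal sideA r = 1) ∨
      ((r.all fun i => i == 2 || i == 3 || i == 4 || i == 5) = true ∧ wordVal sideB r = 1) ∨
      r = [5, 4, 5, 3, 4, 5, 4] ++ [1] ++ [4, 5, 4, 3, 5, 4, 5] ++ [1] ∨
      r = [2, 1, 2, 0, 1, 2, 1] ++ [4] ++ [1, 2, 1, 0, 2, 1, 2] ++ [4] ∨
      r = [1, 4, 1, 4] := by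
    decide +kernel
  intro r hr
  rcases hcases r hr with ⟨h, e⟩ | ⟨h, e⟩ | rfl | rfl | rfl
  · exact pureA r h e
  · exact pureB r h e
  · have e1 : wordVal g.gens [5, 4, 5, 3, 4, 5, 4] = g.F2 (wordVal sideB [5, 4, 5, 3, 4, 5, 4]) :=
      g.wordB _ (by decide)
    have e2 : wordVal g.gens [4, 5, 4, 3, 5, 4, 5] = g.F2 (wordVal sideB [4, 5, 4, 3, 5, 4, 5]) :=
      g.wordB _ (by decide)
    have h12 : wordVal sideB [5, 4, 5, 3, 4, 5, 4] * wordVal sideB [4, 5, 4, 3, 5, 4, 5] = 1 ∧
        (wordVal sideB [4, 5, 4, 3, 5, 4, 5] = c3 ∨ wordVal sideB [4, 5, 4, 3, 5, 4, 5] = c3⁻¹) := by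
      decide +kernel
    have h1 : wordVal g.gens [1] = g.frame.F v2 := by
      simp [wordVal, CosetEnum.gen, CosetEnum.eps, gens]
    rw [wordVal_append, wordVal_append, wordVal_append, e1, e2, h1]
    have hc : Commute (g.frame.F v2) (g.F2 (wordVal sideB [4, 5, 4, 3, 5, 4, 5])) := by
      rcases h12.2 with h | h <;> rw [h]
      · rw [g.F2_c3]; exact g.frame.even_comm v2 inV_v2.1
      · rw [map_inv, g.F2_c3]
        exact (show Commute _ _ from g.frame.even_comm v2 inV_v2.1).inv_right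
    rw [eq_inv_of_mul_eq_one_left h12.1, map_inv, hc.inv_right.eq, ← mul_assoc (g.F2 _),
      mul_inv_cancel, one_mul, ← map_mul, inV_v2.2.1, map_one]
  · have e1 : wordVal g.gens [2, 1, 2, 0, 1, 2, 1] = g.frame.F (wordVal sideA [2, 1, 2, 0, 1, 2, 1]) :=
      g.wordA _ (by decide)
    have e2 : wordVal g.gens [1, 2, 1, 0, 2, 1, 2] = g.frame.F (wordVal sideA [1, 2, 1, 0, 2, 1, 2]) :=
      g.wordA _ (by decide)
    have h12 : wordVal sideA [2, 1, 2, 0, 1, 2, 1] * wordVal sideA [1, 2, 1, 0, 2, 1, 2] = 1 ∧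
        (wordVal sideA [1, 2, 1, 0, 2, 1, 2] = c3 ∨ wordVal sideA [1, 2, 1, 0, 2, 1, 2] = c3⁻¹) := by
      decide +kernel
    have h1 : wordVal g.gens [4] = g.F2 q2 := by
      simp [wordVal, CosetEnum.gen, CosetEnum.eps, gens]
    rw [wordVal_append, wordVal_append, wordVal_append, e1, e2, h1]
    have hc : Commute (g.F2 q2) (g.frame.F (wordVal sideA [1, 2, 1, 0, 2, 1, 2])) := by
      rcases h12.2 with h | h <;> rw [h]
      · exact g.F2_even q2 inV_q.2.1
      · rw [map_inv]
        exact (show Commute _ _ from g.F2_even q2 inV_q.2.1).inv_right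
    rw [eq_inv_of_mul_eq_one_left h12.1, map_inv, hc.inv_right.eq, ← mul_assoc (g.frame.F _),
      mul_inv_cancel, one_mul, ← map_mul, inV_q.2.2.1, map_one]
  · have h := g.cross v2 q2 inV_v2 inV_q.2
    have ev : wordVal g.gens [1, 4, 1, 4] = g.F2 q2 * g.frame.F v2 * g.F2 q2 * g.frame.F v2 := by
      simp [wordVal, CosetEnum.gen, CosetEnum.eps, gens, mul_assoc]
    rw [ev, mul_assoc (g.F2 q2) _ (g.F2 q2), h, ← mul_assoc (g.F2 q2), ← map_mul g.F2, inV_q.2.2.1,
      map_one, one_mul, ← map_mul, inV_v2.2.1, map_one]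

/-- The embedding of the alternating group of degree eight. -/
theorem exists_emb : ∃ ψ : A8 →* G, Function.Injective ψ ∧ ∀ i < 6, ψ (Pres.img8 i) = g.gens i := by
  obtain ⟨φ, hφ, hφg⟩ := Pres.exists_equiv
  have hes : ∀ x, (MulEquiv.ofBijective φ hφ).symm (φ x) = x := fun x =>
    (MulEquiv.ofBijective φ hφ).symm_apply_apply x
  obtain ⟨θ, hθ⟩ := WordPres.exists_hom (k := 6) (R := Pres.rels) (by decide) (by decide) g.gens g.gens_rels
  let e := MulEquiv.ofBijective φ hφ
  refine ⟨θ.comp e.symm.toMonoidHom, ?_, fun i hi => ?_⟩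
  · rw [← MonoidHom.ker_eq_bot_iff]
    haveI : IsSimpleGroup A8 := alternatingGroup.isSimpleGroup (by rw [Nat.card_fin]; norm_num)
    refine (IsSimpleGroup.eq_bot_or_eq_top_of_normal _ (MonoidHom.normal_ker _)).resolve_right fun h => ?_
    have h1 : θ (Pres.xgen 0) = 1 := by
      have : Pres.img8 0 ∈ (θ.comp e.symm.toMonoidHom).ker := h ▸ Subgroup.mem_top _
      rw [MonoidHom.mem_ker] at this
      rw [← hφg 0 (by norm_num)] at this
      simpa [e, hes] using this
    rw [Pres.xgen, hθ 0 (by norm_num)] at h1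
    have : g.frame.F v1 = g.frame.F 1 := by rw [map_one]; simpa [gens] using h1
    exact absurd (g.frame.F_inj this) (by decide +kernel)
  · rw [← hφg i hi]
    simpa [e, hes, Pres.xgen] using hθ i hi

end Glue

end Cfsg.Lib.AltEightThree
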