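import Cfsg.Agent.Lib.AltEightThree.Eight

set_option autoImplicit false

/-!
An embedded alternating group of degree eight containing the 3-local subgroups.
-/

namespace Cfsg.Lib.AltEightThree

open Cfsg.Lib.AltEightNine (A8 w8 z8 v8 c8 t8)

/-- An embedded alternating group of degree eight containing the relevant local subgroups. -/
structure Loc (G : Type*) [Group G] where
  /-- the embedding -/
  ψ : A8 →* G
  inj : Function.Injective ψ
  nz : ∀ g : G, g * ψ c8 * g⁻¹ ∈ Subgroup.zpowers (ψ c8) → g ∈ ψ.range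
  cy : ∀ g : G, g * ψ y6 = ψ y6 * g → g ∈ ψ.range
  inv : ∀ W : Subgroup G, (Nat.card W).Coprime 3 →
    ψ c8 ∈ Subgroup.normalizer (W : Set G) → ψ (t8 0) ∈ Subgroup.normalizer (W : Set G) →
      W ≤ ψ.range
  cV : ∀ g : G, g * ψ w8 = ψ w8 * g → g * ψ v8 = ψ v8 * g → g ∈ ψ.range
  fus : ¬ IsConj (ψ z8) (ψ w8)

end Cfsg.Lib.AltEightThree
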