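import Cfsg.Agent.Lib.AltEightThree.Glue
import Cfsg.Agent.Lib.AltEightThree.Loc

set_option autoImplicit false

/-!
The embedded group contains the 3-local subgroups.
-/

namespace Cfsg.Lib.AltEightThree

open Equiv Cfsg.Lib.CosetEnum
open Cfsg.Lib.AltEightNine (A8 w8 z8 v8 c8 t8)

/-- Words for the transpositions. -/
def swapWords : List (List ℕ) :=
  [[2, 5], [1, 5, 1, 5, 1, 5], [2, 1, 5, 1, 2], [0, 1, 5, 0, 1], [0, 1, 2, 1, 5, 1, 2],
    [5, 1, 5, 1, 5], [1, 5, 1], [0, 2, 5], [0, 5, 0], [5]]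

theorem swap_word : ∀ i j : Fin 5, i ≠ j → ∃ w ∈ swapWords, wordVal sideA w = swap i j := by
  decide +kernel

theorem swapWords_lt : ∀ w ∈ swapWords, ∀ i ∈ w, i = 0 ∨ i = 1 ∨ i = 2 ∨ i = 5 := by
  simp [swapWords]

theorem img_words : wordVal Pres.img8 [5, 4, 2, 4, 2, 4] = c8 ∧ wordVal sideB [5, 4, 2, 4, 2, 4] = c3 ∧
    wordVal Pres.img8 [2, 1, 5, 1, 5, 1] = t8 0 ∧ wordVal sideA [2, 1, 5, 1, 5, 1] = c3 ∧
    Pres.img8 0 = w8 ∧ Pres.img8 1 = v8 ∧ T8 * c8 * T8⁻¹ = t8 0 ∧ T8 * t8 0 * T8⁻¹ = c8 ∧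
    c8 * t8 0 = t8 0 * c8 := by
  decide +kernel

variable {G : Type*} [Group G]

theorem Glue.map_word (g : Glue G) {ψ : A8 →* G} (hψ : ∀ i < 6, ψ (Pres.img8 i) = g.gens i) :
    ∀ r : List ℕ, (∀ i ∈ r, i < 6) → ψ (wordVal Pres.img8 r) = wordVal g.gens r
  | [], _ => map_one ψ
  | i :: r, h => by
    rw [wordVal, wordVal, map_mul, g.map_word hψ r fun j hj => h j (List.mem_cons_of_mem _ hj)]
    congr 1
    have hi := h i List.mem_cons_self
    have he : i ≠ CosetEnum.eps := by unfold CosetEnum.eps; omega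
    rw [CosetEnum.gen, if_neg he, CosetEnum.gen, if_neg he]
    exact hψ i hi

/-- The embedded group has all the required properties. -/
theorem exists_loc [Finite G] (S : Frame G) : Nonempty (Loc G) := by
  obtain ⟨g, rfl⟩ := exists_glue S
  obtain ⟨ψ, hinj, hψ⟩ := g.exists_emb
  set S := g.frame with hS
  have hw : ψ w8 = S.F v1 := by
    rw [← img_words.2.2.2.2.1, hψ 0 (by norm_num)]; simp [Glue.gens, hS]
  have hv : ψ v8 = S.F v2 := by
    rw [← img_words.2.2.2.2.2.1, hψ 1 (by norm_num)]; simp [Glue.gens, hS]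
  have hz : ψ c8 = S.z := by
    rw [← img_words.1, g.map_word hψ _ (by decide), g.wordB _ (by decide), img_words.2.1, g.F2_c3]
  have hu : ψ (t8 0) = S.u := by
    rw [← img_words.2.2.1, g.map_word hψ _ (by decide), g.wordA _ (by decide), img_words.2.2.2.1]
    rfl
  have hF : ∀ τ, S.F τ ∈ ψ.range := by
    intro τ
    induction τ using Equiv.Perm.swap_induction_on with
    | one => rw [map_one]; exact one_mem _
    | swap_mul τ i j hij ih =>
      rw [map_mul]
      refine mul_mem ?_ ih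
      obtain ⟨w, hw', he⟩ := swap_word i j hij
      refine ⟨wordVal Pres.img8 w, ?_⟩
      rw [g.map_word hψ _ (fun k hk => by rcases swapWords_lt w hw' k hk with h | h | h | h <;> omega),
        g.wordA _ (swapWords_lt w hw'), he]
  have hzM : S.z ∈ ψ.range := ⟨c8, hz⟩
  have hcz : ∀ x, x * S.z = S.z * x → x ∈ ψ.range := by
    intro x hx
    obtain ⟨i, τ, -, rfl⟩ := S.cent x hx
    exact mul_mem (pow_mem hzM i) (hF τ)
  have hy8 : ψ y8 = S.z * S.u := by rw [y8, map_mul, hz, hu]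
  -- the centraliser of `z u`
  have hcy : ∀ x, x * ψ y8 = ψ y8 * x → x ∈ ψ.range := by
    intro x hx
    let f : Fin 3 × Fin 3 × Fin 2 → A8 := fun p => c8 ^ p.1.1 * t8 0 ^ p.2.1.1 * T8 ^ p.2.2.1
    have hf : Function.Injective f ∧ ∀ p, f p * y8 = y8 * f p := by
      refine ⟨?_, ?_⟩
      · unfold Function.Injective; decide +kernel
      · decide +kernel
    let f' : Fin 3 × Fin 3 × Fin 2 → Subgroup.centralizer ({S.z * S.u} : Set G) :=
      fun p => ⟨ψ (f p), mem_cent_singleton.mpr (by rw [← hy8, ← map_mul, ← map_mul, hf.2 p])⟩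
    have hb : Function.Bijective f' := by
      refine (Nat.bijective_iff_injective_and_card f').mpr
        ⟨fun p q h => hf.1 (hinj (congrArg Subtype.val h)), ?_⟩
      rw [show Nat.card (Subgroup.centralizer ({S.z * S.u} : Set G)) = 18 from S.card_y]
      simp
    obtain ⟨p, hp⟩ := hb.2 ⟨x, mem_cent_singleton.mpr (by rw [← hy8]; exact hx)⟩
    exact ⟨f p, congrArg Subtype.val hp⟩
  have hsM : S.s ∈ ψ.range := by
    apply hcy
    rw [hy8]
    calc S.s * (S.z * S.u) = (S.s * S.z * S.s) * (S.s * S.u * S.s) * S.s := by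
          simp only [← mul_assoc]
          rw [mul_assoc _ S.s S.s, S.s_sq, mul_one, mul_assoc _ S.s S.s, S.s_sq, mul_one]
      _ = S.u * S.z * S.s := by rw [S.s_z, S.s_conj_u]; rfl
      _ = S.z * S.u * S.s := by rw [S.comm_u_z]
  have hcu : ∀ x, x * S.u = S.u * x → x ∈ ψ.range := by
    intro x hx
    have h : (S.s * x * S.s) * S.z = S.z * (S.s * x * S.s) := by
      rw [← S.s_conj_u]
      calc S.s * x * S.s * (S.s * S.u * S.s) = S.s * (x * S.u) * S.s := by
            simp only [mul_assoc]; rw [← mul_assoc S.s S.s, S.s_sq, one_mul]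
        _ = S.s * (S.u * x) * S.s := by rw [hx]
        _ = S.s * S.u * S.s * (S.s * x * S.s) := by
            simp only [mul_assoc]; rw [← mul_assoc S.s S.s, S.s_sq, one_mul]
    have h2 := mul_mem (mul_mem hsM (hcz _ h)) hsM
    have e : S.s * (S.s * x * S.s) * S.s = x := by
      simp only [← mul_assoc]; rw [S.s_sq, one_mul, mul_assoc, S.s_sq, mul_one]
    rwa [e] at h2
  obtain ⟨-, -, hy6z, gy, hgy⟩ := y6_facts
  have hinvW : ∀ W : Subgroup G, (Nat.card W).Coprime 3 →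
      S.z ∈ Subgroup.normalizer (W : Set G) → S.u ∈ Subgroup.normalizer (W : Set G) →
        W ≤ ψ.range := fun W hW h1 h2 =>
    (S.inv_gen W hW h1 h2).trans (sup_le (fun x hx => hcz x (mem_cent_singleton.mp hx.2))
      (fun x hx => hcu x (mem_cent_singleton.mp hx.2)))
  refine ⟨⟨ψ, hinj, ?_, ?_, ?_, ?_, ?_⟩⟩
  · intro x hx
    rw [hz] at hx
    obtain ⟨i, τ, rfl⟩ := S.norm_z hx
    exact mul_mem (pow_mem hzM i) (hF τ)
  · intro x hx
    have h : ((ψ gy)⁻¹ * x * ψ gy) * ψ y8 = ψ y8 * ((ψ gy)⁻¹ * x * ψ gy) := by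
      have e : ψ y8 = (ψ gy)⁻¹ * ψ y6 * ψ gy := by
        rw [← hgy, map_mul, map_mul, map_inv]; group
      rw [e]
      calc (ψ gy)⁻¹ * x * ψ gy * ((ψ gy)⁻¹ * ψ y6 * ψ gy) = (ψ gy)⁻¹ * (x * ψ y6) * ψ gy := by group
        _ = (ψ gy)⁻¹ * (ψ y6 * x) * ψ gy := by rw [hx]
        _ = _ := by group
    have := mul_mem (mul_mem (show ψ gy ∈ ψ.range from ⟨gy, rfl⟩) (hcy _ h))
      (inv_mem (show ψ gy ∈ ψ.range from ⟨gy, rfl⟩))
    have e : ψ gy * ((ψ gy)⁻¹ * x * ψ gy) * (ψ gy)⁻¹ = x := by group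
    rwa [e] at this
  · intro W hW h1 h2
    exact hinvW W hW (hz ▸ h1) (hu ▸ h2)
  · intro x h1 h2
    rw [hw] at h1
    rw [hv] at h2
    obtain ⟨N, hNC, hN3, hNdec, hNmem⟩ := S.exists_complement
    obtain ⟨i, n, hn, rfl⟩ := hNdec x (S.mem_cent_V.mpr ⟨h1, h2⟩)
    have hnorm : ∀ a, (∀ v ∈ S.V, a⁻¹ * v * a ∈ S.V) → a ∈ Subgroup.normalizer (N : Set G) := by
      intro a ha
      refine mem_normalizer_of_forall fun y hy => hNmem _ (S.conj_mem_cent_V ha (hNC hy)) ?_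
      rw [show a * y * a⁻¹ = MulAut.conj a y from rfl, MulEquiv.orderOf_eq]
      exact hN3.coprime_dvd_left (by rw [← Subgroup.orderOf_mk y hy]; exact orderOf_dvd_natCard _)
    refine mul_mem (hinvW N hN3 (hnorm _ ?_) (hnorm _ ?_) hn) (pow_mem hzM i)
    · rintro _ ⟨τ, hτ, rfl⟩
      exact ⟨τ, hτ, by rw [mul_assoc, S.even_comm τ hτ.1, inv_mul_cancel_left]⟩
    · rintro _ ⟨τ, hτ, rfl⟩
      exact ⟨c3⁻¹ * τ * c3, four_c3 τ hτ, by simp [Frame.u]⟩
  · intro hcon
    obtain ⟨h, hh⟩ := isConj_iff.mp hcon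
    rw [hw] at hh
    have hy : h * ψ y6 * h⁻¹ ∈ Subgroup.centralizer ({S.F v1} : Set G) := by
      rw [mem_cent_singleton, ← hh]
      calc h * ψ y6 * h⁻¹ * (h * ψ z8 * h⁻¹) = h * (ψ y6 * ψ z8) * h⁻¹ := by group
        _ = h * (ψ z8 * ψ y6) * h⁻¹ := by rw [← map_mul, hy6z, map_mul]
        _ = _ := by group
    obtain ⟨c, -, hc⟩ := exists_conj_into _ S.z
      (mem_cent_singleton.mpr (S.even_comm v1 inV_v1.1).symm) S.z3
      (fun x hx hn h3 => S.three_of_norm (Or.inl rfl) (mem_cent_singleton.mp hx) hn h3) hy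
      (by rw [conj_pow, ← map_pow, y6_facts.1, map_one, mul_one, mul_inv_cancel])
    have hcard : Nat.card (Subgroup.centralizer ({c * (h * ψ y6 * h⁻¹) * c⁻¹} : Set G)) = 18 := by
      rw [card_cent_conj, card_cent_conj, ← hgy, map_mul, map_mul, map_inv, card_cent_conj, hy8]
      exact S.card_y
    have h60 : 60 ≤ Nat.card (Subgroup.centralizer ({S.z} : Set G)) :=
      Pre.sixty_le_card_cent ⟨S.z, S.F, S.F_inj, S.z3, S.z_ne, S.F_ne_z, S.even_comm, S.odd_inv, S.cent⟩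
    rcases zpowers_three S.z3 hc with e | e | e
    · have h1 := conj_eq_one_iff.mp (conj_eq_one_iff.mp e)
      exact y6_facts.2.1 (hinj (h1.trans (map_one ψ).symm))
    · rw [e] at hcard; omega
    · rw [e, show S.z ^ 2 = S.z⁻¹ by rw [eq_inv_iff_mul_eq_one, ← pow_succ, S.z3], card_cent_inv] at hcard
      omega

end Cfsg.Lib.AltEightThree
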