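import Cfsg.Agent.Lib.AltEightThree.Frame

set_option autoImplicit false

/-!
The frame from the hypotheses on the normalisers of `z`, of `y` and of the Sylow 3-subgroup.
-/

namespace Cfsg.Lib.AltEightThree

open Equiv

variable {G : Type*} [Group G]

theorem mem_cent_singleton {g x : G} :
    g ∈ Subgroup.centralizer ({x} : Set G) ↔ g * x = x * g := by
  simp [Subgroup.mem_centralizer_singleton_iff]

theorem conj_mem_normalizer {H : Subgroup G} {g x : G}
    (hg : g ∈ Subgroup.normalizer (H : Set G)) (hx : x ∈ H) : g * x * g⁻¹ ∈ H :=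
  ((Subgroup.mem_normalizer_iff.mp hg) x).mp hx

/-- In a finite group an element conjugating a subgroup into itself normalises it. -/
theorem mem_normalizer_of_forall [Finite G] {H : Subgroup G} {g : G}
    (h : ∀ x ∈ H, g * x * g⁻¹ ∈ H) : g ∈ Subgroup.normalizer (H : Set G) := by
  have hle : H.map (MulAut.conj g).toMonoidHom ≤ H := by
    rintro x ⟨w, hw, rfl⟩
    exact h w hw
  have heq : H.map (MulAut.conj g).toMonoidHom = H := by
    apply Subgroup.eq_of_le_of_card_ge hle
    rw [Subgroup.card_map_of_injective (MulAut.conj g).injective]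
  rw [Subgroup.mem_normalizer_iff]
  intro x
  constructor
  · exact h x
  · intro hx
    rw [← heq] at hx
    obtain ⟨w, hw, hwe⟩ := hx
    have hwx : w = x := (MulAut.conj g).injective hwe
    rwa [← hwx]

theorem mem_normalizer_of_cent {g x : G} (h : g * x = x * g) :
    g ∈ Subgroup.normalizer (Subgroup.zpowers x : Set G) := by
  rw [Subgroup.mem_normalizer_iff]
  intro y
  constructor
  · rintro ⟨k, rfl⟩
    refine ⟨k, ?_⟩
    have : Commute g (x ^ k) := Commute.zpow_right h k
    simp only [this.eq, mul_inv_cancel_right]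
  · rintro ⟨k, hk⟩
    refine ⟨k, ?_⟩
    have h' : Commute g (x ^ k) := Commute.zpow_right h k
    simp only at hk ⊢
    calc x ^ k = g⁻¹ * (x ^ k) * g := by rw [mul_assoc, ← h'.eq, inv_mul_cancel_left]
      _ = y := by rw [hk]; group

theorem zpowers_three {z : G} (hz : z ^ 3 = 1) {x : G} (hx : x ∈ Subgroup.zpowers z) :
    x = 1 ∨ x = z ∨ x = z ^ 2 := by
  obtain ⟨k, rfl⟩ := hx
  have h3 : z ^ (3 : ℤ) = 1 := by exact_mod_cast hz
  have : z ^ k = z ^ (k % 3) := by
    conv_lhs => rw [← Int.emod_add_mul_ediv k 3, zpow_add, zpow_mul, h3, one_zpow, mul_one]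
  simp only [this]
  have h1 : 0 ≤ k % 3 := Int.emod_nonneg k (by norm_num)
  have h2 : k % 3 < 3 := Int.emod_lt_of_pos k (by norm_num)
  rcases (by omega : k % 3 = 0 ∨ k % 3 = 1 ∨ k % 3 = 2) with h | h | h <;> rw [h]
  · exact Or.inl (zpow_zero z)
  · exact Or.inr (Or.inl (zpow_one z))
  · exact Or.inr (Or.inr (by rw [show (2 : ℤ) = ((2 : ℕ) : ℤ) from rfl, zpow_natCast]))

/-- `z` and the part of its normaliser that is isomorphic to the symmetric group of degree five. -/
structure Pre (G : Type*) [Group G] where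
  /-- the central element -/
  z : G
  /-- the symmetric group of degree five -/
  F : Perm (Fin 5) →* G
  F_inj : Function.Injective F
  z3 : z ^ 3 = 1
  z_ne : z ≠ 1
  F_ne_z : ∀ τ, F τ ≠ z
  even_comm : ∀ τ, Perm.sign τ = 1 → F τ * z = z * F τ
  odd_inv : ∀ τ, Perm.sign τ = -1 → F τ * z * (F τ)⁻¹ = z⁻¹
  cent : ∀ g, g * z = z * g → ∃ (i : ℕ) (τ : Perm (Fin 5)), Perm.sign τ = 1 ∧ g = z ^ i * F τ

theorem exists_pre (z : G) (hz3 : z ^ 3 = 1) (hz1 : z ≠ 1)
    (eL : Subgroup.normalizer (Subgroup.zpowers z : Set G) ≃*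
      (((Perm.sign).comp (MonoidHom.fst (Perm (Fin 3)) (Perm (Fin 5)))) *
        ((Perm.sign).comp (MonoidHom.snd (Perm (Fin 3)) (Perm (Fin 5))))).ker) :
    ∃ S : Pre G, S.z = z := by
  set N := Subgroup.normalizer (Subgroup.zpowers z : Set G) with hN
  have hzN : z ∈ N := mem_normalizer_of_cent rfl
  set K := (((Perm.sign).comp (MonoidHom.fst (Perm (Fin 3)) (Perm (Fin 5)))) *
        ((Perm.sign).comp (MonoidHom.snd (Perm (Fin 3)) (Perm (Fin 5))))).ker with hK
  have hmemK : ∀ p : Perm (Fin 3) × Perm (Fin 5),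
      p ∈ K ↔ Perm.sign p.1 * Perm.sign p.2 = 1 := by
    intro p
    rw [hK, MonoidHom.mem_ker]
    rfl
  set P : Perm (Fin 3) × Perm (Fin 5) := ((eL ⟨z, hzN⟩ : K) : Perm (Fin 3) × Perm (Fin 5)) with hP
  have hP3 : P ^ 3 = 1 := by
    rw [hP, ← SubmonoidClass.coe_pow, ← map_pow]
    have : (⟨z, hzN⟩ : N) ^ 3 = 1 := Subtype.ext (by simpa using hz3)
    simp [this]
  have hP1 : P ≠ 1 := by
    intro h
    apply hz1
    have h' : eL ⟨z, hzN⟩ = 1 := Subtype.ext h
    have := congrArg eL.symm h'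
    simpa using congrArg (Subtype.val) this
  -- the second coordinate of the image of `z` is trivial
  have hconj : ∀ q : K, (q : Perm (Fin 3) × Perm (Fin 5)) * P * (q : Perm (Fin 3) × Perm (Fin 5))⁻¹ = 1 ∨
      (q : Perm (Fin 3) × Perm (Fin 5)) * P * (q : Perm (Fin 3) × Perm (Fin 5))⁻¹ = P ∨
      (q : Perm (Fin 3) × Perm (Fin 5)) * P * (q : Perm (Fin 3) × Perm (Fin 5))⁻¹ = P ^ 2 := by
    intro q
    obtain ⟨g, rfl⟩ := eL.surjective q
    have hg : (g : G) * z * (g : G)⁻¹ ∈ Subgroup.zpowers z :=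
      conj_mem_normalizer g.2 (Subgroup.mem_zpowers z)
    have key : ((eL g : K) : Perm (Fin 3) × Perm (Fin 5)) * P * ((eL g : K) : Perm (Fin 3) × Perm (Fin 5))⁻¹
        = ((eL (g * ⟨z, hzN⟩ * g⁻¹) : K) : Perm (Fin 3) × Perm (Fin 5)) := by
      simp [hP]
    rw [key]
    rcases zpowers_three hz3 hg with h | h | h
    · left
      have : (g * ⟨z, hzN⟩ * g⁻¹ : N) = 1 := Subtype.ext (by simpa using h)
      simp [this]
    · right; left
      have : (g * ⟨z, hzN⟩ * g⁻¹ : N) = ⟨z, hzN⟩ := Subtype.ext (by simpa using h)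
      simp [this, hP]
    · right; right
      have : (g * ⟨z, hzN⟩ * g⁻¹ : N) = ⟨z, hzN⟩ ^ 2 := Subtype.ext (by simpa using h)
      rw [this, map_pow, SubmonoidClass.coe_pow]
  have hP23 : P.2 ^ 3 = 1 := by rw [← Prod.pow_snd, hP3]; rfl
  have hP13 : P.1 ^ 3 = 1 := by rw [← Prod.pow_fst, hP3]; rfl
  have hP2 : P.2 = 1 := by
    refine normal_order_three P.2 hP23 fun π => ?_
    have hq : (signLift π, π) ∈ K := by
      rw [hmemK]; simp [signLift_sign, Int.units_mul_self]
    rcases hconj ⟨_, hq⟩ with h | h | h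
    · exact Or.inl (by simpa using congrArg Prod.snd h)
    · exact Or.inr (Or.inl (by simpa using congrArg Prod.snd h))
    · exact Or.inr (Or.inr (by simpa using congrArg Prod.snd h))
  have hP11 : P.1 ≠ 1 := fun h => hP1 (Prod.ext h hP2)
  let j : Perm (Fin 5) →* K :=
    { toFun := fun τ => ⟨(signLift τ, τ), by rw [hmemK]; simp [signLift_sign, Int.units_mul_self]⟩
      map_one' := Subtype.ext (by simp)
      map_mul' := fun x y => Subtype.ext (by simp) }
  have hj : ∀ τ, ((j τ : K) : Perm (Fin 3) × Perm (Fin 5)) = (signLift τ, τ) := fun τ => rfl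
  let F : Perm (Fin 5) →* G := (N.subtype.comp eL.symm.toMonoidHom).comp j
  have hF : ∀ τ, F τ = ((eL.symm (j τ) : N) : G) := fun τ => rfl
  have hzsymm : ((eL.symm (eL ⟨z, hzN⟩) : N) : G) = z := by simp
  refine ⟨⟨z, F, ?_, hz3, hz1, ?_, ?_, ?_, ?_⟩, rfl⟩
  · intro x y h
    have h' : j x = j y := eL.symm.injective (Subtype.ext h)
    simpa [hj] using congrArg (fun q : K => ((q : Perm (Fin 3) × Perm (Fin 5))).2) h'
  · intro τ h
    have h' : j τ = eL ⟨z, hzN⟩ := eL.symm.injective (Subtype.ext (by rw [← hF, h, hzsymm]))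
    have h2 : (signLift τ, τ) = P := by rw [← hj, h']
    have : τ = 1 := by rw [← hP2, ← h2]
    subst this
    exact hP1 (h2.symm.trans (by simp))
  · intro τ hτ
    have h' : j τ * eL ⟨z, hzN⟩ = eL ⟨z, hzN⟩ * j τ := by
      apply Subtype.ext
      change (signLift τ, τ) * P = P * (signLift τ, τ)
      have : signLift τ = 1 := by simp [signLift, hτ]
      refine Prod.ext ?_ ?_ <;> simp [this, hP2]
    have := congrArg (fun q : K => ((eL.symm q : N) : G)) h'
    simpa [hF] using this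
  · intro τ hτ
    have h' : j τ * eL ⟨z, hzN⟩ * (j τ)⁻¹ = (eL ⟨z, hzN⟩)⁻¹ := by
      apply Subtype.ext
      change (signLift τ, τ) * P * (signLift τ, τ)⁻¹ = P⁻¹
      have hne : ¬ (Perm.sign τ = 1) := by rw [hτ]; decide
      have : signLift τ = swap 0 1 := by simp [signLift, hne]
      refine Prod.ext ?_ ?_
      · simpa [this] using perm_three_inv P.1 hP13
      · simp [hP2]
    have := congrArg (fun q : K => ((eL.symm q : N) : G)) h'
    simpa [hF] using this
  · intro g hg
    have hgN : g ∈ N := mem_normalizer_of_cent hg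
    set R : Perm (Fin 3) × Perm (Fin 5) := ((eL ⟨g, hgN⟩ : K) : Perm (Fin 3) × Perm (Fin 5)) with hR
    have hcom : R * P = P * R := by
      rw [hR, hP]
      have : (⟨g, hgN⟩ : N) * ⟨z, hzN⟩ = ⟨z, hzN⟩ * ⟨g, hgN⟩ := Subtype.ext (by simpa using hg)
      simpa only [map_mul, Subgroup.coe_mul] using
        congrArg (fun q : N => ((eL q : K) : Perm (Fin 3) × Perm (Fin 5))) this
    have hsgn : Perm.sign R.1 * Perm.sign R.2 = 1 := (hmemK R).mp (eL ⟨g, hgN⟩).2
    have fin : ∀ i : ℕ, R.1 = P.1 ^ i → ∃ (i : ℕ) (τ : Perm (Fin 5)),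
        Perm.sign τ = 1 ∧ g = z ^ i * F τ := by
      intro i hi
      have h1 : Perm.sign R.1 = 1 := by rw [hi, map_pow, perm_three_sign P.1 hP13, one_pow]
      have h2 : Perm.sign R.2 = 1 := by simpa [h1] using hsgn
      refine ⟨i, R.2, h2, ?_⟩
      have h' : eL ⟨g, hgN⟩ = (eL ⟨z, hzN⟩) ^ i * j R.2 := by
        apply Subtype.ext
        change R = P ^ i * (signLift R.2, R.2)
        have : signLift R.2 = 1 := by simp [signLift, h2]
        refine Prod.ext ?_ ?_
        · simp [this, hi]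
        · simp [hP2]
      have := congrArg (fun q : K => ((eL.symm q : N) : G)) h'
      simpa [hF] using this
    rcases perm_three_cent P.1 R.1 hP13 hP11 (by simpa using congrArg Prod.fst hcom) with h | h | h
    · exact fin 0 h
    · exact fin 1 h
    · exact fin 2 h

/-- Move the symmetric group by an inner automorphism. -/
def Pre.relabel (S : Pre G) (π : Perm (Fin 5)) : Pre G where
  z := S.z
  F := S.F.comp (MulAut.conj π).toMonoidHom
  F_inj := S.F_inj.comp (MulAut.conj π).injective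
  z3 := S.z3
  z_ne := S.z_ne
  F_ne_z τ := S.F_ne_z _
  even_comm τ h := S.even_comm _ (by simp [MulAut.conj_apply, mul_comm, h])
  odd_inv τ h := S.odd_inv _ (by simp [MulAut.conj_apply, mul_comm, h])
  cent g hg := by
    obtain ⟨i, τ, hτ, rfl⟩ := S.cent g hg
    exact ⟨i, π⁻¹ * τ * π, by simp [hτ, mul_comm], by simp [MulAut.conj_apply, mul_assoc]⟩

theorem Pre.comm_z_pow_F (S : Pre G) {τ : Perm (Fin 5)} (h : Perm.sign τ = 1) (i : ℕ) :
    S.F τ * S.z ^ i = S.z ^ i * S.F τ :=
  (Commute.pow_right (show Commute (S.F τ) S.z from S.even_comm τ h) i).eq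

theorem Pre.z_pow_F_eq (S : Pre G) {i : ℕ} {τ : Perm (Fin 5)} (h : S.z ^ i = S.F τ) :
    i % 3 = 0 ∧ τ = 1 := by
  have h3 : S.z ^ i = S.z ^ (i % 3) := pow_eq_pow_mod i S.z3
  rcases (by omega : i % 3 = 0 ∨ i % 3 = 1 ∨ i % 3 = 2) with hi | hi | hi
  · refine ⟨hi, S.F_inj ?_⟩
    rw [map_one, ← h, h3, hi, pow_zero]
  · rw [h3, hi, pow_one] at h
    exact absurd h.symm (S.F_ne_z τ)
  · rw [h3, hi] at h
    refine absurd ?_ (S.F_ne_z τ⁻¹)
    rw [map_inv, ← h, inv_eq_iff_mul_eq_one, ← pow_succ, S.z3]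

theorem Pre.sixty_le_card_cent [Finite G] (S : Pre G) :
    60 ≤ Nat.card (Subgroup.centralizer ({S.z} : Set G)) := by
  let f : alternatingGroup (Fin 5) → Subgroup.centralizer ({S.z} : Set G) :=
    fun τ => ⟨S.F τ, mem_cent_singleton.mpr (S.even_comm τ (Perm.mem_alternatingGroup.mp τ.2))⟩
  have hf : Function.Injective f := fun x y h => Subtype.ext (S.F_inj (congrArg Subtype.val h))
  have h := Nat.card_le_card_of_injective f hf
  have h60 : Nat.card (alternatingGroup (Fin 5)) = 60 := by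
    rw [nat_card_alternatingGroup]; simp [Nat.factorial]
  rw [h60] at h
  exact h

theorem card_cent_conj [Finite G] (g x : G) :
    Nat.card (Subgroup.centralizer ({g * x * g⁻¹} : Set G)) =
      Nat.card (Subgroup.centralizer ({x} : Set G)) := by
  have h : (Subgroup.centralizer ({x} : Set G)).map (MulAut.conj g).toMonoidHom =
      Subgroup.centralizer ({g * x * g⁻¹} : Set G) := by
    ext y
    rw [Subgroup.mem_map_equiv, mem_cent_singleton, mem_cent_singleton, MulAut.conj_symm_apply]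
    constructor
    · intro h
      calc y * (g * x * g⁻¹) = g * ((g⁻¹ * y * g) * x) * g⁻¹ := by group
        _ = g * (x * (g⁻¹ * y * g)) * g⁻¹ := by rw [h]
        _ = g * x * g⁻¹ * y := by group
    · intro h
      calc g⁻¹ * y * g * x = g⁻¹ * (y * (g * x * g⁻¹)) * g := by group
        _ = g⁻¹ * (g * x * g⁻¹ * y) * g := by rw [h]
        _ = x * (g⁻¹ * y * g) := by group
  rw [← h]
  exact (Nat.card_congr ((Subgroup.centralizer ({x} : Set G)).equivMapOfInjective _
    (MulAut.conj g).injective).toEquiv).symm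

theorem card_cent_inv (x : G) :
    Nat.card (Subgroup.centralizer ({x⁻¹} : Set G)) =
      Nat.card (Subgroup.centralizer ({x} : Set G)) := by
  have : Subgroup.centralizer ({x⁻¹} : Set G) = Subgroup.centralizer ({x} : Set G) := by
    ext g
    rw [mem_cent_singleton, mem_cent_singleton]
    exact Commute.inv_right_iff
  rw [this]

end Cfsg.Lib.AltEightThree
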