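import Cfsg.Agent.Lib.AltEightThree.Loc
import Cfsg.Agent.Lib.AltEightThree.Setup

set_option autoImplicit false

/-!
Normalisers of the four and of the elementary subgroup of order sixteen, and the Sylow subgroups
of the two involution centralisers.
-/

namespace Cfsg.Lib.AltEightThree

open Equiv Equiv.Perm
open Cfsg.Lib.AltEightNine (A8 w8 z8 v8 f8 c8 d8 t8)

attribute [local instance 2000] List.decidableBAll List.decidableBEx

theorem six_facts : (∀ a ∈ [w8, v8, v8 * w8, f8 0, f8 1, f8 0 * f8 1], a * a = 1 ∧ a ≠ 1 ∧ Wt a ∧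
      a ∈ kList) ∧
    (∀ a ∈ [w8, v8, v8 * w8], T8 * a * T8⁻¹ ∈ [f8 0, f8 1, f8 0 * f8 1]) ∧
    (∀ a ∈ [f8 0, f8 1, f8 0 * f8 1], T8 * a * T8⁻¹ ∈ [w8, v8, v8 * w8]) ∧
    Wt w8 ∧ (w8 * v8 = v8 * w8) ∧ Wt (v8 * w8) := by
  decide +kernel

theorem wt_isConj {a : A8} (h : Wt a) : IsConj w8 a := by
  obtain ⟨h2, h1, p, hp⟩ := h
  rcases AltEightNine.involution_cases h2 h1 with h | ⟨h, -⟩
  · exfalso
    obtain ⟨g, hg⟩ := isConj_iff.1 h
    rw [← hg] at hp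
    have hp' : z8.1 (g.1.symm p) = g.1.symm p := g.1.injective (hp.trans (g.1.apply_symm_apply p).symm)
    have key : ∀ q : Fin 8, z8.1 q ≠ q := by decide +kernel
    exact key _ hp'
  · exact h

/-- A two-group containing `P` is `P` if nothing in it outside `P` normalises `P`. -/
theorem le_of_normalizer_two {X : Type*} [Group X] [Finite X] {P R : Subgroup X}
    (hR : IsPGroup 2 R) (hPR : P ≤ R)
    (h : ∀ x ∈ R, x ∈ Subgroup.normalizer (P : Set X) → x ∈ P) : R ≤ P := by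
  haveI : Fact (Nat.Prime 2) := ⟨Nat.prime_two⟩
  by_contra hne
  have hlt : P.subgroupOf R < ⊤ :=
    lt_top_iff_ne_top.mpr fun e => hne (Subgroup.subgroupOf_eq_top.mp e)
  haveI := hR.isNilpotent
  obtain ⟨x, hxN, hxP⟩ := SetLike.exists_of_lt (normalizerCondition_of_isNilpotent _ hlt)
  refine hxP (h x x.2 (mem_normalizer_of_forall fun y hy => ?_))
  exact (Subgroup.mem_normalizer_iff.mp hxN ⟨y, hPR hy⟩).mp hy

theorem two_group_card_le {H : Subgroup A8} (hH : IsPGroup 2 H) : Nat.card H ≤ 64 := by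
  haveI : Fact (Nat.Prime 2) := ⟨Nat.prime_two⟩
  obtain ⟨n, hn⟩ := IsPGroup.iff_card.mp hH
  have h1 : 2 ^ n ∣ 2 ^ 6 * 315 := by
    rw [← hn, show 2 ^ 6 * 315 = Nat.card A8 by
      rw [nat_card_alternatingGroup, Nat.card_fin]; rfl]
    exact Subgroup.card_subgroup_dvd_card H
  rw [hn]
  exact Nat.le_of_dvd (by norm_num) (((Nat.coprime_two_left.mpr (by decide)).pow_left n).dvd_of_dvd_mul_right h1)

namespace Loc

variable {G : Type*} [Group G] (S : Loc G)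

theorem comm_iff (a b : A8) : S.ψ a * S.ψ b = S.ψ b * S.ψ a ↔ a * b = b * a :=
  ⟨fun h => S.inj (by rw [map_mul, map_mul, h]), fun h => by rw [← map_mul, h, map_mul]⟩

theorem mem_range (a : A8) : S.ψ a ∈ S.ψ.range := ⟨a, rfl⟩

theorem wt_of_conj {a : A8} (h : IsConj (S.ψ w8) (S.ψ a)) : Wt a := by
  obtain ⟨g, hg⟩ := isConj_iff.1 h
  have h2 : a * a = 1 := S.inj (by
    rw [map_mul, map_one, ← hg, show g * S.ψ w8 * g⁻¹ * (g * S.ψ w8 * g⁻¹) = g * S.ψ (w8 * w8) * g⁻¹ by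
      rw [map_mul]; group, AltEightNine.basics.1, map_one, mul_one, mul_inv_cancel])
  have h1 : a ≠ 1 := by
    rintro rfl
    rw [map_one, conj_eq_one_iff] at hg
    exact AltEightNine.ne_facts.1 (S.inj (hg.trans (map_one _).symm))
  rcases AltEightNine.involution_cases h2 h1 with h' | ⟨-, hp⟩
  · exact absurd ((MonoidHom.map_isConj S.ψ h').trans h.symm) S.fus
  · exact ⟨h2, h1, hp⟩

theorem conj_wt {a b : A8} {g : G} (ha : Wt a) (h : g * S.ψ a * g⁻¹ = S.ψ b) : Wt b :=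
  S.wt_of_conj ((MonoidHom.map_isConj S.ψ (wt_isConj ha)).trans (isConj_iff.2 ⟨g, h⟩))

/-- The normaliser of the four lies in the embedded group. -/
theorem norm_four {g : G} (hw : ∃ i ∈ [w8, v8, v8 * w8], g * S.ψ w8 * g⁻¹ = S.ψ i)
    (hv : ∃ j ∈ [w8, v8, v8 * w8], g * S.ψ v8 * g⁻¹ = S.ψ j) : g ∈ S.ψ.range := by
  obtain ⟨i, hi, hi'⟩ := hw
  obtain ⟨j, hj, hj'⟩ := hv
  have hne : i ≠ j := by
    rintro rfl
    exact AltEightNine.ne_facts.2.2.2.1 (S.inj (conj_left_injective (g := g) (hj'.trans hi'.symm)))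
  obtain ⟨a, -, haw, hav⟩ := aut_four i hi j hj hne
  have hmem : (S.ψ a)⁻¹ * g ∈ S.ψ.range := by
    refine S.cV _ ?_ ?_
    · calc (S.ψ a)⁻¹ * g * S.ψ w8 = (S.ψ a)⁻¹ * (g * S.ψ w8 * g⁻¹) * g := by group
        _ = (S.ψ a)⁻¹ * (S.ψ a * S.ψ w8 * (S.ψ a)⁻¹) * g := by
          rw [hi', ← haw, map_mul, map_mul, map_inv]
        _ = S.ψ w8 * ((S.ψ a)⁻¹ * g) := by group
    · calc (S.ψ a)⁻¹ * g * S.ψ v8 = (S.ψ a)⁻¹ * (g * S.ψ v8 * g⁻¹) * g := by group
        _ = (S.ψ a)⁻¹ * (S.ψ a * S.ψ v8 * (S.ψ a)⁻¹) * g := by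
          rw [hj', ← hav, map_mul, map_mul, map_inv]
        _ = S.ψ v8 * ((S.ψ a)⁻¹ * g) := by group
  have := mul_mem (S.mem_range a) hmem
  rwa [mul_inv_cancel_left] at this
where
  conj_left_injective {g : G} : Function.Injective fun x => g * x * g⁻¹ :=
    fun _ _ h => mul_left_cancel (mul_right_cancel h)

/-- The normaliser of the subgroup of order sixteen lies in the embedded group. -/
theorem norm_K {g : G} (h : ∀ a ∈ kList, ∃ b ∈ kList, g * S.ψ a * g⁻¹ = S.ψ b) : g ∈ S.ψ.range := by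
  obtain ⟨hsix, hTV, hTU, -, -, -⟩ := six_facts
  have himg : ∀ a ∈ [w8, v8, v8 * w8], ∃ b ∈ [w8, v8, v8 * w8, f8 0, f8 1, f8 0 * f8 1],
      g * S.ψ a * g⁻¹ = S.ψ b := by
    intro a ha
    obtain ⟨ha2, ha1, haW, haK⟩ := hsix a (by
      simp only [List.mem_cons, List.not_mem_nil, or_false] at ha ⊢
      tauto)
    obtain ⟨b, hb, hgb⟩ := h a haK
    exact ⟨b, kList_facts.2.2.2.2.1 b hb (S.conj_wt haW hgb), hgb⟩
  obtain ⟨i, hi, hi'⟩ := himg w8 (by simp)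
  obtain ⟨j, hj, hj'⟩ := himg v8 (by simp)
  have hij : g * S.ψ (v8 * w8) * g⁻¹ = S.ψ (j * i) := by
    rw [map_mul, map_mul, ← hj', ← hi']; group
  have hW : Wt (j * i) := S.conj_wt six_facts.2.2.2.2.2 hij
  have hcom : j * i = i * j := kList_facts.2.1 j (hsix j hj).2.2.2 i (hsix i hi).2.2.2
  have hsplit : (i ∈ [w8, v8, v8 * w8] ∧ j ∈ [w8, v8, v8 * w8]) ∨
      (i ∈ [f8 0, f8 1, f8 0 * f8 1] ∧ j ∈ [f8 0, f8 1, f8 0 * f8 1]) := by
    have h2 : ∀ x ∈ [w8, v8, v8 * w8, f8 0, f8 1, f8 0 * f8 1],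
        x ∈ [w8, v8, v8 * w8] ∨ x ∈ [f8 0, f8 1, f8 0 * f8 1] := by
      intro x hx
      simp only [List.mem_cons, List.not_mem_nil, or_false] at hx ⊢
      tauto
    rcases h2 i hi with hi2 | hi2 <;> rcases h2 j hj with hj2 | hj2
    · exact Or.inl ⟨hi2, hj2⟩
    · rw [hcom] at hW; exact absurd hW (kList_facts.2.2.2.2.2.1 i hi2 j hj2)
    · exact absurd hW (kList_facts.2.2.2.2.2.1 j hj2 i hi2)
    · exact Or.inr ⟨hi2, hj2⟩
  rcases hsplit with ⟨hi2, hj2⟩ | ⟨hi2, hj2⟩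
  · exact S.norm_four ⟨i, hi2, hi'⟩ ⟨j, hj2, hj'⟩
  · have := S.norm_four (g := S.ψ T8 * g) ⟨T8 * i * T8⁻¹, hTU i hi2, by
        rw [map_mul, map_mul, map_inv, ← hi']; group⟩
      ⟨T8 * j * T8⁻¹, hTU j hj2, by rw [map_mul, map_mul, map_inv, ← hj']; group⟩
    have h' := mul_mem (inv_mem (S.mem_range T8)) this
    rwa [inv_mul_cancel_left] at h'

variable [Finite G]

/-- An element normalising the image of a subgroup of the Sylow group of order sixty-four that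
contains the sixteen elements normalises these. -/
theorem norm_of_norm {Q : Subgroup A8} (hKQ : K8 ≤ Q) (hQ : Q ≤ P64) {g : G}
    (hg : g ∈ Subgroup.normalizer ((Q.map S.ψ : Subgroup G) : Set G)) :
    ∀ a ∈ kList, ∃ b ∈ kList, g * S.ψ a * g⁻¹ = S.ψ b := by
  have hinQ : ∀ a ∈ K8, ∃ b ∈ Q, g * S.ψ a * g⁻¹ = S.ψ b := by
    intro a ha
    obtain ⟨b, hb, e⟩ := (Subgroup.mem_normalizer_iff.mp hg _).mp (Subgroup.mem_map_of_mem S.ψ (hKQ ha))
    exact ⟨b, hb, e.symm⟩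
  let R : Subgroup A8 := ((K8.map S.ψ).map (MulAut.conj g).toMonoidHom).comap S.ψ
  have hRle : R ≤ Q := by
    intro r hr
    obtain ⟨_, ⟨a, ha, rfl⟩, e⟩ := hr
    obtain ⟨b, hb, e'⟩ := hinQ a ha
    have : S.ψ r = S.ψ b := e.symm.trans e'
    rwa [S.inj this]
  have hR2 : ∀ r ∈ R, r * r = 1 := by
    intro r hr
    obtain ⟨_, ⟨a, ha, rfl⟩, e⟩ := hr
    refine S.inj ?_
    rw [map_mul, map_one, ← e, ← map_mul, ← map_mul,
      (kList_facts.1 a (mem_K8_iff.1 ha)).2.2.2.2, map_one, map_one]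
  have hRc : Nat.card R = 16 := by
    have h1 : R.map S.ψ = (K8.map S.ψ).map (MulAut.conj g).toMonoidHom := by
      apply Subgroup.map_comap_eq_self
      rintro _ ⟨_, ⟨a, ha, rfl⟩, rfl⟩
      obtain ⟨b, -, e⟩ := hinQ a ha
      exact ⟨b, e.symm⟩
    have h2 := Subgroup.card_map_of_injective (K := R) S.inj
    rw [h1, Subgroup.card_map_of_injective (MulAut.conj g).injective,
      Subgroup.card_map_of_injective S.inj, card_K8] at h2
    exact h2.symm
  have hRK := unique_K8 (hRle.trans hQ) hR2 hRc.ge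
  intro a ha
  obtain ⟨b, -, e⟩ := hinQ a (mem_K8_iff.2 ha)
  exact ⟨b, mem_K8_iff.1 (hRK ⟨S.ψ a, Subgroup.mem_map_of_mem S.ψ (mem_K8_iff.2 ha), e⟩), e⟩

/-- The 2-subgroups of a centraliser above the standard one. -/
theorem sylow_std {Q : Subgroup A8} (hKQ : K8 ≤ Q) (hQ : Q ≤ P64) (b : A8)
    (hb : ∀ a ∈ Q, a * b = b * a)
    (hmax : ∀ H : Subgroup A8, IsPGroup 2 H → Q ≤ H → (∀ a ∈ H, a * b = b * a) → H ≤ Q)
    {R : Subgroup G} (hR : IsPGroup 2 R) (hRb : R ≤ Subgroup.centralizer {S.ψ b})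
    (hQR : Q.map S.ψ ≤ R) : R ≤ Q.map S.ψ := by
  refine le_of_normalizer_two hR hQR fun x hx hxN => ?_
  obtain ⟨a, rfl⟩ := S.norm_K (S.norm_of_norm hKQ hQ hxN)
  have ha : a ∈ R.comap S.ψ := hx
  have hH : IsPGroup 2 (R.comap S.ψ) := hR.comap_of_injective S.ψ S.inj
  exact ⟨a, hmax _ hH (fun c hc => hQR (Subgroup.mem_map_of_mem S.ψ hc))
    (fun c hc => (S.comm_iff c b).1 (mem_cent_singleton.mp (hRb hc))) ha, rfl⟩

theorem P64_comm : ∀ a ∈ P64, a * z8 = z8 * a := fun _ ha => (mem_P64.1 ha).1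

theorem P32_comm : ∀ a ∈ P32, a * w8 = w8 * a := fun _ ha => (mem_P32.1 ha).1

/-- The standard Sylow subgroup of the centraliser of the fixed point free involution. -/
theorem sylow_z {R : Subgroup G} (hR : IsPGroup 2 R) (hRb : R ≤ Subgroup.centralizer {S.ψ z8})
    (hQR : P64.map S.ψ ≤ R) : R ≤ P64.map S.ψ :=
  S.sylow_std (K8_le_P32.trans P32_le_P64) le_rfl z8 P64_comm
    (fun H hH hle _ => (Subgroup.eq_of_le_of_card_ge hle (by
      rw [card_P64]; exact two_group_card_le hH)).ge) hR hRb hQR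

/-- The standard Sylow subgroup of the centraliser of the other involution. -/
theorem sylow_w {R : Subgroup G} (hR : IsPGroup 2 R) (hRb : R ≤ Subgroup.centralizer {S.ψ w8})
    (hQR : P32.map S.ψ ≤ R) : R ≤ P32.map S.ψ :=
  S.sylow_std K8_le_P32 P32_le_P64 w8 P32_comm
    (fun H hH hle hc => (Subgroup.eq_of_le_of_card_ge hle (by
      haveI : Fact (Nat.Prime 2) := ⟨Nat.prime_two⟩
      obtain ⟨n, hn⟩ := IsPGroup.iff_card.mp hH
      have h1 : 2 ^ n ∣ 2 ^ 5 * 3 := by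
        rw [← hn, show 2 ^ 5 * 3 = Nat.card (Subgroup.centralizer ({w8} : Set A8)) by
          rw [show (2 ^ 5 * 3 : ℕ) = 96 by norm_num, ← AltEightNine.card_cent_w]
          exact Nat.card_congr (Equiv.subtypeEquivRight fun a => mem_cent_singleton.symm)]
        exact Subgroup.card_dvd_of_le fun a ha => mem_cent_singleton.mpr (hc a ha)
      rw [card_P32, hn]
      exact Nat.le_of_dvd (by norm_num)
        (((Nat.coprime_two_left.mpr (by decide)).pow_left n).dvd_of_dvd_mul_right h1))).ge)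
    hR hRb hQR

end Loc

end Cfsg.Lib.AltEightThree
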