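import Cfsg.Agent.Lib.AltEightThree.Sig
import Cfsg.Agent.Lib.AltEightThree.Link
import Cfsg.Agent.Lib.AltEightThree.Build
import Cfsg.Agent.Lib.AltEightNine.Core.Main

set_option autoImplicit false

/-!
The alternating group of degree eight from its 3-local data.
-/

namespace Cfsg.Lib.AltEightThree

universe u

variable {G : Type u} [Group G] [Finite G]

/-- The embedded alternating group of degree eight contains the centraliser of a long involution. -/
def Loc.toEmb (S : Loc G) : AltEightNine.Emb G := ⟨S.ψ, S.inj, S.cent_z, S.fus⟩

/-- A Sylow 3-subgroup of order nine leaves only degree eight. -/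
theorem Loc.equiv_eight (S : Loc G) (P : Sylow 3 G) (hP : Nat.card (P : Subgroup G) = 9) :
    Nonempty (G ≃* ↥(alternatingGroup (Fin 8))) := by
  rcases S.toEmb.classify with h | ⟨⟨e⟩⟩
  · exact h
  exfalso
  have hG : Nat.card G = 181440 := by
    rw [Nat.card_congr e.toEquiv, nat_card_alternatingGroup, Nat.card_fin]
    rfl
  have hi := (P : Subgroup G).card_mul_index
  rw [hP, hG] at hi
  have hn := P.not_dvd_index
  have : (P : Subgroup G).index = 20160 := by omega
  rw [this] at hn
  exact hn (by norm_num)

end Cfsg.Lib.AltEightThree
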