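import Cfsg.Agent.Lib.AltEightThree.CentS
import Cfsg.Agent.Lib.Sig.SSFT.Apply
import Cfsg.Agent.Lib.Coprime.Action
import Cfsg.Agent.Lib.AltEightThree.Cross
import Cfsg.Agent.S0205

set_option autoImplicit false
set_option linter.style.haveILetI false

/-!
The odd cores of the involution centralisers are trivial.
-/

namespace Cfsg.Lib.AltEightThree

open Equiv Equiv.Perm
open Cfsg.Lib.AltEightNine (A8 w8 z8 v8 c8 t8)

attribute [local instance 2000] List.decidableBAll List.decidableBEx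

universe u

theorem w_three {a : A8} (hw : a * w8 = w8 * a) (h3 : a ^ 3 = 1) : a ∈ [1, c8, c8 * c8] ∨
    ¬ (a * c8 * a⁻¹ ∈ [1, c8, c8 * c8]) := by
  have h := AltEightNine.cent_cases (fun σ => σ ^ 3 = 1 →
      σ ∈ [(1 : A8), c8, c8 * c8].map Subtype.val ∨
      ¬ σ * c8.1 * σ⁻¹ ∈ [(1 : A8), c8, c8 * c8].map Subtype.val) (by decide +kernel) hw
    (congrArg Subtype.val h3)
  rcases h with h | h
  · exact Or.inl (mem_of_val h)
  · exact Or.inr fun e => h (List.mem_map.2 ⟨_, e, rfl⟩)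

theorem y_three : ∀ a ∈ l6, a ^ 3 = 1 → a ∈ [1, y6, y6 * y6] := by decide +kernel

theorem d_norm : (∀ k ∈ kList, c8 * k * c8⁻¹ ∈ kList ∧ t8 0 * k * (t8 0)⁻¹ ∈ kList) ∧
    c8 * c8 * c8 = 1 ∧ c8 * w8 = w8 * c8 ∧ z8 ∈ kList ∧ w8 ∈ kList ∧
    (∀ k ∈ kList, k * z8 = z8 * k ∧ k * w8 = w8 * k) := by
  decide +kernel

theorem card_cent_z_dvd : Nat.card (Subgroup.centralizer ({z8} : Set A8)) ∣ 384 := by
  have h : Nat.card (Subgroup.centralizer ({z8.1} : Set (Perm (Fin 8)))) = 384 := by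
    rw [Equiv.Perm.nat_card_centralizer, show z8.1.cycleType = Multiset.replicate 4 2 by decide +kernel]
    decide +kernel
  have hmap : (Subgroup.centralizer ({z8} : Set A8)).map (alternatingGroup (Fin 8)).subtype ≤
      Subgroup.centralizer ({z8.1} : Set (Perm (Fin 8))) := by
    rintro _ ⟨a, ha, rfl⟩
    exact mem_cent_singleton.mpr (congrArg Subtype.val (mem_cent_singleton.mp ha))
  have := Subgroup.card_dvd_of_le hmap
  rwa [Subgroup.card_map_of_injective (alternatingGroup (Fin 8)).subtype_injective, h] at this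

/-- The two standard representatives. -/
theorem kList_conj {b : A8} (hb : b ∈ kList) (hb1 : b ≠ 1) :
    IsConj w8 b ∨ IsConj z8 b := by
  rcases AltEightNine.involution_cases (kList_facts.1 b hb).2.2.2.2 hb1 with h | ⟨h, -⟩
  · exact Or.inr h
  · exact Or.inl h

theorem card_cent_conj_dvd {b : A8} (hb : b ∈ kList) (hb1 : b ≠ 1) :
    Nat.card (Subgroup.centralizer ({b} : Set A8)) ∣ 384 := by
  rcases kList_conj hb hb1 with h | h <;> obtain ⟨g, rfl⟩ := isConj_iff.1 h <;> rw [card_cent_conj]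
  · have : Nat.card (Subgroup.centralizer ({w8} : Set A8)) = 96 := by
      rw [← AltEightNine.card_cent_w]
      exact Nat.card_congr (Equiv.subtypeEquivRight fun a => mem_cent_singleton)
    rw [this]; norm_num
  · exact card_cent_z_dvd

/-- The sixteen elements normalise no nontrivial odd subgroup of the centraliser of one of them. -/
theorem odd_triv {b : A8} (hb : b ∈ kList) (hb1 : b ≠ 1) (R : Subgroup A8) (hodd : Odd (Nat.card R))
    (hRb : ∀ r ∈ R, r * b = b * r) (hK : ∀ k ∈ kList, ∀ r ∈ R, k * r * k⁻¹ ∈ R) : R = ⊥ := by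
  have h1 : Nat.card R ∣ 2 ^ 7 * 3 := by
    rw [show 2 ^ 7 * 3 = 384 by norm_num]
    exact (Subgroup.card_dvd_of_le fun r hr => mem_cent_singleton.mpr (hRb r hr)).trans
      (card_cent_conj_dvd hb hb1)
  have h2 : Nat.card R ∣ 3 := ((Nat.coprime_two_right.mpr hodd).pow_right 7).dvd_of_dvd_mul_left h1
  rw [eq_bot_iff]
  intro r hr
  rw [Subgroup.mem_bot]
  by_contra hr1
  have hr3 : r ^ 3 = 1 := orderOf_dvd_iff_pow_eq_one.mp ((Subgroup.orderOf_dvd_natCard R hr).trans h2)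
  have hR : R = Subgroup.zpowers r := by
    refine (Subgroup.eq_of_le_of_card_ge (Subgroup.zpowers_le.mpr hr) ?_).symm
    rw [Nat.card_zpowers, orderOf_eq_prime hr3 hr1]
    exact Nat.le_of_dvd (by norm_num) h2
  refine no_three hr3 hr1 fun k hk => ?_
  have hmem := hK k hk r hr
  rw [hR] at hmem
  rcases zpowers_three hr3 hmem with h | h | h
  · exact absurd (conj_eq_one_iff.mp h) hr1
  · exact Or.inl h
  · exact Or.inr (by rw [h, eq_inv_iff_mul_eq_one, ← pow_succ, hr3])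

namespace Loc

variable {G : Type u} [Group G] [Finite G] (S : Loc G)

omit [Finite G] in
theorem OC_le (a : A8) : S.OC a ≤ Subgroup.centralizer {S.ψ a} := Subgroup.map_subtype_le _

theorem OC_odd (a : A8) : Odd (Nat.card (S.OC a)) := by
  rw [OC, Subgroup.card_map_of_injective (Subgroup.subtype_injective _)]
  exact ZStar.odd_card_oddCore

theorem OC_conj {a : A8} {g x : G} (hg : g * S.ψ a = S.ψ a * g) (hx : x ∈ S.OC a) :
    g * x * g⁻¹ ∈ S.OC a := by
  obtain ⟨x', hx', rfl⟩ := hx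
  exact ⟨⟨g, mem_cent_singleton.mpr hg⟩ * x' * ⟨g, mem_cent_singleton.mpr hg⟩⁻¹,
    (show (oddCore (Subgroup.centralizer ({S.ψ a} : Set G))).Normal from
      inferInstanceAs (Cfsg.pPrimeCore 2 (Subgroup.centralizer ({S.ψ a} : Set G))).Normal).conj_mem _ hx' _, rfl⟩

theorem OC_transport (a m : A8) {x : G} (hx : x ∈ S.OC a) :
    S.ψ m * x * (S.ψ m)⁻¹ ∈ S.OC (m * a * m⁻¹) := by
  set T := Subgroup.centralizer ({S.ψ a} : Set G)
  set T' := Subgroup.centralizer ({S.ψ (m * a * m⁻¹)} : Set G)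
  have hmem : ∀ t : T, S.ψ m * (t : G) * (S.ψ m)⁻¹ ∈ T' := by
    intro t
    rw [mem_cent_singleton, map_mul, map_mul, map_inv]
    calc S.ψ m * (t : G) * (S.ψ m)⁻¹ * (S.ψ m * S.ψ a * (S.ψ m)⁻¹)
        = S.ψ m * ((t : G) * S.ψ a) * (S.ψ m)⁻¹ := by group
      _ = S.ψ m * (S.ψ a * (t : G)) * (S.ψ m)⁻¹ := by rw [mem_cent_singleton.mp t.2]
      _ = _ := by group
  let f : T →* T' :=
    ((MulAut.conj (S.ψ m)).toMonoidHom.comp T.subtype).codRestrict T' hmem
  have hf : Function.Surjective f := by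
    intro t
    have ht := mem_cent_singleton.mp t.2
    rw [map_mul, map_mul, map_inv] at ht
    refine ⟨⟨(S.ψ m)⁻¹ * (t : G) * S.ψ m, mem_cent_singleton.mpr ?_⟩, Subtype.ext ?_⟩
    · calc (S.ψ m)⁻¹ * (t : G) * S.ψ m * S.ψ a
          = (S.ψ m)⁻¹ * ((t : G) * (S.ψ m * S.ψ a * (S.ψ m)⁻¹)) * S.ψ m := by group
        _ = (S.ψ m)⁻¹ * (S.ψ m * S.ψ a * (S.ψ m)⁻¹ * (t : G)) * S.ψ m := by rw [ht]
        _ = _ := by group
    · show S.ψ m * ((S.ψ m)⁻¹ * (t : G) * S.ψ m) * (S.ψ m)⁻¹ = (t : G)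
      group
  obtain ⟨x', hx', rfl⟩ := hx
  exact ⟨f x', Core.map_pPrimeCore_le (p := 2) f hf (Subgroup.mem_map_of_mem f hx'), rfl⟩

theorem Cover.conj {a : A8} (h : S.Cover a) (m : A8) : S.Cover (m * a * m⁻¹) := by
  intro g hg
  rw [map_mul, map_mul, map_inv] at hg
  have hg' : ((S.ψ m)⁻¹ * g * S.ψ m) * S.ψ a = S.ψ a * ((S.ψ m)⁻¹ * g * S.ψ m) := by
    calc (S.ψ m)⁻¹ * g * S.ψ m * S.ψ a
        = (S.ψ m)⁻¹ * (g * (S.ψ m * S.ψ a * (S.ψ m)⁻¹)) * S.ψ m := by group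
      _ = (S.ψ m)⁻¹ * (S.ψ m * S.ψ a * (S.ψ m)⁻¹ * g) * S.ψ m := by rw [hg]
      _ = _ := by group
  obtain ⟨o, ho, n, e⟩ := h _ hg'
  refine ⟨S.ψ m * o * (S.ψ m)⁻¹, S.OC_transport a m ho, m * n * m⁻¹, ?_⟩
  calc g = S.ψ m * ((S.ψ m)⁻¹ * g * S.ψ m) * (S.ψ m)⁻¹ := by group
    _ = S.ψ m * (o * S.ψ n) * (S.ψ m)⁻¹ := by rw [e]
    _ = _ := by rw [map_mul, map_mul, map_inv]; group

theorem cover_all {b : A8} (hb : b ∈ kList) (hb1 : b ≠ 1) : S.Cover b := by
  rcases kList_conj hb hb1 with h | h <;> obtain ⟨m, rfl⟩ := isConj_iff.1 h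
  · exact Cover.conj S S.cover_w m
  · exact Cover.conj S S.cover_z m

theorem OC_disj {b : A8} (hb : b ∈ kList) (hb1 : b ≠ 1) {m : A8} (hm : S.ψ m ∈ S.OC b) : m = 1 := by
  have hR := odd_triv hb hb1 ((S.OC b).comap S.ψ) (by
      have h : ((S.OC b).comap S.ψ).map S.ψ ≤ S.OC b := Subgroup.map_comap_le _ _
      have h2 := Subgroup.card_dvd_of_le h
      rw [Subgroup.card_map_of_injective S.inj] at h2
      exact (S.OC_odd b).of_dvd_nat h2)
    (fun r hr => (S.comm_iff r b).1 (mem_cent_singleton.mp (S.OC_le b hr)))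
    (fun k hk r hr => by
      rw [Subgroup.mem_comap, map_mul, map_mul, map_inv]
      exact S.OC_conj ((S.comm_iff k b).2 (kList_facts.2.1 k hk b hb)) hr)
  exact (Subgroup.mem_bot.mp (hR ▸ (show m ∈ (S.OC b).comap S.ψ from hm)))

/-- An odd subgroup of the centraliser normalised by the sixteen elements lies in the odd core. -/
theorem le_OC {b : A8} (hb : b ∈ kList) (hb1 : b ≠ 1) (X : Subgroup G)
    (hX : X ≤ Subgroup.centralizer {S.ψ b}) (hodd : Odd (Nat.card X))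
    (hK : ∀ k ∈ kList, ∀ x ∈ X, S.ψ k * x * (S.ψ k)⁻¹ ∈ X) : X ≤ S.OC b := by
  set T := Subgroup.centralizer ({S.ψ b} : Set G)
  haveI : (oddCore T).Normal := inferInstanceAs (Cfsg.pPrimeCore 2 T).Normal
  let f : Subgroup.centralizer ({b} : Set A8) →* T ⧸ oddCore T :=
    (QuotientGroup.mk' (oddCore T)).comp
      ((S.ψ.comp (Subgroup.centralizer ({b} : Set A8)).subtype).codRestrict T fun a =>
        mem_cent_singleton.mpr ((S.comm_iff (a : A8) b).2 (mem_cent_singleton.mp a.2)))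
  set Y := (X.subgroupOf T).map (QuotientGroup.mk' (oddCore T))
  have hfinj : Function.Injective f := by
    rw [injective_iff_map_eq_one]
    intro a ha
    refine Subtype.ext (S.OC_disj hb hb1 ?_)
    exact ⟨_, (QuotientGroup.eq_one_iff _).1 ha, rfl⟩
  have hY : Odd (Nat.card Y) := by
    refine hodd.of_dvd_nat ((Core.card_map_dvd _ _).trans ?_)
    rw [Nat.card_congr (Subgroup.subgroupOfEquivOfLe hX).toEquiv]
  let R : Subgroup A8 := (Y.comap f).map (Subgroup.centralizer ({b} : Set A8)).subtype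
  have hR : R = ⊥ := by
    refine odd_triv hb hb1 R ?_ ?_ ?_
    · refine hY.of_dvd_nat ?_
      rw [Subgroup.card_map_of_injective (Subgroup.subtype_injective _)]
      have h := Subgroup.card_dvd_of_le (Subgroup.map_comap_le f Y)
      rwa [Subgroup.card_map_of_injective hfinj] at h
    · rintro _ ⟨a, -, rfl⟩
      exact mem_cent_singleton.mp a.2
    · rintro k hk _ ⟨a, ha, rfl⟩
      have hkb : k ∈ Subgroup.centralizer ({b} : Set A8) :=
        mem_cent_singleton.mpr (kList_facts.2.1 k hk b hb)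
      obtain ⟨x, hx, hxe⟩ := ha
      let kT : T := ⟨S.ψ k, mem_cent_singleton.mpr ((S.comm_iff k b).2 (kList_facts.2.1 k hk b hb))⟩
      refine ⟨⟨k, hkb⟩ * a * ⟨k, hkb⟩⁻¹, ⟨kT * x * kT⁻¹, hK k hk _ hx, ?_⟩, rfl⟩
      rw [map_mul, map_mul, map_inv, map_mul, map_mul, map_inv, hxe]
      rfl
  intro x hx
  obtain ⟨o, ho, m, e⟩ := S.cover_all hb hb1 x (mem_cent_singleton.mp (hX hx))
  have hmb : m * b = b * m := by
    have h1 : (o⁻¹ * x) ∈ T := mul_mem (inv_mem (S.OC_le b ho)) (hX hx)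
    rw [e, inv_mul_cancel_left] at h1
    exact (S.comm_iff m b).1 (mem_cent_singleton.mp h1)
  obtain ⟨o', ho', hoe⟩ := ho
  have hm : m ∈ R := by
    refine ⟨⟨m, mem_cent_singleton.mpr hmb⟩, ⟨⟨x, hX hx⟩, hx, ?_⟩, rfl⟩
    have hxT : (⟨x, hX hx⟩ : T) = o' * ⟨S.ψ m, mem_cent_singleton.mpr ((S.comm_iff m b).2 hmb)⟩ :=
      Subtype.ext (e.trans (congrArg (· * S.ψ m) hoe.symm))
    rw [hxT, map_mul, show QuotientGroup.mk' (oddCore T) o' = 1 from (QuotientGroup.eq_one_iff o').2 ho',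
      one_mul]
    rfl
  rw [hR, Subgroup.mem_bot] at hm
  rw [e, hm, map_one, mul_one]
  exact ⟨o', ho', hoe⟩

omit [Finite G] in
theorem three_pow_cube {a : A8} {b : A8} {n : ℕ} (hd : Nat.card (Subgroup.centralizer ({b} : Set A8)) ∣ 2 ^ 7 * 3)
    (hab : a * b = b * a) (he : a ^ 3 ^ n = 1) : a ^ 3 = 1 := by
  refine orderOf_dvd_iff_pow_eq_one.mp ?_
  have h1 := orderOf_dvd_of_pow_eq_one he
  have h2 := (Subgroup.orderOf_dvd_natCard _ (mem_cent_singleton.mpr hab)).trans hd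
  exact ((Nat.Coprime.pow n 7 (by norm_num : Nat.Coprime 3 2)).coprime_dvd_left h1).dvd_of_dvd_mul_left h2

theorem OC_three {b : A8} (hb : b ∈ kList) (hb1 : b ≠ 1) : ¬ 3 ∣ Nat.card (S.OC b) := by
  have base : ∀ b₀ q : A8, b₀ ∈ kList → b₀ ≠ 1 → q ^ 3 = 1 → q * b₀ = b₀ * q →
      (∀ x : G, x * S.ψ b₀ = S.ψ b₀ * x → x * S.ψ q * x⁻¹ ∈ Subgroup.zpowers (S.ψ q) →
        (∃ k : ℕ, x ^ 3 ^ k = 1) → x ∈ Subgroup.zpowers (S.ψ q)) →
      ¬ 3 ∣ Nat.card (S.OC b₀) := by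
    intro b₀ q hb₀ hb₀1 hq3 hqb hN hdvd
    haveI : Fact (Nat.Prime 3) := ⟨Nat.prime_three⟩
    obtain ⟨⟨x, hx⟩, hx3⟩ := exists_prime_orderOf_dvd_card' (G := S.OC b₀) 3 hdvd
    rw [Subgroup.orderOf_mk] at hx3
    obtain ⟨c, hc, hcx⟩ := exists_conj_into (Subgroup.centralizer {S.ψ b₀}) (S.ψ q)
      (mem_cent_singleton.mpr ((S.comm_iff q b₀).2 hqb)) (by rw [← map_pow, hq3, map_one])
      (fun y hy hn h3 => hN y (mem_cent_singleton.mp hy) hn h3)
      (S.OC_le b₀ hx) (by rw [← hx3, pow_orderOf_eq_one])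
    obtain ⟨k, hk⟩ := hcx
    have hmem := S.OC_conj (mem_cent_singleton.mp hc) hx
    simp only at hk
    rw [← hk, show (S.ψ q) ^ k = S.ψ (q ^ k) from (map_zpow S.ψ q k).symm] at hmem
    have h1 : S.ψ q ^ k = 1 := by rw [← map_zpow, S.OC_disj hb₀ hb₀1 hmem, map_one]
    simp only [h1] at hk
    have hx1 : x = 1 := conj_eq_one_iff.mp hk.symm
    rw [hx1, orderOf_one] at hx3
    omega
  have hw : ¬ 3 ∣ Nat.card (S.OC w8) := by
    refine base w8 c8 (d_norm.2.2.2.2.1) AltEightNine.ne_facts.1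
      (by rw [pow_three, ← mul_assoc]; exact d_norm.2.1) d_norm.2.2.1 ?_
    rintro x hx hn ⟨k, hk⟩
    obtain ⟨a, rfl⟩ := S.nz x hn
    have ha3 : a ^ 3 = 1 := three_pow_cube
      ((dvd_trans (card_cent_conj_dvd d_norm.2.2.2.2.1 AltEightNine.ne_facts.1) (by norm_num)))
      ((S.comm_iff a w8).1 hx) (S.inj (by rw [map_pow, hk, map_one]))
    have hac : a * c8 * a⁻¹ ∈ [1, c8, c8 * c8] := by
      rcases zpowers_three (by rw [← map_pow, pow_three, ← mul_assoc, d_norm.2.1, map_one]) hn with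
        h | h | h
      · rw [← map_inv, ← map_mul, ← map_mul, ← map_one S.ψ] at h
        simp [S.inj h]
      · rw [← map_inv, ← map_mul, ← map_mul] at h
        simp [S.inj h]
      · rw [← map_inv, ← map_mul, ← map_mul, ← map_pow, pow_two] at h
        simp [S.inj h]
    have h := (w_three ((S.comm_iff a w8).1 hx) ha3).resolve_right (fun h => h hac)
    simp only [List.mem_cons, List.not_mem_nil, or_false] at h
    rcases h with rfl | rfl | rfl
    · rw [map_one]; exact one_mem _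
    · exact Subgroup.mem_zpowers _
    · rw [map_mul]; exact mul_mem (Subgroup.mem_zpowers _) (Subgroup.mem_zpowers _)
  have hz : ¬ 3 ∣ Nat.card (S.OC z8) := by
    refine base z8 y6 (d_norm.2.2.2.1) AltEightNine.ne_facts.2.1 y6_facts.1 y6_facts.2.2.1 ?_
    rintro x hx hn ⟨k, hk⟩
    have hy3 : S.ψ y6 ^ 3 = 1 := by rw [← map_pow, y6_facts.1, map_one]
    have hyne : S.ψ y6 ≠ 1 := fun h => y6_facts.2.1 (S.inj (h.trans (map_one _).symm))
    have hcomm : x * S.ψ y6 = S.ψ y6 * x := by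
      rcases zpowers_three hy3 hn with h | h | h
      · exact absurd (conj_eq_one_iff.mp h) hyne
      · exact mul_inv_eq_iff_eq_mul.mp h
      · exfalso
        have key : ∀ n : ℕ, x ^ n * S.ψ y6 * (x ^ n)⁻¹ = S.ψ y6 ^ 2 ^ n := by
          intro n
          induction n with
          | zero => simp
          | succ n ih =>
            calc x ^ (n + 1) * S.ψ y6 * (x ^ (n + 1))⁻¹
                = x * (x ^ n * S.ψ y6 * (x ^ n)⁻¹) * x⁻¹ := by rw [pow_succ']; group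
              _ = x * S.ψ y6 ^ 2 ^ n * x⁻¹ := by rw [ih]
              _ = (x * S.ψ y6 * x⁻¹) ^ 2 ^ n := (conj_pow).symm
              _ = S.ψ y6 ^ 2 ^ (n + 1) := by rw [h, ← pow_mul, pow_succ']
        have h' := key (3 ^ k)
        rw [hk, one_mul, inv_one, mul_one] at h'
        obtain ⟨j, hj⟩ : Odd (3 ^ k) := (show Odd 3 by decide).pow
        have hmod : 2 ^ (3 ^ k) % 3 = 2 := by
          rw [hj, pow_succ, pow_mul, Nat.mul_mod, Nat.pow_mod]
          norm_num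
        rw [pow_eq_pow_mod _ hy3, hmod, pow_two] at h'
        exact hyne (mul_eq_left.mp h'.symm)
    obtain ⟨a, rfl⟩ := S.cy x hcomm
    have ha3 : a ^ 3 = 1 := three_pow_cube (dvd_trans card_cent_z_dvd (by norm_num))
      ((S.comm_iff a z8).1 hx) (S.inj (by rw [map_pow, hk, map_one]))
    have hm := y_three a (cent_y6_z ((S.comm_iff a y6).1 hcomm) ((S.comm_iff a z8).1 hx)) ha3
    simp only [List.mem_cons, List.not_mem_nil, or_false] at hm
    rcases hm with rfl | rfl | rfl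
    · rw [map_one]; exact one_mem _
    · exact Subgroup.mem_zpowers _
    · rw [map_mul]; exact mul_mem (Subgroup.mem_zpowers _) (Subgroup.mem_zpowers _)
  have tr : ∀ a m : A8, ¬ 3 ∣ Nat.card (S.OC a) → ¬ 3 ∣ Nat.card (S.OC (m * a * m⁻¹)) := by
    intro a m h hd
    refine h (hd.trans ?_)
    have hle : (S.OC (m * a * m⁻¹)).map (MulAut.conj (S.ψ m)⁻¹).toMonoidHom ≤ S.OC a := by
      rintro _ ⟨x, hx, rfl⟩
      have := S.OC_transport _ m⁻¹ hx
      rw [show m⁻¹ * (m * a * m⁻¹) * m⁻¹⁻¹ = a by group, map_inv] at this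
      simpa using this
    have := Subgroup.card_dvd_of_le hle
    rwa [Subgroup.card_map_of_injective (MulAut.conj _).injective] at this
  rcases kList_conj hb hb1 with h | h <;> obtain ⟨m, rfl⟩ := isConj_iff.1 h
  · exact tr _ m hw
  · exact tr _ m hz

/-- All the odd cores are trivial. -/
theorem OC_bot {b : A8} (hb : b ∈ kList) (hb1 : b ≠ 1) : S.OC b = ⊥ := by
  classical
  haveI : Fact (Nat.Prime 2) := ⟨Nat.prime_two⟩
  set A := K8.map S.ψ
  let θ : G → Subgroup G := fun g => if h : ∃ a ∈ kList, S.ψ a = g then S.OC h.choose else ⊥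
  have hθ : ∀ a ∈ kList, θ (S.ψ a) = S.OC a := by
    intro a ha
    have h : ∃ a' ∈ kList, S.ψ a' = S.ψ a := ⟨a, ha, rfl⟩
    simp only [θ, dif_pos h]
    rw [S.inj h.choose_spec.2]
  have hA : ∀ g ∈ A, g ≠ 1 → ∃ a ∈ kList, a ≠ 1 ∧ g = S.ψ a := by
    rintro _ ⟨a, ha, rfl⟩ hg
    exact ⟨a, mem_K8_iff.1 ha, fun h => hg (by rw [h, map_one]), rfl⟩
  have hAk : ∀ a ∈ kList, S.ψ a ∈ A := fun a ha => Subgroup.mem_map_of_mem S.ψ (mem_K8_iff.2 ha)
  have helem : Cfsg.IsElementaryAbelian 2 A := by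
    refine ⟨⟨⟨fun p q => ?_⟩⟩, fun p hp => ?_⟩
    · obtain ⟨a, ha, ea⟩ := p.2
      obtain ⟨c, hc, ec⟩ := q.2
      refine Subtype.ext ?_
      change (p : G) * q = q * p
      rw [← ea, ← ec, ← map_mul, ← map_mul, kList_facts.2.1 a (mem_K8_iff.1 ha) c (mem_K8_iff.1 hc)]
    · obtain ⟨a, ha, rfl⟩ := hp
      rw [← map_pow, pow_two, (kList_facts.1 a (mem_K8_iff.1 ha)).2.2.2.2, map_one]
  have hS : Sig.SSFT.Setup 2 A θ := by
    refine ⟨helem, ?_, ⟨fun g hg hg1 => ?_, fun g hg hg1 => ?_, fun g hg hg1 c hc x hx => ?_,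
      fun g hg hg1 c hc hc1 => ?_⟩, fun g hg hg1 => ?_⟩
    · rw [Subgroup.card_map_of_injective S.inj, card_K8]; norm_num
    · obtain ⟨a, ha, -, rfl⟩ := hA g hg hg1
      rw [hθ a ha]; exact S.OC_le a
    · obtain ⟨a, ha, -, rfl⟩ := hA g hg hg1
      rw [hθ a ha, ← even_iff_two_dvd, Nat.not_even_iff_odd]
      exact S.OC_odd a
    · obtain ⟨a, ha, -, rfl⟩ := hA g hg hg1
      rw [hθ a ha] at hx ⊢
      obtain ⟨a', ha', rfl⟩ := hc
      exact S.OC_conj ((S.comm_iff a' a).2 (kList_facts.2.1 a' (mem_K8_iff.1 ha') a ha)) hx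
    · obtain ⟨a, ha, ha1, rfl⟩ := hA g hg hg1
      obtain ⟨a', ha', ha'1, rfl⟩ := hA c hc hc1
      rw [hθ a ha, hθ a' ha']
      refine S.le_OC ha' ha'1 _ inf_le_right ((S.OC_odd a).of_dvd_nat
        (Subgroup.card_dvd_of_le inf_le_left)) fun k hk x hx => ⟨S.OC_conj
          ((S.comm_iff k a).2 (kList_facts.2.1 k hk a ha)) hx.1, ?_⟩
      have h1 : Commute (S.ψ k) (S.ψ a') := (S.comm_iff k a').2 (kList_facts.2.1 k hk a' ha')
      exact mem_cent_singleton.mpr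
        ((h1.mul_left (mem_cent_singleton.mp hx.2)).mul_left h1.inv_left).eq
    · obtain ⟨a, ha, -, rfl⟩ := hA g hg hg1
      rw [hθ a ha]
      exact Cfsg.Agent.S0205.result (S.OC_odd a)
  set W := ⨆ a : {a : G // a ∈ A ∧ a ≠ 1}, θ a with hW
  have hWF := hS.closure_mem
  have hWc : ∀ a ∈ kList, a ≠ 1 → W ⊓ Subgroup.centralizer {S.ψ a} ≤ S.OC a := fun a ha ha1 => by
    rw [← hθ a ha]
    exact hWF.2.2.2 _ (hAk a ha) fun h => ha1 (S.inj (h.trans (map_one _).symm))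
  have hWodd : Odd (Nat.card W) := by
    rw [← Nat.not_even_iff_odd, even_iff_two_dvd]; exact hWF.2.1
  have hAW : A ≤ Subgroup.normalizer (W : Set G) := hS.le_normalizer_mem hWF
  have hcop : (Nat.card A).Coprime (Nat.card W) := hS.coprime hWF.2.1
  have hnc : ¬ IsCyclic A := by
    intro hcyc
    obtain ⟨⟨g, hg⟩, hgen⟩ := hcyc.exists_generator
    have hsub : A ≤ Subgroup.zpowers g := fun x hx => by
      obtain ⟨k, hk⟩ := hgen ⟨x, hx⟩
      exact ⟨k, congrArg Subtype.val hk⟩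
    have h1 := Subgroup.card_le_of_le hsub
    rw [Subgroup.card_map_of_injective S.inj, card_K8, Nat.card_zpowers] at h1
    have := orderOf_le_of_pow_eq_one (by norm_num) (helem.2 g hg)
    omega
  haveI := helem.1
  have gen : ∀ X ≤ W, A ≤ Subgroup.normalizer (X : Set G) →
      ∀ Y : Subgroup G, (∀ a ∈ kList, a ≠ 1 → X ⊓ Subgroup.centralizer {S.ψ a} ≤ Y) → X ≤ Y := by
    intro X hXW hAX Y h
    refine (Coprime.le_iSup_centralizer_of_not_isCyclic hnc hAX
      (hcop.coprime_dvd_right (Subgroup.card_dvd_of_le hXW))).trans (iSup_le ?_)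
    rintro ⟨g, hg, hg1⟩
    obtain ⟨a, ha, ha1, rfl⟩ := hA g hg hg1
    exact h a ha ha1
  have hW3 : (Nat.card W).Coprime 3 := by
    haveI : Fact (Nat.Prime 3) := ⟨Nat.prime_three⟩
    obtain ⟨R, hR⟩ := Coprime.exists_invariant_sylow hAW hcop
      (Or.inr (Cfsg.Agent.S0205.result hWodd)) 3
    have hRW : (R : Subgroup W).map W.subtype ≤ W := Subgroup.map_subtype_le _
    have hR1 : (R : Subgroup W).map W.subtype ≤ ⊥ := by
      refine gen _ hRW hR ⊥ fun a ha ha1 x hx => ?_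
      rw [Subgroup.mem_bot]
      have hxO : x ∈ S.OC a := hWc a ha ha1 ⟨hRW hx.1, hx.2⟩
      by_contra hx1
      obtain ⟨n, hn⟩ := R.isPGroup'.map W.subtype ⟨x, hx.1⟩
      have hn' : x ^ 3 ^ n = 1 := congrArg Subtype.val hn
      obtain ⟨i, -, hi⟩ := (Nat.dvd_prime_pow Nat.prime_three).mp (orderOf_dvd_of_pow_eq_one hn')
      have hi0 : i ≠ 0 := fun h => hx1 (orderOf_eq_one_iff.mp (by rw [hi, h, pow_zero]))
      exact S.OC_three ha ha1 ((dvd_pow_self 3 hi0).trans (hi ▸ Subgroup.orderOf_dvd_natCard _ hxO))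
    rw [Nat.coprime_comm, Nat.prime_three.coprime_iff_not_dvd]
    intro hd
    have h3 := R.dvd_card_of_dvd_card hd
    rw [le_bot_iff] at hR1
    rw [← Subgroup.card_map_of_injective (K := (R : Subgroup W)) W.subtype_injective, hR1,
      Subgroup.card_bot] at h3
    norm_num at h3
  have hnormW : ∀ d : A8, (∀ k ∈ kList, d * k * d⁻¹ ∈ kList) →
      S.ψ d ∈ Subgroup.normalizer (W : Set G) := by
    intro d hd
    refine mem_normalizer_of_forall fun x hx => ?_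
    have hle : W ≤ W.comap (MulAut.conj (S.ψ d)).toMonoidHom := by
      refine iSup_le ?_
      rintro ⟨g, hg, hg1⟩ y hy
      obtain ⟨a, ha, ha1, rfl⟩ := hA g hg hg1
      rw [hθ a ha] at hy
      have h2 := S.OC_transport a d hy
      rw [← hθ _ (hd a ha)] at h2
      exact (le_iSup (fun a : {a : G // a ∈ A ∧ a ≠ 1} => θ a)
        ⟨S.ψ (d * a * d⁻¹), hAk _ (hd a ha),
          fun h => ha1 (conj_eq_one_iff.mp (S.inj (h.trans (map_one _).symm)))⟩) h2
    exact hle hx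
  have hWM : W ≤ S.ψ.range := S.inv W hW3
    (hnormW c8 fun k hk => (d_norm.1 k hk).1) (hnormW (t8 0) fun k hk => (d_norm.1 k hk).2)
  have hW1 : W ≤ ⊥ := by
    refine gen W le_rfl hAW ⊥ fun a ha ha1 x hx => ?_
    obtain ⟨m, rfl⟩ := hWM hx.1
    rw [Subgroup.mem_bot, S.OC_disj ha ha1 (hWc a ha ha1 hx), map_one]
  rw [eq_bot_iff]
  refine le_trans ?_ hW1
  rw [← hθ b hb]
  exact le_iSup (fun a : {a : G // a ∈ A ∧ a ≠ 1} => θ a)
    ⟨S.ψ b, hAk b hb, fun h => hb1 (S.inj (h.trans (map_one _).symm))⟩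

/-- The centraliser of the fixed point free involution lies in the embedded group. -/
theorem cent_z : Subgroup.centralizer ({S.ψ z8} : Set G) ≤ S.ψ.range := by
  intro g hg
  obtain ⟨o, ho, m, rfl⟩ := S.cover_z g (mem_cent_singleton.mp hg)
  rw [S.OC_bot d_norm.2.2.2.1 AltEightNine.ne_facts.2.1, Subgroup.mem_bot] at ho
  rw [ho, one_mul]
  exact ⟨m, rfl⟩

end Loc

end Cfsg.Lib.AltEightThree
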